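import Groth.Agent.AGFQuot23.Flag

/-!
# Conjugacy of Borel subgroups and properness of their quotients
-/

set_option autoImplicit false
set_option backward.isDefEq.respectTransparency false
set_option linter.style.haveILetI false

universe u

open CategoryTheory CategoryTheory.Limits MonoidalCategory CartesianMonoidalCategory MonObj GrpObj AlgebraicGeometry

namespace Groth.Agent.AGFQuot23

variable {k : Type u} [Field k] {G : Over (Spec (CommRingCat.of k))} [GrpObj G]

/-- A rational point as a constant morphism. -/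
noncomputable abbrev cst (W : Over (Spec (CommRingCat.of k)))
    (g : 𝟙_ (Over (Spec (CommRingCat.of k))) ⟶ G) : W ⟶ G := toUnit W ≫ g

/-- Conjugation by a rational point, `x ↦ g⁻¹ x g`. -/
noncomputable def cj (g : 𝟙_ (Over (Spec (CommRingCat.of k))) ⟶ G) : G ⟶ G := (cst G g)⁻¹ * 𝟙 G * cst G g

theorem comp_cj {W : Over (Spec (CommRingCat.of k))} (f : W ⟶ G) (g : 𝟙_ (Over (Spec (CommRingCat.of k))) ⟶ G) :
    f ≫ cj g = (cst W g)⁻¹ * f * cst W g := by
  simp only [cj, cst, MonObj.comp_mul, GrpObj.comp_inv, Category.comp_id]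
  simp only [← Category.assoc, comp_toUnit]

instance (g : 𝟙_ (Over (Spec (CommRingCat.of k))) ⟶ G) : IsMonHom (cj g) where
  one_hom := by
    rw [comp_cj, show η[G] = (1 : 𝟙_ (Over (Spec (CommRingCat.of k))) ⟶ G) from by
      rw [Hom.one_def, toUnit_unique (toUnit _) (𝟙 _), Category.id_comp]]
    group
  mul_hom := by
    have h : μ[G] = fst G G * snd G G := by rw [Hom.mul_def, lift_fst_snd, Category.id_comp]
    rw [comp_cj, show (cj g ⊗ₘ cj g) ≫ μ[G] = (fst G G ≫ cj g) * (snd G G ≫ cj g) from ?_, comp_cj, comp_cj, h]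
    · group
    · rw [h, MonObj.comp_mul, tensorHom_fst, tensorHom_snd]

theorem cj_comp (g g' : 𝟙_ (Over (Spec (CommRingCat.of k))) ⟶ G) : cj g ≫ cj g' = cj (g * g') := by
  rw [comp_cj, cj, cj]
  simp only [cst, MonObj.comp_mul]
  group

theorem cj_one : cj (1 : 𝟙_ (Over (Spec (CommRingCat.of k))) ⟶ G) = 𝟙 G := by
  simp [cj, cst, MonObj.comp_one]

/-- Conjugation by a rational point as an automorphism. -/
noncomputable def cjIso (g : 𝟙_ (Over (Spec (CommRingCat.of k))) ⟶ G) : G ≅ G where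
  hom := cj g
  inv := cj g⁻¹
  hom_inv_id := by rw [cj_comp, mul_inv_cancel, cj_one]
  inv_hom_id := by rw [cj_comp, inv_mul_cancel, cj_one]

instance (g : 𝟙_ (Over (Spec (CommRingCat.of k))) ⟶ G) : IsIso (cj g) := Iso.isIso_hom (cjIso g)

theorem isBorelOver_comp_cj [IsAlgClosed k] {B : Over (Spec (CommRingCat.of k))} [GrpObj B] {i : B ⟶ G}
    (h : Red.IsBorelOver k i) (g : 𝟙_ (Over (Spec (CommRingCat.of k))) ⟶ G) : Red.IsBorelOver k (i ≫ cj g) := by
  obtain ⟨hi, hcl, hsm, hconn, hsolv, hmax⟩ := h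
  haveI := hi
  haveI := hcl
  haveI : IsIso (cj g).left := inferInstanceAs (IsIso ((Over.forget _).map (cj g)))
  refine ⟨inferInstance, by rw [Over.comp_left]; infer_instance, hsm, hconn, hsolv,
    fun B' _ i' _ f hcl' hsm' hconn' hsolv' hf => ?_⟩
  haveI := hcl'
  haveI : IsIso (cj g⁻¹).left := inferInstanceAs (IsIso ((Over.forget _).map (cj g⁻¹)))
  refine hmax B' (i' ≫ cj g⁻¹) f (by rw [Over.comp_left]; infer_instance) hsm' hconn' hsolv' ?_
  rw [reassoc_of% hf, cj_comp, mul_inv_cancel, cj_one, Category.comp_id]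

/-- A smooth connected solvable subgroup fixes a point of a proper quotient. -/
theorem exists_factor_of_isProper [IsAlgClosed k] [IsAffine G.left] [Smooth G.hom]
    {B H X : Over (Spec (CommRingCat.of k))} [GrpObj B] [GrpObj H] (i : B ⟶ G) [IsMonHom i]
    [IsClosedImmersion i.left] [Smooth B.hom] [ConnectedSpace B.left] (hs : Red.IsSolvableGrp B) {iH : H ⟶ G}
    {a : AlgGrp.Action G X} {o : 𝟙_ (Over (Spec (CommRingCat.of k))) ⟶ X} (hX : AGF.IsQuotient iH X a o)
    (hp : IsProper X.hom) :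
    ∃ (g : 𝟙_ (Over (Spec (CommRingCat.of k))) ⟶ G) (h : B ⟶ H), h ≫ iH = i ≫ cj g := by
  obtain ⟨hLX, hflat, hsur, hpb⟩ := hX
  haveI := hp; haveI := hsur
  haveI : IsAffine B.left := isAffine_of_isAffineHom i.left
  haveI : Group.IsSolvable (𝟙_ (Over (Spec (CommRingCat.of k))) ⟶ B) := by
    obtain ⟨n, hn⟩ := hs
    exact ⟨⟨n, hn _⟩⟩
  haveI : Nonempty X.left := ⟨o.left (IsLocalRing.closedPoint k)⟩
  obtain ⟨x, hx⟩ := AlgGrpLib.BorelFixed.exists_isFixedPt B X (restrictAction a i)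
  obtain ⟨g, rfl⟩ := exists_ratPoint_lift (a.orbitMap o) x
  let gB : B ⟶ G := toUnit B ≫ g
  have hfix : gB ≫ a.orbitMap o = (i * gB) ≫ a.orbitMap o := by
    have h := hx B (𝟙 B)
    rw [mul_comp_orbitMap, Category.assoc]
    refine h.symm.trans ?_
    show lift (𝟙 B) (toUnit B ≫ g ≫ a.orbitMap o) ≫ (i ▷ X) ≫ a.act = _
    rw [lift_whiskerRight_assoc, Category.id_comp]
  obtain ⟨t, ht₁, ht₂⟩ := hpb.exists_lift _ _ hfix
  refine ⟨g, t ≫ snd G H, ?_⟩
  rw [RedQuotLib.act_eq, ht₁] at ht₂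
  rw [comp_cj, _root_.mul_assoc, ← ht₂, inv_mul_cancel_left]

variable [IsAlgClosed k] [IsAffine G.left] [Smooth G.hom]

/-- A Borel subgroup is conjugate to a solvable subgroup with proper quotient. -/
theorem exists_iso_of_isProper {B H X : Over (Spec (CommRingCat.of k))} [GrpObj B] [GrpObj H] {iB : B ⟶ G}
    (hB : Red.IsBorelOver k iB) {iH : H ⟶ G} [IsMonHom iH] (hcl : IsClosedImmersion iH.left) [Smooth H.hom]
    [ConnectedSpace H.left] (hs : Red.IsSolvableGrp H)
    {a : AlgGrp.Action G X} {o : 𝟙_ (Over (Spec (CommRingCat.of k))) ⟶ X} (hX : AGF.IsQuotient iH X a o)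
    (hp : IsProper X.hom) :
    ∃ (g : 𝟙_ (Over (Spec (CommRingCat.of k))) ⟶ G) (f : B ≅ H), f.hom ≫ iH = iB ≫ cj g := by
  obtain ⟨hi, hcl', hsm, hconn, hsolv, hmax⟩ := hB
  haveI := hi; haveI := hcl'; haveI := hsm; haveI := hconn; haveI := hcl
  obtain ⟨g, h, hh⟩ := exists_factor_of_isProper iB hsolv hX hp
  haveI : IsIso (cj g⁻¹).left := inferInstanceAs (IsIso ((Over.forget _).map (cj g⁻¹)))
  haveI : IsIso h := hmax H (iH ≫ cj g⁻¹) h (by rw [Over.comp_left]; infer_instance) inferInstance inferInstance hs (by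
    rw [reassoc_of% hh, cj_comp, mul_inv_cancel, cj_one, Category.comp_id])
  exact ⟨g, asIso h, hh⟩

omit [IsAlgClosed k] [IsAffine G.left] in
/-- Quotients by conjugate subgroups are isomorphic. -/
theorem exists_iso_quotient {H H' X X' : Over (Spec (CommRingCat.of k))} [GrpObj H] [GrpObj H'] {i : H ⟶ G}
    {i' : H' ⟶ G} {a : AlgGrp.Action G X} {o : 𝟙_ (Over (Spec (CommRingCat.of k))) ⟶ X}
    (hX : AGF.IsQuotient i X a o) {a' : AlgGrp.Action G X'} {o' : 𝟙_ (Over (Spec (CommRingCat.of k))) ⟶ X'}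
    (hX' : AGF.IsQuotient i' X' a' o') (g : 𝟙_ (Over (Spec (CommRingCat.of k))) ⟶ G) (e : H ≅ H')
    (he : e.hom ≫ i' = i ≫ cj g) : Nonempty (X ≅ X') := by
  obtain ⟨hL, hf, hs, hpb⟩ := hX
  obtain ⟨hL', hf', hs', hpb'⟩ := hX'
  haveI := hL; haveI := hL'; haveI := hf; haveI := hs; haveI := hf'; haveI := hs'
  have key : ∀ {K Y : Over (Spec (CommRingCat.of k))} [GrpObj K] {j : K ⟶ G} {b : AlgGrp.Action G Y}
      {p : 𝟙_ (Over (Spec (CommRingCat.of k))) ⟶ Y},
      IsPullback (fst G K) ((G ◁ j) ≫ μ[G]) (b.orbitMap p) (b.orbitMap p) →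
      ∀ {W : Over (Spec (CommRingCat.of k))} (x : W ⟶ G) (h : W ⟶ K),
        (x * (h ≫ j)) ≫ b.orbitMap p = x ≫ b.orbitMap p := by
    intro K Y _ j b p hpb W x h
    have := congrArg (fun t => lift x h ≫ t) hpb.w
    rw [← Category.assoc, ← Category.assoc, lift_fst, RedQuotLib.act_eq, lift_fst, lift_snd] at this
    exact this.symm
  obtain ⟨u, ⟨-, hu⟩, -⟩ := existsUnique_equivariant a o hpb (isFppfCov_orbitMap a o hs hf) a'
    (g ≫ a'.orbitMap o') (fun W h => by
      rw [← Category.assoc (toUnit W), ← mul_comp_orbitMap]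
      have h1 : (h ≫ i) * cst W g = cst W g * ((h ≫ e.hom) ≫ i') := by
        rw [Category.assoc, he, ← Category.assoc, comp_cj]
        group
      show ((h ≫ i) * cst W g) ≫ _ = cst W g ≫ _
      rw [h1, key hpb'])
  obtain ⟨v, ⟨-, hv⟩, -⟩ := existsUnique_equivariant a' o' hpb' (isFppfCov_orbitMap a' o' hs' hf') a
    (g⁻¹ ≫ a.orbitMap o) (fun W h => by
      rw [← Category.assoc (toUnit W), ← mul_comp_orbitMap]
      have h2 : h ≫ i' = (cst W g)⁻¹ * ((h ≫ e.inv) ≫ i) * cst W g := by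
        rw [← comp_cj, Category.assoc, Category.assoc, ← he, e.inv_hom_id_assoc]
      have h1 : (h ≫ i') * (toUnit W ≫ g⁻¹) = (toUnit W ≫ g⁻¹) * ((h ≫ e.inv) ≫ i) := by
        rw [h2, GrpObj.comp_inv]
        show (cst W g)⁻¹ * _ * cst W g * (cst W g)⁻¹ = (cst W g)⁻¹ * _
        group
      rw [h1, key hpb])
  have horb : ∀ {Y : Over (Spec (CommRingCat.of k))} (b : AlgGrp.Action G Y)
      (p : 𝟙_ (Over (Spec (CommRingCat.of k))) ⟶ Y) (x : 𝟙_ (Over (Spec (CommRingCat.of k))) ⟶ G),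
      b.orbitMap (x ≫ b.orbitMap p) = (𝟙 G * cst G x) ≫ b.orbitMap p := fun b p x => by
    rw [mul_comp_orbitMap, AlgGrp.Action.orbitMap, Category.assoc]
  haveI : Epi (a.orbitMap o).left := Flat.epi_of_flat_of_surjective _
  haveI : Epi (a'.orbitMap o').left := Flat.epi_of_flat_of_surjective _
  haveI : Epi (a.orbitMap o) := Over.epi_of_epi_left _
  haveI : Epi (a'.orbitMap o') := Over.epi_of_epi_left _
  refine ⟨⟨u, v, ?_, ?_⟩⟩
  · rw [← cancel_epi (a.orbitMap o), reassoc_of% hu, horb, Category.assoc, hv, horb, ← Category.assoc,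
      MonObj.comp_mul, Category.comp_id, Category.comp_id]
    simp only [cst, ← Category.assoc, comp_toUnit]
    rw [GrpObj.comp_inv, _root_.mul_assoc, mul_inv_cancel, _root_.mul_one, Category.id_comp]
  · rw [← cancel_epi (a'.orbitMap o'), reassoc_of% hv, horb, Category.assoc, hu, horb, ← Category.assoc,
      MonObj.comp_mul, Category.comp_id, Category.comp_id]
    simp only [cst, ← Category.assoc, comp_toUnit]
    rw [GrpObj.comp_inv, _root_.mul_assoc, inv_mul_cancel, _root_.mul_one, Category.id_comp]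

variable [ConnectedSpace G.left]

/-- The quotient by a Borel subgroup is proper. -/
theorem isProper_of_isBorelOver {B X : Over (Spec (CommRingCat.of k))} [GrpObj B] {iB : B ⟶ G}
    (hB : Red.IsBorelOver k iB) {a : AlgGrp.Action G X} {o : 𝟙_ (Over (Spec (CommRingCat.of k))) ⟶ X}
    (hX : AGF.IsQuotient iB X a o) : IsProper X.hom := by
  obtain ⟨B₀, _, i₀, hi₀, hcl₀, hsm₀, hconn₀, hs₀, X₀, a₀, o₀, hX₀, hp₀⟩ := hasProperQuot G
  haveI := hi₀; haveI := hsm₀; haveI := hconn₀; haveI := hp₀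
  obtain ⟨g, f, hf⟩ := exists_iso_of_isProper hB hcl₀ hs₀ hX₀ hp₀
  obtain ⟨e⟩ := exists_iso_quotient hX hX₀ g f hf
  haveI : IsIso e.hom.left := inferInstanceAs (IsIso ((Over.forget _).map e.hom))
  rw [← Over.w e.hom]
  infer_instance

/-- Borel subgroups are conjugate. -/
theorem borel_conj {B B' : Over (Spec (CommRingCat.of k))} [GrpObj B] [GrpObj B'] {iB : B ⟶ G} {iB' : B' ⟶ G}
    (hB : Red.IsBorelOver k iB) (hB' : Red.IsBorelOver k iB') :
    ∃ (g : 𝟙_ (Over (Spec (CommRingCat.of k))) ⟶ G) (f : B ≅ B'), f.hom ≫ iB' = AGF.conjBy g iB := by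
  obtain ⟨B₀, _, i₀, hi₀, hcl₀, hsm₀, hconn₀, hs₀, X₀, a₀, o₀, hX₀, hp₀⟩ := hasProperQuot G
  haveI := hi₀; haveI := hsm₀; haveI := hconn₀
  obtain ⟨g, f, hf⟩ := exists_iso_of_isProper hB hcl₀ hs₀ hX₀ hp₀
  obtain ⟨g', f', hf'⟩ := exists_iso_of_isProper hB' hcl₀ hs₀ hX₀ hp₀
  refine ⟨g' * g⁻¹, f ≪≫ f'.symm, ?_⟩
  have e : f'.inv ≫ iB' = i₀ ≫ cj g'⁻¹ := by
    rw [Iso.inv_comp_eq, reassoc_of% hf', cj_comp, mul_inv_cancel, cj_one, Category.comp_id]
  rw [Iso.trans_hom, Iso.symm_hom, Category.assoc, e, reassoc_of% hf, cj_comp, comp_cj]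
  simp only [cst, AGF.conjBy, MonObj.comp_mul, GrpObj.comp_inv, _root_.mul_inv_rev, _root_.inv_inv]

/-- The quotient by a subgroup is proper iff the subgroup is parabolic. -/
theorem isProper_iff_isParabolicOver {P X : Over (Spec (CommRingCat.of k))} [GrpObj P] {iP : P ⟶ G} [IsMonHom iP]
    (hcl : IsClosedImmersion iP.left) [Smooth P.hom] {a : AlgGrp.Action G X}
    {o : 𝟙_ (Over (Spec (CommRingCat.of k))) ⟶ X} (hX : AGF.IsQuotient iP X a o) :
    IsProper X.hom ↔ Red.IsParabolicOver k iP := by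
  haveI := hcl
  constructor
  · intro hp
    obtain ⟨B, _, iB, hB⟩ := exists_isBorelOver k G
    obtain ⟨hi, hcl', hsm, hconn, hsolv, -⟩ := id hB
    haveI := hi; haveI := hcl'; haveI := hsm; haveI := hconn
    obtain ⟨g, h, hh⟩ := exists_factor_of_isProper iB hsolv hX hp
    exact ⟨inferInstance, hcl, inferInstance, B, inferInstance, h, hh ▸ isBorelOver_comp_cj hB g⟩
  · rintro ⟨-, -, -, B, _, b, hB⟩
    haveI : CompactSpace G.left := inferInstance
    haveI : QuasiCompact G.hom := (quasiCompact_iff_compactSpace G.hom).2 inferInstance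
    haveI : QuasiCompact P.hom := by rw [← Over.w iP]; infer_instance
    haveI : Mono iP := Over.mono_of_mono_left iP
    obtain ⟨hi, hcl', -⟩ := id hB
    haveI := hi; haveI := hcl'
    haveI : LocallyOfFiniteType B.hom := by rw [← Over.w (b ≫ iP)]; infer_instance
    haveI : QuasiCompact B.hom := by rw [← Over.w (b ≫ iP)]; infer_instance
    haveI : Mono (b ≫ iP) := Over.mono_of_mono_left _
    obtain ⟨Y, c, q, ⟨n, m, hm, hm'⟩, hLY, hqY, hflY, hsY, hpbY⟩ :=
      AlgGrpLib.HomogQuotProj.exists_quotient_projMono G B (b ≫ iP)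
    haveI := isProper_of_isBorelOver hB ⟨hLY, hflY, hsY, hpbY⟩
    obtain ⟨X', a', o', ⟨n', m', hm₂, hm₂'⟩, hLX', hqX', hfl', hs', hpb'⟩ :=
      AlgGrpLib.HomogQuotProj.exists_quotient_projMono G P iP
    haveI := hLX'; haveI := hfl'; haveI := hs'; haveI := hm₂
    obtain ⟨e⟩ := exists_iso_quotient hX ⟨hLX', hfl', hs', hpb'⟩ 1 (Iso.refl P) (by
      rw [cj_one, Category.comp_id, Iso.refl_hom, Category.id_comp])
    haveI : IsIso e.hom.left := inferInstanceAs (IsIso ((Over.forget _).map e.hom))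
    haveI := RelVALib.isProper_toBase n' (Spec (CommRingCat.of k))
    haveI : IsSeparated X'.hom := by rw [← hm₂']; infer_instance
    obtain ⟨f, ⟨-, hf⟩, -⟩ := existsUnique_equivariant c q hpbY (isFppfCov_orbitMap c q hsY hflY) a' o'
      (fun W h => by
        rw [← comp_orbitMap, ← one_comp_orbitMap a' o' W]
        have := congrArg (fun t => lift (1 : W ⟶ G) (h ≫ b) ≫ t) hpb'.w
        rw [← Category.assoc, ← Category.assoc, lift_fst, RedQuotLib.act_eq, lift_fst, lift_snd, _root_.one_mul,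
          Category.assoc] at this
        exact this.symm)
    haveI : Surjective ((c.orbitMap q).left ≫ f.left) := by rw [← Over.comp_left, hf]; exact hs'
    haveI : Surjective f.left := Surjective.of_comp (c.orbitMap q).left f.left
    haveI : UniversallyClosed (f.left ≫ X'.hom) := by rw [Over.w]; infer_instance
    haveI : UniversallyClosed X'.hom := UniversallyClosed.of_comp_surjective f.left X'.hom
    haveI : IsProper X'.hom := {}
    rw [← Over.w e.hom]
    infer_instance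

end Groth.Agent.AGFQuot23
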