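import Groth.Agent.AGFQuot23.FlagConj
import Groth.Agent.AlgGrpLib.ImageSubgroup

/-!
# Functoriality of Borel subgroups
-/

set_option autoImplicit false
set_option backward.isDefEq.respectTransparency false
set_option linter.style.haveILetI false

universe u

open CategoryTheory CategoryTheory.Limits MonoidalCategory CartesianMonoidalCategory MonObj GrpObj AlgebraicGeometry

namespace Groth.Agent.AGFQuot23

variable {k : Type u} [Field k] [IsAlgClosed k]

/-- A morphism from a proper connected reduced scheme to an affine scheme is constant. -/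
theorem eq_toUnit_comp_of_isProper {X Y : Over (Spec (CommRingCat.of k))} [IsProper X.hom] [IsReduced X.left]
    [ConnectedSpace X.left] [IsAffine Y.left] (f : X ⟶ Y) (o : 𝟙_ (Over (Spec (CommRingCat.of k))) ⟶ X) :
    f = toUnit X ≫ o ≫ f := by
  have hs := AbSchLib.surjective_appTop_of_isAlgClosed k X.hom
  have hinj : Function.Injective o.left.appTop := by
    intro s t hst
    obtain ⟨s, rfl⟩ := hs s
    obtain ⟨t, rfl⟩ := hs t
    change (X.hom.appTop ≫ o.left.appTop) s = (X.hom.appTop ≫ o.left.appTop) t at hst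
    have hw : o.left ≫ X.hom = (𝟙_ (Over (Spec (CommRingCat.of k)))).hom := Over.w o
    rw [← Scheme.Hom.comp_appTop, hw] at hst
    change (Scheme.Hom.appTop (𝟙 (Spec (CommRingCat.of k)))) s = (Scheme.Hom.appTop (𝟙 (Spec (CommRingCat.of k)))) t at hst
    rw [Scheme.Hom.id_appTop] at hst
    exact congrArg X.hom.appTop hst
  have e : o ≫ toUnit X ≫ o ≫ f = o ≫ f := by
    rw [← Category.assoc o (toUnit X), toUnit_unique (o ≫ toUnit X) (𝟙 _), Category.id_comp]
  refine Over.OverMorphism.ext (ext_of_isAffine ?_)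
  ext s
  apply hinj
  have := congrArg (fun g : 𝟙_ (Over (Spec (CommRingCat.of k))) ⟶ Y => g.left.appTop s) e
  exact this.symm

variable {G G' : Over (Spec (CommRingCat.of k))} [GrpObj G] [GrpObj G'] [IsAffine G.left] [Smooth G.hom]
  [ConnectedSpace G.left]

/-- Homomorphisms to an affine group agreeing on a Borel subgroup are equal. -/
theorem hom_eq_of_eq_on_borel [IsAffine G'.left] {B : Over (Spec (CommRingCat.of k))} [GrpObj B] {iB : B ⟶ G}
    (hB : Red.IsBorelOver k iB) (φ₁ φ₂ : G ⟶ G') [IsMonHom φ₁] [IsMonHom φ₂] (h : iB ≫ φ₁ = iB ≫ φ₂) :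
    φ₁ = φ₂ := by
  haveI : QuasiCompact G.hom := (quasiCompact_iff_compactSpace G.hom).2 inferInstance
  obtain ⟨hi, hcl, hsm, hconn, -⟩ := id hB
  haveI := hi; haveI := hcl; haveI := hsm
  haveI : QuasiCompact B.hom := by rw [← Over.w iB]; infer_instance
  haveI : Mono iB := Over.mono_of_mono_left _
  obtain ⟨X, a, o, -, hLX, -, hfl, hs, hpb⟩ := AlgGrpLib.HomogQuotProj.exists_quotient_projMono G B iB
  haveI := isProper_of_isBorelOver hB ⟨hLX, hfl, hs, hpb⟩
  haveI := hLX; haveI := hfl; haveI := hs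
  haveI : IsReduced G.left := AbSchLib.isReduced_of_smooth G.hom
  haveI : IsReduced X.left := AlgSpLib.isReduced_of_flat_surjective (a.orbitMap o).left
  haveI : ConnectedSpace X.left :=
    (a.orbitMap o).left.surjective.connectedSpace (a.orbitMap o).left.continuous
  let ψ : G ⟶ G' := φ₁ * φ₂⁻¹
  obtain ⟨ψ', hψ'⟩ := (isFppfCov_orbitMap a o hs hfl).exists_desc ψ fun g g' e => by
    obtain ⟨t, ht₁, ht₂⟩ := hpb.exists_lift g g' e
    rw [← ht₂, RedQuotLib.act_eq, ht₁]
    simp only [ψ, MonObj.comp_mul, GrpObj.comp_inv, MonObj.mul_comp, Category.assoc, h]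
    group
  have key : ψ = 1 := by
    rw [← hψ', eq_toUnit_comp_of_isProper ψ' o, ← Category.assoc, comp_toUnit]
    have ho : o ≫ ψ' = 1 := by
      have e : o = (1 : 𝟙_ (Over (Spec (CommRingCat.of k))) ⟶ G) ≫ a.orbitMap o := by
        rw [one_comp_orbitMap, toUnit_unique (toUnit _) (𝟙 _), Category.id_comp]
      conv_lhs => rw [e]
      rw [Category.assoc, hψ']
      simp only [ψ, MonObj.comp_mul, GrpObj.comp_inv, MonObj.one_comp, inv_one, _root_.mul_one]
    rw [ho, MonObj.comp_one]
  exact mul_inv_eq_one.1 key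

theorem isSolvableGrp_of_points (H : Over (Spec (CommRingCat.of k))) [GrpObj H] [Smooth H.hom] [QuasiCompact H.hom]
    [Group.IsSolvable (𝟙_ (Over (Spec (CommRingCat.of k))) ⟶ H)] : Red.IsSolvableGrp H := by
  let P := AlgGrpLib.PointsDense.spK k k
  haveI : IsIso (toUnit P).left := by
    have h : (toUnit P).left = P.hom := (Category.comp_id _).symm.trans (Over.w (toUnit P))
    rw [h]
    show IsIso (Spec.map (CommRingCat.ofHom (algebraMap k k)))
    rw [show CommRingCat.ofHom (algebraMap k k) = 𝟙 (CommRingCat.of k) from rfl, Spec.map_id]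
    infer_instance
  haveI : IsIso (toUnit P) := (isIso_iff_of_reflects_iso _ (Over.forget _)).1 ‹_›
  let f : (P ⟶ H) →* (𝟙_ (Over (Spec (CommRingCat.of k))) ⟶ H) :=
    MonoidHom.mk' (fun g => inv (toUnit P) ≫ g) fun g g' => MonObj.comp_mul _ g g'
  haveI : Group.IsSolvable (P ⟶ H) := solvable_of_solvable_injective (f := f) fun g g' e =>
    (cancel_epi (inv (toUnit P))).1 e
  obtain ⟨n, hn⟩ := (inferInstance : Group.IsSolvable (P ⟶ H)).solvable
  exact ⟨n, ((SGA3DerLib.series_iff H n k).1).2 hn⟩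

/-- A Borel subgroup of a quotient group is the image of a Borel subgroup. -/
theorem exists_borel_mapping_onto [IsAffine G'.left] [Smooth G'.hom] [ConnectedSpace G'.left] (q : G ⟶ G')
    [IsMonHom q] [Surjective q.left] {B' : Over (Spec (CommRingCat.of k))} [GrpObj B'] {iB' : B' ⟶ G'}
    (hB' : Red.IsBorelOver k iB') :
    ∃ (B : Over (Spec (CommRingCat.of k))) (_ : GrpObj B) (iB : B ⟶ G) (p : B ⟶ B'),
      Red.IsBorelOver k iB ∧ Surjective p.left ∧ p ≫ iB' = iB ≫ q := by
  haveI : QuasiCompact G.hom := (quasiCompact_iff_compactSpace G.hom).2 inferInstance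
  haveI : QuasiCompact G'.hom := (quasiCompact_iff_compactSpace G'.hom).2 inferInstance
  obtain ⟨B, _, iB, hB⟩ := exists_isBorelOver k G
  obtain ⟨hi, hcl, hsm, hconn, hsolv, -⟩ := id hB
  haveI := hi; haveI := hcl; haveI := hsm; haveI := hconn
  haveI : QuasiCompact B.hom := by rw [← Over.w iB]; infer_instance
  obtain ⟨M, _, iM, p, hiM, hp, hclM, hpM, hsp, -, hsmM, hLM, hqM⟩ := AlgGrpLib.ImageSubgroup.exists_image (iB ≫ q)
  haveI := hiM; haveI := hp; haveI := hclM; haveI := hsp; haveI := hsmM; haveI := hLM; haveI := hqM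
  haveI : ConnectedSpace M.left := p.left.surjective.connectedSpace p.left.continuous
  haveI : Group.IsSolvable (𝟙_ (Over (Spec (CommRingCat.of k))) ⟶ B) := by
    obtain ⟨n, hn⟩ := hsolv
    exact ⟨⟨n, hn _⟩⟩
  haveI : Group.IsSolvable (𝟙_ (Over (Spec (CommRingCat.of k))) ⟶ M) :=
    solvable_of_surjective (f := MonoidHom.mk' (fun b => b ≫ p) fun b b' => MonObj.mul_comp b b' p)
      fun m => exists_ratPoint_lift p m
  have hsolvM := isSolvableGrp_of_points M
  haveI : Mono iB := Over.mono_of_mono_left _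
  haveI : Mono iM := Over.mono_of_mono_left _
  obtain ⟨X, a, o, -, hLX, -, hfl, hs, hpb⟩ := AlgGrpLib.HomogQuotProj.exists_quotient_projMono G B iB
  haveI := isProper_of_isBorelOver hB ⟨hLX, hfl, hs, hpb⟩
  obtain ⟨Y, c, o', ⟨n, m, hm, hm'⟩, hLY, hqY, hflY, hsY, hpbY⟩ :=
    AlgGrpLib.HomogQuotProj.exists_quotient_projMono G' M iM
  haveI := hLY; haveI := hm
  obtain ⟨f, ⟨-, hf⟩, -⟩ := existsUnique_equivariant a o hpb (isFppfCov_orbitMap a o hs hfl) (restrictAction c q) o'
    (fun W h => by
      show lift (h ≫ iB) _ ≫ (q ▷ Y) ≫ c.act = _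
      rw [lift_whiskerRight_assoc, ← comp_orbitMap, ← one_comp_orbitMap c o' W]
      have := congrArg (fun t => lift (1 : W ⟶ G') (h ≫ p) ≫ t) hpbY.w
      rw [← Category.assoc, ← Category.assoc, lift_fst, RedQuotLib.act_eq, lift_fst, lift_snd, _root_.one_mul,
        Category.assoc h p iM, hpM, ← Category.assoc h iB q] at this
      exact this.symm)
  have horb : (restrictAction c q).orbitMap o' = q ≫ c.orbitMap o' := by
    rw [comp_orbitMap]
    show lift _ _ ≫ (q ▷ Y) ≫ c.act = _
    rw [lift_whiskerRight_assoc, Category.id_comp]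
  haveI : Surjective (q.left ≫ (c.orbitMap o').left) := inferInstance
  haveI : Surjective ((a.orbitMap o).left ≫ f.left) := by
    rw [← Over.comp_left, hf, horb, Over.comp_left]; infer_instance
  haveI : Surjective f.left := Surjective.of_comp (a.orbitMap o).left f.left
  haveI : UniversallyClosed (f.left ≫ Y.hom) := by rw [Over.w]; infer_instance
  haveI : UniversallyClosed Y.hom := UniversallyClosed.of_comp_surjective f.left Y.hom
  haveI := RelVALib.isProper_toBase n (Spec (CommRingCat.of k))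
  haveI : IsSeparated Y.hom := by rw [← hm']; infer_instance
  haveI : IsProper Y.hom := {}
  have hBM := isBorelOver_of_isProper iM hclM hsolvM Y c o' ⟨hLY, hflY, hsY, hpbY⟩ inferInstance
  obtain ⟨g, e, he⟩ := borel_conj hB' hBM
  obtain ⟨g₀, rfl⟩ := exists_ratPoint_lift q g
  refine ⟨B, inferInstance, iB ≫ cj g₀, p ≫ e.inv, isBorelOver_comp_cj hB g₀, ?_, ?_⟩
  · haveI : IsIso e.inv.left := inferInstanceAs (IsIso ((Over.forget _).map e.inv))
    rw [Over.comp_left]
    infer_instance
  · have h1 : e.inv ≫ iB' = iM ≫ cj (g₀ ≫ q) := by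
      rw [Iso.inv_comp_eq, reassoc_of% he, comp_cj]
      simp only [cst, AGF.conjBy, MonObj.comp_mul, GrpObj.comp_inv, ← Category.assoc, comp_toUnit]
      group
    rw [Category.assoc, h1, reassoc_of% hpM, Category.assoc, comp_cj]
    congr 1
    simp only [cj, cst, MonObj.mul_comp, GrpObj.inv_comp, Category.id_comp, Category.assoc]

end Groth.Agent.AGFQuot23
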