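import Groth.Agent.RedQuotLib.Criterion
import Groth.Prelude.Def_AGF

/-!
# Elementary properties of quotients of algebraic groups
-/

set_option autoImplicit false
set_option backward.isDefEq.respectTransparency false
set_option linter.style.haveILetI false

universe u

open CategoryTheory Limits MonoidalCategory CartesianMonoidalCategory MonObj GrpObj AlgebraicGeometry

namespace Groth.Agent.AGFQuot23

variable {S : Scheme.{u}} {G X : Over S} [GrpObj G] (a : AlgGrp.Action G X)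

theorem act_mul {W : Over S} (g g' : W ⟶ G) (x : W ⟶ X) :
    lift (g * g') x ≫ a.act = lift g (lift g' x ≫ a.act) ≫ a.act := by
  have h := congrArg (fun f => lift (lift g g') x ≫ f) a.mul_act
  simp only [lift_whiskerRight_assoc] at h
  rw [Hom.mul_def, h]
  simp [← Category.assoc]

theorem act_one {W : Over S} (x : W ⟶ X) : lift (1 : W ⟶ G) x ≫ a.act = x := by
  have h := congrArg (fun f => lift (toUnit W) x ≫ f) a.one_act
  simp only [lift_whiskerRight_assoc] at h
  rw [Hom.one_def, h]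
  simp

variable (o : 𝟙_ (Over S) ⟶ X)

theorem comp_orbitMap {W : Over S} (g : W ⟶ G) :
    g ≫ a.orbitMap o = lift g (toUnit W ≫ o) ≫ a.act := by
  rw [AlgGrp.Action.orbitMap, ← Category.assoc, comp_lift]
  rw [Category.comp_id, ← Category.assoc, comp_toUnit]

theorem mul_comp_orbitMap {W : Over S} (g g' : W ⟶ G) :
    (g * g') ≫ a.orbitMap o = lift g (g' ≫ a.orbitMap o) ≫ a.act := by
  rw [comp_orbitMap, comp_orbitMap, act_mul]

/-- The orbit map is equivariant. -/
theorem whiskerLeft_orbitMap : (G ◁ a.orbitMap o) ≫ a.act = μ[G] ≫ a.orbitMap o := by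
  have h := mul_comp_orbitMap a o (fst G G) (snd G G)
  rw [Hom.mul_def] at h
  rw [lift_fst_snd, Category.id_comp] at h
  rw [h]
  congr 1

theorem isFppfCov_orbitMap {k : Type u} [Field k] {G X : Over (Spec (CommRingCat.of k))} [GrpObj G]
    (a : AlgGrp.Action G X) (o : 𝟙_ (Over (Spec (CommRingCat.of k))) ⟶ X) [LocallyOfFiniteType G.hom]
    [LocallyOfFiniteType X.hom] (h₁ : Surjective (a.orbitMap o).left) (h₂ : Flat (a.orbitMap o).left) :
    RedQuotLib.IsFppfCov (a.orbitMap o) := by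
  haveI : IsLocallyNoetherian X.left := LocallyOfFiniteType.isLocallyNoetherian X.hom
  haveI : LocallyOfFiniteType ((a.orbitMap o).left ≫ X.hom) := by rw [Over.w]; infer_instance
  haveI : LocallyOfFiniteType (a.orbitMap o).left := locallyOfFiniteType_of_comp _ X.hom
  exact ⟨h₁, h₂, inferInstance⟩

theorem orbitMap_eq_iff_of_stabilizer {H : Over S} [GrpObj H] (i : H ⟶ G)
    (hH : IsPullback i (toUnit H) (a.orbitMap o) o) {W : Over S} (g g' : W ⟶ G) :
    g ≫ a.orbitMap o = g' ≫ a.orbitMap o ↔ ∃ h : W ⟶ H, g' = g * (h ≫ i) := by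
  have hfix : ∀ (h : W ⟶ H), (h ≫ i) ≫ a.orbitMap o = toUnit W ≫ o := fun h => by
    rw [Category.assoc, hH.w, ← Category.assoc, comp_toUnit]
  constructor
  · intro e
    obtain ⟨h, hh, -⟩ := hH.exists_lift (g⁻¹ * g') (toUnit W) (by
      rw [mul_comp_orbitMap, ← e, comp_orbitMap a o g, ← act_mul, inv_mul_cancel, act_one])
    exact ⟨h, by rw [hh, mul_inv_cancel_left]⟩
  · rintro ⟨h, rfl⟩
    rw [mul_comp_orbitMap, hfix, ← comp_orbitMap]

theorem isPullback_of_stabilizer {H : Over S} [GrpObj H] (i : H ⟶ G) [Mono i]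
    (hH : IsPullback i (toUnit H) (a.orbitMap o) o) :
    IsPullback (fst G H) ((G ◁ i) ≫ μ[G]) (a.orbitMap o) (a.orbitMap o) := by
  refine RedQuotLib.isPullback_of_local ?_ (fun u v h₁ h₂ => ?_) fun g g' e => ?_
  · refine (orbitMap_eq_iff_of_stabilizer a o i hH _ _).2 ⟨snd G H, ?_⟩
    have := RedQuotLib.act_eq (i := i) (𝟙 (G ⊗ H))
    rwa [Category.id_comp, Category.id_comp, Category.id_comp] at this
  · rw [RedQuotLib.act_eq, RedQuotLib.act_eq, h₁, mul_right_inj, cancel_mono] at h₂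
    exact CartesianMonoidalCategory.hom_ext _ _ h₁ h₂
  · obtain ⟨h, hh⟩ := (orbitMap_eq_iff_of_stabilizer a o i hH g g').1 e
    refine ⟨_, 𝟙 _, lift g h, RedQuotLib.IsFppfCov.of_isIso _, ?_, ?_⟩
    · rw [lift_fst, Category.id_comp]
    · rw [RedQuotLib.act_eq, lift_fst, lift_snd, Category.id_comp, hh]

/-- The universal property of the quotient. -/
theorem existsUnique_equivariant {H X' : Over S} [GrpObj H] {i : H ⟶ G}
    (hpb : IsPullback (fst G H) ((G ◁ i) ≫ μ[G]) (a.orbitMap o) (a.orbitMap o))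
    (hcov : RedQuotLib.IsFppfCov (a.orbitMap o)) (a' : AlgGrp.Action G X') (o' : 𝟙_ (Over S) ⟶ X')
    (ho' : ∀ (T : Over S) (h : T ⟶ H), lift (h ≫ i) (toUnit T ≫ o') ≫ a'.act = toUnit T ≫ o') :
    ∃! f : X ⟶ X', (G ◁ f) ≫ a'.act = a.act ≫ f ∧ a.orbitMap o ≫ f = a'.orbitMap o' := by
  obtain ⟨f, hf⟩ := hcov.exists_desc (a'.orbitMap o') fun g g' e => by
    obtain ⟨t, ht₁, ht₂⟩ := hpb.exists_lift g g' e
    rw [← ht₂, RedQuotLib.act_eq, ht₁, mul_comp_orbitMap, comp_orbitMap a' o' (_ ≫ i), ho', ← comp_orbitMap]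
  haveI := hcov.epi
  haveI := (hcov.whiskerLeft G).epi
  refine ⟨f, ⟨?_, hf⟩, fun f' h => (cancel_epi (a.orbitMap o)).1 (h.2.trans hf.symm)⟩
  rw [← cancel_epi (G ◁ a.orbitMap o), ← Category.assoc, ← MonoidalCategory.whiskerLeft_comp, hf,
    ← Category.assoc, whiskerLeft_orbitMap, whiskerLeft_orbitMap, Category.assoc, hf]

end Groth.Agent.AGFQuot23
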