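import Groth.Agent.SGA3cLib.Irreducible
import Groth.Agent.AbSchLib.SmoothReduced
import Groth.Prelude.Def_Red2

/-!
# Existence of Borel subgroups
-/

set_option autoImplicit false
set_option backward.isDefEq.respectTransparency false
set_option linter.style.haveILetI false

universe u

open CategoryTheory Limits MonoidalCategory CartesianMonoidalCategory MonObj GrpObj AlgebraicGeometry

namespace Groth.Agent.AGFQuot23

variable (k : Type u) [Field k] (G : Over (Spec (CommRingCat.of k))) [GrpObj G] [IsAffine G.left] [Smooth G.hom]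

/-- A smooth connected solvable closed subgroup. -/
structure SolvSub where
  B : Over (Spec (CommRingCat.of k))
  [grp : GrpObj B]
  i : B ⟶ G
  [hom : IsMonHom i]
  cl : IsClosedImmersion i.left
  sm : Smooth B.hom
  conn : ConnectedSpace B.left
  solv : Red.IsSolvableGrp B

attribute [instance] SolvSub.grp SolvSub.hom

theorem isSolvableGrp_unit : Red.IsSolvableGrp (𝟙_ (Over (Spec (CommRingCat.of k)))) :=
  ⟨0, fun _ => Subgroup.ext fun x => by simp [Subsingleton.elim x 1]⟩

noncomputable def trivialSub : SolvSub k G where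
  B := 𝟙_ _
  i := η[G]
  cl := by
    haveI : IsClosedImmersion ((η[G]).left ≫ G.hom) := by
      rw [Over.w]
      exact inferInstanceAs (IsClosedImmersion (𝟙 _))
    exact IsClosedImmersion.of_comp _ G.hom
  sm := inferInstanceAs (Smooth (𝟙 _))
  conn := inferInstanceAs (ConnectedSpace (PrimeSpectrum k))
  solv := isSolvableGrp_unit k

/-- The point of `G` giving the generic point of a subgroup. -/
theorem exists_generic (s : SolvSub k G) :
    ∃ x : s.B.left, closure {x} = Set.univ := by
  haveI := s.cl; haveI := s.sm; haveI := s.conn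
  haveI : IrreducibleSpace s.B.left := Groth.Agent.SGA3cLib.irreducibleSpace_of_connected s.B
  exact ⟨genericPoint s.B.left, genericPoint_spec s.B.left⟩

noncomputable def gen (s : SolvSub k G) : s.B.left := (exists_generic k G s).choose

theorem closure_gen (s : SolvSub k G) : closure {gen k G s} = Set.univ := (exists_generic k G s).choose_spec

noncomputable def prime (s : SolvSub k G) : PrimeSpectrum Γ(G.left, ⊤) := G.left.isoSpec.hom (s.i.left (gen k G s))

theorem exists_isBorelOver :
    ∃ (B : Over (Spec (CommRingCat.of k))) (_ : GrpObj B) (i : B ⟶ G), Red.IsBorelOver k i := by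
  classical
  haveI : IsLocallyNoetherian G.left := LocallyOfFiniteType.isLocallyNoetherian G.hom
  haveI : IsNoetherianRing Γ(G.left, ⊤) := IsLocallyNoetherian.component_noetherian ⟨⊤, isAffineOpen_top _⟩
  haveI : WellFoundedLT (PrimeSpectrum Γ(G.left, ⊤)) := StrictMono.wellFoundedLT
    (f := fun p : PrimeSpectrum Γ(G.left, ⊤) => p.asIdeal.height) fun _ _ h => Ideal.height_strict_mono_of_isPrime_of_isPrime h
  obtain ⟨_, ⟨s, rfl⟩, hs⟩ := wellFounded_lt.has_min (Set.range fun s : SolvSub k G => prime k G s)
    ⟨_, trivialSub k G, rfl⟩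
  refine ⟨s.B, s.grp, s.i, s.hom, s.cl, s.sm, s.conn, s.solv, fun B' _ i' _ f hcl hsm hconn hsolv hf => ?_⟩
  let s' : SolvSub k G := ⟨B', i', hcl, hsm, hconn, hsolv⟩
  haveI := hcl
  haveI := hsm
  haveI : IsReduced B'.left := Groth.Agent.AbSchLib.isReduced_of_smooth B'.hom
  haveI : IsClosedImmersion (f.left ≫ i'.left) := by rw [← Over.comp_left, hf]; exact s.cl
  haveI : IsClosedImmersion f.left := IsClosedImmersion.of_comp f.left i'.left
  let y : B'.left := f.left (gen k G s)
  have hy : i'.left y = s.i.left (gen k G s) := by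
    show i'.left (f.left (gen k G s)) = _
    rw [← Scheme.Hom.comp_apply, ← Over.comp_left, hf]
  have hspec : gen k G s' ⤳ y := specializes_iff_mem_closure.2 (by rw [closure_gen]; trivial)
  have hle : prime k G s' ≤ prime k G s := by
    refine (PrimeSpectrum.le_iff_specializes _ _).2 ?_
    have h := (hspec.map i'.left.continuous).map G.left.isoSpec.hom.continuous
    rw [hy] at h
    exact h
  have heq : prime k G s' = prime k G s :=
    hle.eq_of_not_lt (hs _ ⟨s', rfl⟩)
  have hgen : y = gen k G s' := by
    refine i'.left.isClosedEmbedding.injective (hy.trans ?_)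
    exact (G.left.isoSpec.hom.homeomorph.injective heq).symm
  haveI : Surjective f.left := ⟨fun z => by
    have hz : z ∈ closure ({y} : Set B'.left) := by rw [hgen, closure_gen]; trivial
    exact f.left.isClosedEmbedding.isClosed_range.closure_subset_iff.2 (Set.singleton_subset_iff.2 ⟨_, rfl⟩) hz⟩
  haveI : IsIso f.left := isIso_of_isClosedImmersion_of_surjective f.left
  exact (isIso_iff_of_reflects_iso f (Over.forget _)).1 ‹_›

theorem isSolvableGrp_of_isIso {B : Over (Spec (CommRingCat.of k))} [GrpObj B] (i : B ⟶ G) [IsMonHom i] [IsIso i]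
    (h : Red.IsSolvableGrp B) : Red.IsSolvableGrp G := by
  obtain ⟨n, hn⟩ := h
  refine ⟨n, fun X => ?_⟩
  let φ : (X ⟶ B) →* (X ⟶ G) :=
    { toFun := fun x => x ≫ i
      map_one' := MonObj.one_comp i
      map_mul' := fun a b => MonObj.mul_comp a b i }
  have hs : Function.Surjective φ := fun x => ⟨x ≫ inv i, by
    show (x ≫ inv i) ≫ i = x
    rw [Category.assoc, IsIso.inv_hom_id, Category.comp_id]⟩
  rw [← map_derivedSeries_eq hs n, hn X, Subgroup.map_bot]

end Groth.Agent.AGFQuot23
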