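import Groth.Agent.DynLib.Connected
import Groth.Agent.S3309
import Groth.Agent.DimLib.Algebra
import Groth.Agent.DimLib.Morphism
import Groth.Agent.DimLib.Points

/-!
# Conjugates of the fixed subgroup of a cocharacter are dense

For a cocharacter `λ` of a connected group the map `U⁻ × P → G`, `(v, p) ↦ (v p) · lim p · (v p)⁻¹` has a single
point over a general value of `λ`, so it is dominant.
-/

set_option autoImplicit false
set_option linter.style.haveILetI false
set_option backward.isDefEq.respectTransparency.types false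

noncomputable section

open LaurentPolynomial TensorProduct WithConv AlgebraicGeometry CategoryTheory
open Groth.Agent.DynLib

universe u

namespace Groth.Agent.AGFQuot23

section Algebra

variable {k : Type u} [Field k] [IsAlgClosed k] {A R : Type u} [CommRing A] [IsDomain A] [Algebra k A]
  [Algebra.FiniteType k A] [CommRing R] [IsDomain R] [Algebra k R] [Algebra.FiniteType k R]

omit [IsDomain A] [IsDomain R] [Algebra.FiniteType k A] in
/-- A maximal ideal of a finitely generated algebra is the kernel of a rational point. -/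
theorem exists_point_of_isMaximal (M : Ideal R) [M.IsMaximal] : ∃ φ : R →ₐ[k] k, RingHom.ker φ = M := by
  letI := Ideal.Quotient.field M
  haveI : Algebra.FiniteType k (R ⧸ M) :=
    Algebra.FiniteType.of_surjective (Ideal.Quotient.mkₐ k M) Ideal.Quotient.mk_surjective
  haveI : Module.Finite k (R ⧸ M) := finite_of_finite_type_of_isJacobsonRing k (R ⧸ M)
  let e : k ≃ₐ[k] R ⧸ M :=
    AlgEquiv.ofBijective (Algebra.ofId k (R ⧸ M)) IsAlgClosed.algebraMap_bijective_of_isIntegral
  refine ⟨e.symm.toAlgHom.comp (Ideal.Quotient.mkₐ k M), Ideal.ext fun x => ?_⟩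
  rw [RingHom.mem_ker]
  show e.symm (Ideal.Quotient.mk M x) = 0 ↔ _
  rw [map_eq_zero_iff _ e.symm.injective, Ideal.Quotient.eq_zero_iff_mem]

/-- A morphism of varieties of equal dimension with an isolated point in a fibre is dominant. -/
theorem injective_of_unique_point (hdim : ringKrullDim R = ringKrullDim A) (Ψ : A →ₐ[k] R) (φ₀ : R →ₐ[k] k)
    (huniq : ∀ φ : R →ₐ[k] k, φ.comp Ψ = φ₀.comp Ψ → φ = φ₀) : Function.Injective Ψ := by
  rw [injective_iff_map_eq_zero]
  by_contra h
  push Not at h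
  obtain ⟨a, ha, ha0⟩ := h
  let Q : Ideal A := RingHom.ker Ψ
  haveI : Q.IsPrime := RingHom.ker_isPrime _
  haveI : Algebra.FiniteType k (A ⧸ Q) :=
    Algebra.FiniteType.of_surjective (Ideal.Quotient.mkₐ k Q) Ideal.Quotient.mk_surjective
  let Ψ' : A ⧸ Q →ₐ[k] R := Ideal.Quotient.liftₐ Q Ψ fun _ h => h
  letI : Algebra (A ⧸ Q) R := Ψ'.toRingHom.toAlgebra
  haveI : IsNoetherianRing R := Algebra.FiniteType.isNoetherianRing k R
  haveI : IsNoetherianRing (A ⧸ Q) := Algebra.FiniteType.isNoetherianRing k _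
  haveI : IsJacobsonRing R := isJacobsonRing_of_finiteType (A := k)
  let m : Ideal R := RingHom.ker φ₀
  haveI hm : m.IsMaximal := RingHom.ker_isMaximal_of_surjective φ₀ fun c => ⟨algebraMap k R c, φ₀.commutes c⟩
  let n : Ideal (A ⧸ Q) := m.comap (algebraMap (A ⧸ Q) R)
  haveI : n.IsPrime := Ideal.comap_isPrime _ _
  haveI : m.LiesOver n := ⟨rfl⟩
  have hle := Ideal.height_le_height_add_of_liesOver n m
  let J : Ideal R := n.map (algebraMap (A ⧸ Q) R)
  have hJ : J ≤ m := Ideal.map_comap_le
  have hmin : ∀ P : Ideal R, P.IsPrime → J ≤ P → P = m := by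
    intro P hP hJP
    have hj : P.jacobson = P := IsJacobsonRing.out ‹IsJacobsonRing R› hP.isRadical
    have hmax : ∀ M : Ideal R, M.IsMaximal → P ≤ M → M = m := by
      intro M hM hPM
      obtain ⟨φ, hφ⟩ := exists_point_of_isMaximal (k := k) M
      rw [← hφ]
      suffices φ = φ₀ by rw [this]
      refine huniq φ (AlgHom.ext fun x => ?_)
      let c : k := φ₀ (Ψ x)
      have hmem : Ψ x - algebraMap k R c ∈ J := by
        have : Ideal.Quotient.mk Q x - algebraMap k (A ⧸ Q) c ∈ n := by
          rw [Ideal.mem_comap]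
          show φ₀ (Ψ' (Ideal.Quotient.mk Q x - algebraMap k (A ⧸ Q) c)) = 0
          rw [map_sub, AlgHom.commutes, map_sub, AlgHom.commutes]
          exact sub_self c
        have h2 := Ideal.mem_map_of_mem (algebraMap (A ⧸ Q) R) this
        change Ψ' (Ideal.Quotient.mk Q x - algebraMap k (A ⧸ Q) c) ∈ J at h2
        rwa [map_sub, AlgHom.commutes] at h2
      have : φ (Ψ x - algebraMap k R c) = 0 := by
        rw [← RingHom.mem_ker, hφ]
        exact hPM (hJP hmem)
      rw [map_sub, AlgHom.commutes, sub_eq_zero] at this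
      exact this
    rw [← hj, Ideal.jacobson]
    refine le_antisymm ?_ ?_
    · obtain ⟨M, hM, hPM⟩ := Ideal.exists_le_maximal P hP.ne_top
      exact sInf_le ⟨(hmax M hM hPM) ▸ hPM, hm⟩
    · exact le_sInf fun M hM => (hmax M hM.2 hM.1).ge
  haveI : (m.map (Ideal.Quotient.mk J)).IsPrime :=
    Ideal.map_isPrime_of_surjective Ideal.Quotient.mk_surjective (by rwa [Ideal.mk_ker])
  have h0 : (m.map (Ideal.Quotient.mk J)).height = 0 := by
    rw [Ideal.height_eq_zero_iff]
    refine ⟨⟨inferInstance, bot_le⟩, fun P hP hPm => ?_⟩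
    haveI := hP.1
    have hc : P.comap (Ideal.Quotient.mk J) = m :=
      hmin _ inferInstance (fun x hx => by simp [Ideal.Quotient.eq_zero_iff_mem.2 hx])
    rw [← hc, Ideal.map_comap_of_surjective _ Ideal.Quotient.mk_surjective]
  rw [h0, add_zero] at hle
  have h1 : ringKrullDim R ≤ ringKrullDim (A ⧸ Q) := by
    rw [← DimLib.height_eq_of_isMaximal (k := k) m]
    exact le_trans (WithBot.coe_le_coe.2 hle) (Ideal.height_le_ringKrullDim_of_ne_top (Ideal.IsPrime.ne_top ‹_›))
  have hQ : 1 ≤ Q.height := by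
    rw [Order.one_le_iff_ne_zero]
    intro h0
    rw [Ideal.height_eq_zero_iff_eq_bot] at h0
    exact ha0 (by simpa [h0] using (show a ∈ Q from ha))
  have h2 := DimLib.height_add_ringKrullDim_quotient (k := k) Q
  obtain ⟨d, hd⟩ := DimLib.exists_nat_ringKrullDim (k := k) (A := A ⧸ Q)
  rw [hdim, ← h2, hd] at h1
  have h3 : ((1 : ℕ∞) : WithBot ℕ∞) + (d : WithBot ℕ∞) ≤ d :=
    le_trans (add_le_add_left (WithBot.coe_le_coe.2 hQ) _) h1
  have h4 : (1 : ℕ∞) + d ≤ d := by exact_mod_cast h3
  exact absurd h4 (by exact_mod_cast (by omega : ¬ (1 + d ≤ d)))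

end Algebra

section Points

variable {k : Type u} [Field k] {A : Type u} [CommRing A] [HopfAlgebra k A]

/-- Evaluation of Laurent polynomials at a unit. -/
def evU (s : kˣ) : k[T;T⁻¹] →ₐ[k] k where
  __ := LaurentPolynomial.eval₂ (RingHom.id k) s
  commutes' c := by
    show LaurentPolynomial.eval₂ (RingHom.id k) s (algebraMap k k[T;T⁻¹] c) = c
    rw [← C_eq_algebraMap, eval₂_C]
    rfl

@[simp] theorem evU_C (s : kˣ) (c : k) : evU s (C c) = c := eval₂_C _ _ c

@[simp] theorem evU_T (s : kˣ) (n : ℤ) : evU s (T n) = ((s ^ n : kˣ) : k) := by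
  show LaurentPolynomial.eval₂ (RingHom.id k) s (T n) = _
  rw [eval₂_T]

/-- The value of a cocharacter at a unit. -/
def valAt (lam : A →ₐc[k] k[T;T⁻¹]) (s : kˣ) : Pt k A k := pre lam (evU s)

theorem valAt_pow (lam : A →ₐc[k] k[T;T⁻¹]) (s : kˣ) : ∀ m : ℕ, valAt lam (s ^ m) = valAt lam s ^ m
  | 0 => by rw [pow_zero, pow_zero, valAt, pre_eq_one lam _ (by simp)]
  | m + 1 => by
      rw [pow_succ (valAt lam s), ← valAt_pow lam s m]
      exact (pre_mul lam _ _ _ (by simp [pow_succ])).symm

theorem push_evU_conj (lam : A →ₐc[k] k[T;T⁻¹]) (s : kˣ) (g : Pt k A k) :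
    push (evU s) (conj k lam g) = valAt lam s * g * (valAt lam s)⁻¹ := by
  have h1 : push (evU s) (pre lam (tee k k)) = valAt lam s := by
    rw [push_pre]
    exact congrArg (pre lam) (Lext' (by simp))
  have h2 : push (evU s) (push (cst k k) g) = g := by
    rw [push_push]
    exact WithConv.ext (AlgHom.ext fun a => by simp [cst_apply])
  rw [conj_apply, map_mul, map_mul, map_inv, h1, h2]

/-- The values of a cocharacter are fixed. -/
theorem conj_valAt (lam : A →ₐc[k] k[T;T⁻¹]) (s : kˣ) : conj k lam (valAt lam s) = push (cst k k) (valAt lam s) := by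
  let u : k[T;T⁻¹] →ₐ[k] k[T;T⁻¹] := (cst k k).comp (evU s)
  let w : k[T;T⁻¹] →ₐ[k] k[T;T⁻¹] := AlgHom.id k _
  have hu : push (cst k k) (valAt lam s) = pre lam u := push_pre lam _ _
  have hc : pre lam (tee k k) * pre lam u = pre lam u * pre lam (tee k k) := by
    let v : k[T;T⁻¹]ˣ := Units.map (cst k k).toRingHom.toMonoidHom s
    have e : ∀ x : k[T;T⁻¹] →ₐ[k] k[T;T⁻¹], ∀ y : k[T;T⁻¹] →ₐ[k] k[T;T⁻¹],
        (toConv x * toConv y : WithConv (k[T;T⁻¹] →ₐ[k] k[T;T⁻¹])) = toConv y * toConv x := fun x y => mul_comm _ _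
    have h1 := pre_mul lam (tee k k) u (toConv (tee k k) * toConv u).ofConv (by
      show _ = (toConv (tee k k) * toConv u) (T 1)
      rw [AlgHom.convMul_apply, LaurentPolynomial.comul_T, Algebra.TensorProduct.lift_tmul])
    have h2 := pre_mul lam u (tee k k) (toConv (tee k k) * toConv u).ofConv (by
      show _ = (toConv (tee k k) * toConv u) (T 1)
      rw [AlgHom.convMul_apply, LaurentPolynomial.comul_T, Algebra.TensorProduct.lift_tmul]
      exact mul_comm _ _)
    rw [h1, h2]
  rw [conj_apply, hu, hc, mul_inv_cancel_right]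

variable {lam lamNeg : A →ₐc[k] k[T;T⁻¹]} {R : Type u} [CommRing R] [Algebra k R]

/-- Points fixed by a cocharacter are fixed by its inverse. -/
theorem conj_invert_eq_cst (g : Pt k A R) (h : conj R lam g = push (cst k R) g) :
    conj R ((invertHom k).comp lam) g = push (cst k R) g := by
  have hinv : pre ((invertHom k).comp lam) (tee k R) = (pre lam (tee k R))⁻¹ := by
    rw [eq_inv_iff_mul_eq_one]
    show pre lam ((tee k R).comp (invertHom k : k[T;T⁻¹] →ₐ[k] k[T;T⁻¹])) * pre lam (tee k R) = 1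
    have ht : (invertHom k : k[T;T⁻¹] →ₐ[k] k[T;T⁻¹]) (T 1) = T (-1) := by
      simp [invertHom]
    rw [pre_mul lam _ _ ((Algebra.ofId k _).comp (Bialgebra.counitAlgHom k k[T;T⁻¹])) (by
      rw [AlgHom.comp_apply, AlgHom.comp_apply, Bialgebra.counitAlgHom_apply, LaurentPolynomial.counit_T, map_one]
      show tee k R ((invertHom k : k[T;T⁻¹] →ₐ[k] k[T;T⁻¹]) (T 1)) * _ = _
      rw [ht, tee_T, tee_T, ← T_add]
      simp)]
    exact pre_eq_one lam _ (by
      rw [AlgHom.comp_apply, Bialgebra.counitAlgHom_apply, LaurentPolynomial.counit_T, map_one])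
  rw [conj_apply] at h
  rw [conj_apply, hinv, inv_inv]
  have h' : pre lam (tee k R) * push (cst k R) g = push (cst k R) g * pre lam (tee k R) := mul_inv_eq_iff_eq_mul.1 h
  rw [mul_assoc, ← h', inv_mul_cancel_left]

theorem mem_limSub_of_fixed {g : Pt k A R} (h : conj R lam g = push (cst k R) g) : g ∈ limSub R lam := by
  refine ⟨push ((Polynomial.CAlgHom (R := R)).restrictScalars k) g, ?_⟩
  rw [push_push, h]
  refine congrArg (fun φ => push φ g) (AlgHom.ext fun x => ?_)
  rw [cst_apply]
  exact Polynomial.toLaurent_C x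

/-- The limit of a point. -/
theorem exists_lim {p : Pt k A R} (hp : p ∈ limSub R lam) :
    ∃ l : Pt k A R, conj R lam l = push (cst k R) l ∧
      ∀ h : Pt k A (Polynomial R), push (jay k R) h = conj R lam p → push (ev0 k R) h = l := by
  obtain ⟨h, hh⟩ := hp
  refine ⟨push (ev0 k R) h, conj_limit lam p h hh, fun h' hh' => ?_⟩
  rw [DynLib.push_injective (jay k R) jay_injective (hh'.trans hh.symm)]

theorem lim_eq_self {g : Pt k A R} (h : conj R lam g = push (cst k R) g) {h' : Pt k A (Polynomial R)}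
    (hh : push (jay k R) h' = conj R lam g) : push (ev0 k R) h' = g := by
  have e : h' = push ((Polynomial.CAlgHom (R := R)).restrictScalars k) g := by
    refine DynLib.push_injective (jay k R) jay_injective ?_
    rw [hh, h, push_push]
    refine congrArg (fun φ => push φ g) (AlgHom.ext fun x => ?_)
    rw [cst_apply]
    exact (Polynomial.toLaurent_C x).symm
  rw [e, push_push]
  refine WithConv.ext (AlgHom.ext fun a => ?_)
  simp [ev0_apply]

theorem eq_one_of_fixed {g : Pt k A R} (h : g ∈ oneSub R lam) (hf : conj R lam g = push (cst k R) g) : g = 1 := by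
  obtain ⟨h', h0, hh⟩ := h
  exact (lim_eq_self hf hh).symm.trans h0

theorem conj_oneSub {g t : Pt k A R} (h : g ∈ oneSub R lam) (hf : conj R lam t = push (cst k R) t) :
    t⁻¹ * g * t ∈ oneSub R lam := by
  obtain ⟨h', h0, hh⟩ := h
  let c := push ((Polynomial.CAlgHom (R := R)).restrictScalars k) t
  have hc : push (jay k R) c = conj R lam t := by
    rw [hf, push_push]
    refine congrArg (fun φ => push φ t) (AlgHom.ext fun x => ?_)
    rw [cst_apply]
    exact Polynomial.toLaurent_C x
  refine ⟨c⁻¹ * h' * c, ?_, ?_⟩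
  · show push (ev0 k R) (c⁻¹ * h' * c) = 1
    rw [map_mul, map_mul, show push (ev0 k R) h' = 1 from h0, mul_one, map_inv, inv_mul_cancel]
  · rw [map_mul, map_mul, map_inv, hc, hh, map_mul, map_mul, map_inv]

theorem eq_one_of_mem_cells {g : Pt k A R} [Algebra.FiniteType k A]
    (hm : g ∈ oneSub R ((invertHom k).comp lam)) (hp : g ∈ limSub R lam) : g = 1 := by
  refine eq_one_of_fixed hm (conj_invert_eq_cst g ?_)
  let lamN := (invertHom k).comp lam
  haveI := isHopfIdeal_limIdeal lam
  haveI := isHopfIdeal_limIdeal lamN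
  have hZ := S3309.result k A lam lamN (invertHom_comp_eq lam) (limIdeal lam) (limIdeal lamN)
    (fun R _ _ g => (kills_limIdeal_iff lam g).trans (limExists_iff lam g).symm)
    (fun R _ _ g => (kills_limIdeal_iff lamN g).trans (limExists_iff lamN g).symm)
  have hk : ∀ a ∈ limIdeal lam ⊔ limIdeal lamN, g.ofConv a = 0 := by
    intro a ha
    obtain ⟨x, hx, y, hy, rfl⟩ := Submodule.mem_sup.1 ha
    rw [map_add, (kills_limIdeal_iff lam g.ofConv).2 hp x hx,
      (kills_oneIdeal_iff lamN g.ofConv).2 hm y (Submodule.mem_sup_left hy), add_zero]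
  have := (hZ R g.ofConv).1 hk
  beta_reduce at this
  rw [conjOrbit_eq, toConv_ofConv] at this
  exact WithConv.ext this

/-- For a general value of a cocharacter only fixed points commute with it. -/
theorem exists_general [IsAlgClosed k] [Algebra.FiniteType k A] (lam : A →ₐc[k] k[T;T⁻¹]) :
    ∃ s : kˣ, ∀ g : Pt k A k, g * valAt lam s = valAt lam s * g → conj k lam g = push (cst k k) g := by
  classical
  obtain ⟨S, hS⟩ : (⊤ : Subalgebra k A).FG := Algebra.FiniteType.out
  let U : Pt k A A[T;T⁻¹] := conj A lam (toConv (AlgHom.id k A))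
  let D : ℕ := S.sup fun a => (U.ofConv a).coeff.support.sup Int.natAbs
  let bad : Finset k := (Finset.range (2 * D + 1)).biUnion fun i =>
    if i = 0 then {0} else insert 0 (Polynomial.nthRoots i (1 : k)).toFinset
  obtain ⟨s₀, hs₀⟩ := Infinite.exists_notMem_finset bad
  have hs0 : s₀ ≠ 0 := fun h => hs₀ (Finset.mem_biUnion.2 ⟨0, by simp, by simp [h]⟩)
  let s : kˣ := Units.mk0 s₀ hs0
  have hdist : ∀ i j : ℕ, i ≤ 2 * D → j ≤ 2 * D → s₀ ^ i = s₀ ^ j → i = j := by
    intro i j hi hj h
    wlog hij : i ≤ j generalizing i j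
    · exact (this j i hj hi h.symm (by omega)).symm
    by_contra hne
    refine hs₀ (Finset.mem_biUnion.2 ⟨j - i, by simp; omega, ?_⟩)
    rw [if_neg (by omega)]
    refine Finset.mem_insert_of_mem (Multiset.mem_toFinset.2 ((Polynomial.mem_nthRoots (by omega)).2 ?_))
    have h2 : s₀ ^ i * s₀ ^ (j - i) = s₀ ^ i * 1 := by rw [← pow_add, Nat.add_sub_cancel' hij, mul_one, h]
    exact mul_left_cancel₀ (pow_ne_zero _ hs0) h2
  refine ⟨s, fun g hg => ?_⟩
  refine WithConv.ext (AlgHom.ext_of_adjoin_eq_top hS fun a ha => ?_)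
  let q : k[T;T⁻¹] := (conj k lam g).ofConv a - C (g.ofConv a)
  have hsupp : ∀ n : ℤ, q.coeff n ≠ 0 → n.natAbs ≤ D := by
    intro n hn
    by_cases h0 : n = 0
    · simp [h0]
    have h1 : ((conj k lam g).ofConv a).coeff n ≠ 0 := by
      intro h1
      refine hn ?_
      show ((conj k lam g).ofConv a - C (g.ofConv a)).coeff n = 0
      rw [AddMonoidAlgebra.coeff_sub, Finsupp.sub_apply, h1, ← single_eq_C, AddMonoidAlgebra.coeff_single,
        Finsupp.single_eq_of_ne h0, sub_zero]
    rw [coeff_conj] at h1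
    have h2 : (U.ofConv a).coeff n ≠ 0 := fun h2 => h1 (by
      show g.ofConv ((U.ofConv a).coeff n) = 0
      rw [h2, map_zero])
    exact le_trans (Finset.le_sup (f := Int.natAbs) (Finsupp.mem_support_iff.2 h2))
      (Finset.le_sup (f := fun a => (U.ofConv a).coeff.support.sup Int.natAbs) ha)
  suffices hq : q = 0 by
    rw [sub_eq_zero.1 hq, push_apply, cst_apply]
  have hsum : q = ∑ n ∈ q.coeff.support, C (q.coeff n) * T n := by
    refine LaurentPolynomial.ext fun m => ?_
    simp only [← single_eq_C_mul_T, AddMonoidAlgebra.coeff_sum, AddMonoidAlgebra.coeff_single,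
      Finsupp.coe_finsetSum, Finset.sum_apply, Finsupp.single_apply]
    rw [Finset.sum_ite_eq']
    by_cases h : m ∈ q.coeff.support
    · rw [if_pos h]
    · rw [if_neg h, Finsupp.notMem_support_iff.1 h]
  let P : Polynomial k := ∑ n ∈ q.coeff.support, Polynomial.monomial (n + D).toNat (q.coeff n)
  have hdeg : P.natDegree ≤ 2 * D := Polynomial.natDegree_sum_le_of_forall_le _ _ fun n hn => by
    refine le_trans (Polynomial.natDegree_monomial_le _) ?_
    have := hsupp n (Finsupp.mem_support_iff.1 hn)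
    omega
  have hev : ∀ m : ℕ, evU (s ^ m) q = 0 := by
    intro m
    show evU (s ^ m) ((conj k lam g).ofConv a - C (g.ofConv a)) = 0
    rw [map_sub, evU_C, ← push_apply, push_evU_conj, valAt_pow]
    have hc : Commute g (valAt lam s ^ m) := (show Commute g (valAt lam s) from hg).pow_right m
    rw [← hc.eq, mul_inv_cancel_right, sub_self]
  have hP : P = 0 := by
    refine Polynomial.eq_zero_of_natDegree_lt_card_of_eval_eq_zero P
      (f := fun i : Fin (2 * D + 1) => s₀ ^ (i : ℕ)) (fun i j h => Fin.ext (hdist i j (by omega) (by omega) h))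
      (fun i => ?_) (by simpa using Nat.lt_succ_of_le hdeg)
    have h1 := hev i
    rw [hsum, map_sum] at h1
    have h2 : P.eval (s₀ ^ (i : ℕ)) = s₀ ^ ((i : ℕ) * D) *
        ∑ n ∈ q.coeff.support, evU (s ^ (i : ℕ)) (C (q.coeff n) * T n) := by
      rw [Polynomial.eval_finsetSum, Finset.mul_sum]
      refine Finset.sum_congr rfl fun n hn => ?_
      have := hsupp n (Finsupp.mem_support_iff.1 hn)
      rw [Polynomial.eval_monomial, map_mul, evU_C, evU_T, mul_left_comm]
      congr 1
      rw [Units.val_zpow_eq_zpow_val, Units.val_pow_eq_pow_val]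
      show (s₀ ^ (i : ℕ)) ^ (n + D).toNat = _
      rw [← zpow_natCast (s₀ ^ (i : ℕ)), Int.toNat_of_nonneg (by omega), zpow_add₀ (pow_ne_zero _ hs0),
        zpow_natCast, pow_mul, mul_comm]
      rfl
    rw [h2, h1, mul_zero]
  refine LaurentPolynomial.ext fun n => ?_
  by_contra hn
  have hn' : q.coeff n ≠ 0 := by simpa using hn
  have hb := hsupp n hn'
  have : P.coeff (n + D).toNat = q.coeff n := by
    rw [Polynomial.finsetSum_coeff, Finset.sum_eq_single n (fun b hbm hbn => ?_) (fun h => ?_)]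
    · simp
    · rw [Polynomial.coeff_monomial, if_neg]
      have := hsupp b (Finsupp.mem_support_iff.1 hbm)
      omega
    · exact absurd (Finsupp.mem_support_iff.2 hn') h
  exact hn' (by rw [← this, hP, Polynomial.coeff_zero])

end Points

section Cell

variable {k : Type u} [Field k] [IsAlgClosed k] {A : Type u} [CommRing A] [HopfAlgebra k A]
  [Algebra.FiniteType k A] [IsDomain A]

/-- A point of the cell domain: a dominant map each of whose rational values is a conjugate of a fixed point. -/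
theorem exists_dominant_conj (lam : A →ₐc[k] k[T;T⁻¹]) :
    ∃ (R : Type u) (_ : CommRing R) (_ : Algebra k R) (_ : IsDomain R) (_ : Algebra.FiniteType k R) (Ψ : A →ₐ[k] R),
      Function.Injective Ψ ∧ ∀ φ : R →ₐ[k] k, ∃ g l : Pt k A k,
        conj k lam l = push (cst k k) l ∧ toConv (φ.comp Ψ) = g * l * g⁻¹ := by
  let lamN := (invertHom k).comp lam
  let Jm := oneIdeal lamN
  let Jp := limIdeal lam
  let R := (A ⧸ Jm) ⊗[k] (A ⧸ Jp)
  have hopen := isOpenImmersion_cell_field (k := k) (A := A) (lam := lam) (lamNeg := lamN) (invertHom_comp_eq lam)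
    (Jm := Jm) (Jp := Jp) (fun R _ _ g => (kills_limIdeal_iff lam g).trans (limExists_iff lam g).symm)
    (fun R _ _ g => (kills_oneIdeal_iff lamN g).trans (limIsOne_iff lamN g).symm)
  have hem : ∀ a ∈ Jm, Bialgebra.counitAlgHom k A a = 0 := (kills_oneIdeal_iff lamN (Bialgebra.counitAlgHom k A)).2
    (show (1 : Pt k A k) ∈ oneSub k lamN from one_mem _)
  obtain ⟨s, hs⟩ := exists_general lam
  let t : Pt k A k := valAt lam s
  have ht : conj k lam t = push (cst k k) t := conj_valAt lam s
  have hep : ∀ a ∈ Jp, t.ofConv a = 0 := (kills_limIdeal_iff lam t.ofConv).2 (mem_limSub_of_fixed ht)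
  let φ₀ : R →ₐ[k] k := Algebra.TensorProduct.lift (Ideal.Quotient.liftₐ Jm (Bialgebra.counitAlgHom k A) hem)
    (Ideal.Quotient.liftₐ Jp t.ofConv hep) fun _ _ => .all _ _
  haveI : Nonempty ↥(Spec (CommRingCat.of R)) := ⟨⟨RingHom.ker φ₀, RingHom.ker_isPrime φ₀⟩⟩
  haveI := hopen
  haveI : IsIntegral (Spec (CommRingCat.of A)) := inferInstance
  let ci := Spec.map (CommRingCat.ofHom (DynLib.cellHom k Jm Jp).toRingHom)
  haveI : IsIntegral (Spec (CommRingCat.of R)) := isIntegral_of_isOpenImmersion ci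
  haveI hdom : IsDomain R := (affine_isIntegral_iff (R := CommRingCat.of _)).1 ‹_›
  haveI : Algebra.FiniteType k (A ⧸ Jm) :=
    Algebra.FiniteType.of_surjective (Ideal.Quotient.mkₐ k Jm) Ideal.Quotient.mk_surjective
  haveI : Algebra.FiniteType k (A ⧸ Jp) :=
    Algebra.FiniteType.of_surjective (Ideal.Quotient.mkₐ k Jp) Ideal.Quotient.mk_surjective
  haveI hft : Algebra.FiniteType k R := Algebra.FiniteType.trans (S := A ⧸ Jm) inferInstance inferInstance
  have hdim : ringKrullDim R = ringKrullDim A := by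
    rw [← PrimeSpectrum.topologicalKrullDim_eq_ringKrullDim, ← PrimeSpectrum.topologicalKrullDim_eq_ringKrullDim]
    let fA : Spec (CommRingCat.of A) ⟶ Spec (CommRingCat.of k) := Spec.map (CommRingCat.ofHom (algebraMap k A))
    haveI : LocallyOfFiniteType fA := (HasRingHomProperty.Spec_iff (P := @LocallyOfFiniteType)
      (φ := CommRingCat.ofHom (algebraMap k A))).2 (RingHom.finiteType_algebraMap.2 inferInstance)
    show topologicalKrullDim ↥(Spec (CommRingCat.of R)) = topologicalKrullDim ↥(Spec (CommRingCat.of A))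
    rw [DimLib.topologicalKrullDim_eq_ptDim_genericPoint (ci ≫ fA),
      DimLib.topologicalKrullDim_eq_ptDim_genericPoint fA, DimLib.ptDim_comp_preimmersion fA ci]
    have h2 : ci (genericPoint _) = genericPoint ↥(Spec (CommRingCat.of A)) := by
      have hspec := genericPoint_spec ↥(Spec (CommRingCat.of A))
      obtain ⟨y, hy⟩ : genericPoint ↥(Spec (CommRingCat.of A)) ∈ Set.range ci :=
        hspec.mem_open_set_iff ci.isOpenEmbedding.isOpen_range |>.2 (by simpa using Set.range_nonempty _)
      have h1 : ci (genericPoint _) ⤳ ci y := (genericPoint_specializes y).map ci.continuous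
      rw [hy] at h1
      exact (h1.antisymm (genericPoint_specializes _)).eq
    rw [h2]
  let πm : Pt k A (A ⧸ Jm) := toConv (Ideal.Quotient.mkₐ k Jm)
  let πp : Pt k A (A ⧸ Jp) := toConv (Ideal.Quotient.mkₐ k Jp)
  have hπm : πm ∈ oneSub _ lamN := (kills_oneIdeal_iff lamN πm.ofConv).1 fun a ha => Ideal.Quotient.eq_zero_iff_mem.2 ha
  have hπp : πp ∈ limSub _ lam := (kills_limIdeal_iff lam πp.ofConv).1 fun a ha => Ideal.Quotient.eq_zero_iff_mem.2 ha
  obtain ⟨h, hh⟩ := id hπp
  let z : Pt k A (A ⧸ Jp) := push (ev0 k _) h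
  let il : A ⧸ Jm →ₐ[k] R := Algebra.TensorProduct.includeLeft
  let ir : A ⧸ Jp →ₐ[k] R := Algebra.TensorProduct.includeRight
  let g₀ : Pt k A R := push il πm * push ir πp
  let ψ : Pt k A R := g₀ * push ir z * g₀⁻¹
  -- values at rational points
  have hval : ∀ φ : R →ₐ[k] k, ∃ v p l : Pt k A k, push (φ.comp il) πm = v ∧ push (φ.comp ir) πp = p ∧
      v ∈ oneSub k lamN ∧ p ∈ limSub k lam ∧ conj k lam l = push (cst k k) l ∧
      (∀ h' : Pt k A (Polynomial k), push (jay k k) h' = conj k lam p → push (ev0 k k) h' = l) ∧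
      toConv (φ.comp ψ.ofConv) = v * p * l * (v * p)⁻¹ := by
    intro φ
    let hp' : Pt k A (Polynomial k) := push (Pmap (φ.comp ir)) h
    have hhp : push (jay k k) hp' = conj k lam (push (φ.comp ir) πp) := by
      rw [push_push, ← Lmap_jay, ← push_push, hh, push_conj]
    have hl : push (ev0 k k) hp' = push (φ.comp ir) z := by
      simp only [hp', z, push_push]
      refine congrArg (fun f => push f h) (AlgHom.ext fun x => ?_)
      simp [ev0_apply, Pmap_coeff]
    refine ⟨_, _, push (φ.comp ir) z, rfl, rfl, ?_, ?_, ?_, fun h' hh' => ?_, ?_⟩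
    · exact (kills_oneIdeal_iff lamN _).1 fun a ha => by
        show φ (il (Ideal.Quotient.mk Jm a)) = 0
        rw [Ideal.Quotient.eq_zero_iff_mem.2 ha, map_zero, map_zero]
    · exact ⟨hp', hhp⟩
    · rw [← hl]; exact conj_limit lam _ hp' hhp
    · rw [DynLib.push_injective (jay k k) jay_injective (hh'.trans hhp.symm), hl]
    · show push φ ψ = _
      simp only [ψ, g₀, map_mul, map_inv, push_push]
  refine ⟨R, inferInstance, inferInstance, hdom, hft, ψ.ofConv, ?_, fun φ => ?_⟩
  · refine injective_of_unique_point hdim ψ.ofConv φ₀ fun φ hφ => ?_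
    obtain ⟨v, p, l, hv, hp, hvm, hpm, hl, hlu, e⟩ := hval φ
    obtain ⟨v₀, p₀, l₀, hv₀, hp₀, -, -, hl₀, hl₀u, e₀⟩ := hval φ₀
    have hv₀' : v₀ = 1 := by
      rw [← hv₀]
      refine WithConv.ext (AlgHom.ext fun a => ?_)
      show φ₀ (Ideal.Quotient.mk Jm a ⊗ₜ 1) = _
      refine (Algebra.TensorProduct.lift_tmul _ _ _ _ _).trans ?_
      rw [map_one, mul_one]
      rfl
    have hp₀' : p₀ = t := by
      rw [← hp₀]
      refine WithConv.ext (AlgHom.ext fun a => ?_)
      show φ₀ (1 ⊗ₜ Ideal.Quotient.mk Jp a) = _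
      refine (Algebra.TensorProduct.lift_tmul _ _ _ _ _).trans ?_
      rw [map_one, one_mul]
      rfl
    have hl₀' : l₀ = t := by
      obtain ⟨h', hh'⟩ := mem_limSub_of_fixed ht
      rw [← hl₀u h' (hp₀' ▸ hh'), lim_eq_self ht hh']
    have key : v * p * l * (v * p)⁻¹ = t := by
      rw [← e, hφ, e₀, hv₀', hp₀', hl₀']
      group
    let w : Pt k A k := p * l * p⁻¹
    have hw : w ∈ limSub k lam := mul_mem (mul_mem hpm (mem_limSub_of_fixed hl)) (inv_mem hpm)
    have hw' : w = v⁻¹ * t * v := by rw [← key]; simp only [w]; group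
    have ht' : conj k lamN t = push (cst k k) t := conj_invert_eq_cst t ht
    have hc1 : t⁻¹ * v⁻¹ * t * v ∈ oneSub k lamN :=
      mul_mem (conj_oneSub (inv_mem hvm) ht') hvm
    have hc2 : t⁻¹ * v⁻¹ * t * v ∈ limSub k lam := by
      have : t⁻¹ * v⁻¹ * t * v = t⁻¹ * w := by rw [hw']; group
      rw [this]
      exact mul_mem (inv_mem (mem_limSub_of_fixed ht)) hw
    have hc := eq_one_of_mem_cells (lam := lam) hc1 hc2
    have hcomm : v * t = t * v := by
      calc v * t = v * t * (t⁻¹ * v⁻¹ * t * v) := by rw [hc, mul_one]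
        _ = t * v := by group
    have hv1 : v = 1 := eq_one_of_fixed hvm (conj_invert_eq_cst v (hs v hcomm))
    have hwt : p * l * p⁻¹ = t := by
      show w = t
      rw [hw', hv1]; group
    obtain ⟨hp', hhp⟩ := id hpm
    obtain ⟨hlp, hhl⟩ := mem_limSub_of_fixed hl
    have hlt : l = t := by
      have e1 := lim_eq_self ht (h' := hp' * hlp * hp'⁻¹) (by
        rw [map_mul, map_mul, map_inv, hhp, hhl, ← map_mul, ← map_inv, ← map_mul, hwt])
      rw [map_mul, map_mul, map_inv, hlu hp' hhp, lim_eq_self hl hhl] at e1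
      simpa using e1
    have hpt : p = t := by
      have hcp : p * t = t * p := by rw [← mul_inv_eq_iff_eq_mul]; exact hlt ▸ hwt
      rw [← lim_eq_self (hs p hcp) hhp, hlu hp' hhp, hlt]
    refine Algebra.TensorProduct.ext (Ideal.Quotient.algHom_ext k ?_) (Ideal.Quotient.algHom_ext k ?_)
    · exact congrArg WithConv.ofConv (hv.trans (hv1.trans (hv₀'.symm.trans hv₀.symm)))
    · exact congrArg WithConv.ofConv (hp.trans (hpt.trans (hp₀'.symm.trans hp₀.symm)))
  · obtain ⟨v, p, l, -, -, -, -, hl, -, e⟩ := hval φ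
    exact ⟨v * p, l, hl, e⟩

end Cell

end Groth.Agent.AGFQuot23
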