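import Groth.Agent.AGFQuot23.BorelFun
import Groth.Agent.PicLib.FlatSections
import Groth.Agent.SGA3cLib.BCPoints
import Groth.Agent.AbSchLib.ConnectedFibres

/-!
# The centralizer of a Borel subgroup is the centre
-/

set_option autoImplicit false
set_option backward.isDefEq.respectTransparency false
set_option linter.style.haveILetI false

universe u

open CategoryTheory CategoryTheory.Limits MonoidalCategory CartesianMonoidalCategory MonObj GrpObj AlgebraicGeometry

namespace Groth.Agent.AGFQuot23

section AlgClosed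

variable {k : Type u} [Field k] [IsAlgClosed k]

/-- A morphism from `T ⊗ X` to an affine scheme factors through `T`, for affine `T` and proper connected reduced `X`. -/
theorem eq_fst_comp_of_isProper {T X Y : Over (Spec (CommRingCat.of k))} [IsAffine T.left] [IsProper X.hom]
    [IsReduced X.left] [ConnectedSpace X.left] [IsAffine Y.left] (f : T ⊗ X ⟶ Y)
    (o : 𝟙_ (Over (Spec (CommRingCat.of k))) ⟶ X) :
    f = fst T X ≫ lift (𝟙 T) (toUnit T ≫ o) ≫ f := by
  haveI : CompactSpace X.left := (quasiCompact_iff_compactSpace X.hom).1 inferInstance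
  haveI : QuasiSeparatedSpace X.left := (quasiSeparated_iff_quasiSeparatedSpace X.hom).1 inferInstance
  have hπ : Function.Bijective X.hom.appTop := by
    refine ⟨Function.LeftInverse.injective (g := fun t => (𝟙_ (Over (Spec (CommRingCat.of k)))).hom.appTop.hom.toFun
      (o.left.appTop t)) fun t => ?_, AbSchLib.surjective_appTop_of_isAlgClosed k X.hom⟩
    change (X.hom.appTop ≫ o.left.appTop ≫ (𝟙_ (Over (Spec (CommRingCat.of k)))).hom.appTop) t = t
    have hw : o.left ≫ X.hom = (𝟙_ (Over (Spec (CommRingCat.of k)))).hom := Over.w o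
    rw [← Category.assoc, ← Scheme.Hom.comp_appTop, hw]
    change (Scheme.Hom.appTop (𝟙 (Spec (CommRingCat.of k))) ≫ Scheme.Hom.appTop (𝟙 (Spec (CommRingCat.of k)))) t = t
    rw [Scheme.Hom.id_appTop]
    rfl
  have H : IsPullback (pullback.snd T.hom X.hom) (pullback.fst T.hom X.hom ≫ T.left.isoSpec.hom) X.hom
      (T.left.isoSpec.inv ≫ T.hom) :=
    (IsPullback.of_hasPullback T.hom X.hom).flip.of_iso (Iso.refl _) (Iso.refl _) T.left.isoSpec (Iso.refl _)
      (by simp) (by simp) (by simp) (by simp)
  have hb := PicLib.bijective_appTop_of_isPullback _ _ _ _ H hπ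
  have hs : Function.Surjective (fst T X).left.appTop := by
    rw [Scheme.Hom.comp_appTop] at hb
    exact (show Function.Surjective ((pullback.fst T.hom X.hom).appTop ∘ T.left.isoSpec.hom.appTop) from hb.2).of_comp
  have e : lift (𝟙 T) (toUnit T ≫ o) ≫ fst T X = 𝟙 T := lift_fst _ _
  refine Over.OverMorphism.ext (ext_of_isAffine ?_)
  ext s
  obtain ⟨y, hy⟩ := hs (f.left.appTop s)
  change f.left.appTop s = (fst T X).left.appTop ((lift (𝟙 T) (toUnit T ≫ o)).left.appTop (f.left.appTop s))
  rw [← hy]
  congr 1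
  have h2 := congrArg (fun m : T ⟶ T => m.left.appTop y) e
  exact h2.symm

variable {G B : Over (Spec (CommRingCat.of k))} [GrpObj G] [GrpObj B] [IsAffine G.left] [Smooth G.hom]
  [ConnectedSpace G.left]

/-- A point commuting with a Borel subgroup is central. -/
theorem mul_comm_of_comm_borel {iB : B ⟶ G} (hB : Red.IsBorelOver k iB) {T : Over (Spec (CommRingCat.of k))}
    (g x : T ⟶ G)
    (h : ∀ (W : Over (Spec (CommRingCat.of k))) (w : W ⟶ T) (b : W ⟶ B),
      (w ≫ g) * (b ≫ iB) = (b ≫ iB) * (w ≫ g)) : g * x = x * g := by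
  refine GrassLib.hom_ext_points fun A w => ?_
  rw [MonObj.comp_mul, MonObj.comp_mul]
  have h' : ∀ (W : Over (Spec (CommRingCat.of k))) (v : W ⟶ GrassLib.pt A) (b : W ⟶ B),
      (v ≫ w ≫ g) * (b ≫ iB) = (b ≫ iB) * (v ≫ w ≫ g) := fun W v b => by
    rw [← Category.assoc]
    exact h W (v ≫ w) b
  generalize w ≫ g = g₁ at h' ⊢
  generalize w ≫ x = x₁
  haveI : IsAffine (GrassLib.pt A).left := inferInstanceAs (IsAffine (Spec _))
  haveI : QuasiCompact G.hom := (quasiCompact_iff_compactSpace G.hom).2 inferInstance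
  obtain ⟨hi, hcl, hsm, hconn, -⟩ := id hB
  haveI := hi; haveI := hcl; haveI := hsm; haveI := hconn
  haveI : QuasiCompact B.hom := by rw [← Over.w iB]; infer_instance
  haveI : Mono iB := Over.mono_of_mono_left _
  haveI : IsReduced G.left := AbSchLib.isReduced_of_smooth G.hom
  obtain ⟨X, a, o, -, hLX, -, hfl, hs, hpb⟩ := AlgGrpLib.HomogQuotProj.exists_quotient_projMono G B iB
  haveI := isProper_of_isBorelOver hB ⟨hLX, hfl, hs, hpb⟩
  haveI := hfl; haveI := hs
  haveI : IsReduced X.left := AlgSpLib.isReduced_of_flat_surjective (a.orbitMap o).left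
  haveI : ConnectedSpace X.left := (a.orbitMap o).left.surjective.connectedSpace (a.orbitMap o).left.continuous
  obtain ⟨ψ, hψ⟩ := ((isFppfCov_orbitMap a o hs hfl).whiskerLeft (GrassLib.pt A)).exists_desc
    (snd (GrassLib.pt A) G * (fst _ _ ≫ g₁) * (snd _ _)⁻¹) fun {W} p q e => by
      have e1 : p ≫ fst _ G = q ≫ fst _ G := by
        have := congrArg (fun m => m ≫ fst (GrassLib.pt A) X) e
        simpa only [Category.assoc, whiskerLeft_fst] using this
      have e2 : (p ≫ snd _ G) ≫ a.orbitMap o = (q ≫ snd _ G) ≫ a.orbitMap o := by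
        have := congrArg (fun m => m ≫ snd (GrassLib.pt A) X) e
        simpa only [Category.assoc, whiskerLeft_snd] using this
      obtain ⟨t, ht₁, ht₂⟩ := hpb.exists_lift _ _ e2
      rw [RedQuotLib.act_eq, ht₁] at ht₂
      have hb := h' W (p ≫ fst _ G) (t ≫ snd G B)
      simp only [MonObj.comp_mul, GrpObj.comp_inv, ← Category.assoc] at hb ht₂ ⊢
      rw [← ht₂, ← e1, _root_.mul_inv_rev,
        _root_.mul_assoc (p ≫ snd _ G) ((t ≫ snd G B) ≫ iB) ((p ≫ fst _ G) ≫ g₁), ← hb]
      group
  have h2 : ∀ y : GrassLib.pt A ⟶ G, lift (𝟙 _) (y ≫ a.orbitMap o) ≫ ψ = y * g₁ * y⁻¹ := fun y => by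
    rw [show lift (𝟙 _) (y ≫ a.orbitMap o) = lift (𝟙 _) y ≫ (GrassLib.pt A ◁ a.orbitMap o) from
      (lift_whiskerLeft _ _ _).symm, Category.assoc, hψ]
    simp only [MonObj.comp_mul, GrpObj.comp_inv, lift_snd, lift_fst_assoc, Category.id_comp]
  have key : x₁ * g₁ * x₁⁻¹ = g₁ := by
    rw [← h2 x₁, eq_fst_comp_of_isProper ψ o, lift_fst_assoc, Category.id_comp,
      ← one_comp_orbitMap (W := GrassLib.pt A) a o, h2]
    simp
  calc g₁ * x₁ = x₁ * g₁ * x₁⁻¹ * x₁ := by rw [key]
    _ = x₁ * g₁ := by group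

end AlgClosed

section Field

variable {k : Type u} [Field k] {G B : Over (Spec (CommRingCat.of k))} [GrpObj G] [GrpObj B] [IsAffine G.left]
  [Smooth G.hom] [ConnectedSpace G.left]

/-- A point commuting with a Borel subgroup is central, over any field. -/
theorem mul_comm_of_comm_borel' {iB : B ⟶ G} (hB : Red.IsBorel iB) {T : Over (Spec (CommRingCat.of k))}
    (g x : T ⟶ G)
    (h : ∀ (W : Over (Spec (CommRingCat.of k))) (w : W ⟶ T) (b : W ⟶ B),
      (w ≫ g) * (b ≫ iB) = (b ≫ iB) * (w ≫ g)) : g * x = x * g := by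
  let s : Spec (CommRingCat.of k) := IsLocalRing.closedPoint k
  haveI : Subsingleton ↥(Spec (CommRingCat.of k)) := inferInstanceAs (Subsingleton (PrimeSpectrum k))
  let q := Red.geomPt s
  haveI : Surjective q := ⟨fun y => ⟨IsLocalRing.closedPoint _, Subsingleton.elim _ _⟩⟩
  haveI : Flat q := inferInstance
  let F := Over.pullback q
  haveI : (Over.pullback q).IsRightAdjoint := (Over.mapPullbackAdj q).isRightAdjoint
  haveI : Flat (pullback.fst T.hom q) := inferInstance
  haveI : Surjective (pullback.fst T.hom q) := inferInstance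
  haveI : Epi (pullback.fst T.hom q) := Flat.epi_of_flat_of_surjective _
  have hfaith : ∀ a b : T ⟶ G, F.map a = F.map b → a = b := fun a b e => by
    refine Over.OverMorphism.ext ((cancel_epi (pullback.fst T.hom q)).1 ?_)
    have := congrArg (fun m => m.left ≫ pullback.fst G.hom q) e
    simpa [F] using this
  refine hfaith _ _ ?_
  haveI : IsAffine (F.obj G).left := inferInstanceAs (IsAffine (pullback G.hom q))
  haveI : Smooth (F.obj G).hom := MorphismProperty.pullback_snd (P := @Smooth) G.hom q inferInstance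
  haveI : ConnectedSpace (F.obj G).left := by
    haveI : GeometricallyConnected G.hom :=
      AbSchLib.geometricallyConnected_of_section G.hom η[G].left (Over.w η[G]) fun y => by
        have hsurj : Function.Surjective (G.hom.fiberι y) := fun a => by
          have ha : a ∈ Set.range (G.hom.fiberι y) := by
            rw [Scheme.Hom.range_fiberι]
            exact Subsingleton.elim (α := PrimeSpectrum k) _ _
          exact ha
        let e := (G.hom.fiberι y).isEmbedding.toHomeomorphOfSurjective hsurj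
        exact e.symm.surjective.connectedSpace e.symm.continuous
    exact inferInstanceAs (ConnectedSpace ↥(pullback G.hom q))
  simp only [F, Functor.map_mul]
  refine mul_comm_of_comm_borel (hB.2.2.2 s) _ _ fun W w b => ?_
  obtain ⟨b, rfl⟩ := (SGA3cLib.BCPoints.pt q B W).surjective b
  obtain ⟨v, rfl⟩ := (SGA3cLib.BCPoints.pt q T W).surjective w
  rw [← SGA3cLib.BCPoints.pt_comp, ← SGA3cLib.BCPoints.pt_comp, ← SGA3cLib.BCPoints.pt_mul,
    ← SGA3cLib.BCPoints.pt_mul, h _ v b]

end Field

end Groth.Agent.AGFQuot23
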