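import Groth.Agent.AGFQuot23.CentTorusSolvable
import Groth.Agent.HopfLib.UnipotentPoints
import Groth.Agent.AlgGrpLib.IsogenyProps
import Groth.Agent.S3006
import Groth.Agent.S5249
import Groth.Agent.MultExt26.GmBase
import Groth.Agent.SGA3cLib.MonoClosed

/-!
# A connected group all of whose tori are central is nilpotent
-/

set_option autoImplicit false
set_option backward.isDefEq.respectTransparency false
set_option linter.style.haveILetI false
set_option maxHeartbeats 1000000

universe u

open CategoryTheory CategoryTheory.Limits MonoidalCategory CartesianMonoidalCategory MonObj GrpObj AlgebraicGeometry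
open WithConv
open Groth.Agent.AlgGrpLib (ptOf)
open scoped TensorProduct

noncomputable section

namespace Groth.Agent.AGFQuot23

variable {k : Type u} [Field k] [IsAlgClosed k]

open DynLib in
/-- A connected solvable group whose diagonalizable subgroups are central has nilpotent rational points. -/
theorem isNilpotent_points_of_central {A : Type u} [CommRing A] [HopfAlgebra k A] [Algebra.FiniteType k A] [IsDomain A]
    [Group.IsSolvable (Pt k A k)]
    (h : ∀ (M : Type u) (_ : CommGroup M) (r : ℕ) (_ : M ≃* Multiplicative (Fin r → ℤ))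
      (σ : A →ₐc[k] MonoidAlgebra k M) (g : Pt k A k) (p : Pt k (MonoidAlgebra k M) k),
        g * pull σ p = pull σ p * g) : Group.IsNilpotent (Pt k A k) := by
  have hconn : ∀ x : A, IsIdempotentElem x → x = 0 ∨ x = 1 := fun x hx => IsIdempotentElem.iff_eq_zero_or_one.1 hx
  have hT : HopfRep.IsTrigonalizable k A := S3266.result k A hconn
  obtain ⟨B, _, _, ψ, J, hJH, hψ, hBd, hJ, hU⟩ := (S7967.result k A).1 hT
  haveI := hJH
  have hBdiag : SGA3b.IsDiag k B := SGA3bLib.isDiag_of_span_groupLike hBd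
  obtain ⟨r₀, hr₀⟩ := S4128.result k A B hBdiag ψ hψ J hJ hU
  haveI : IsDomain B := Function.Injective.isDomain (ψ : B →+* A) hψ
  have hr₀s : Function.Surjective r₀ := fun b => ⟨ψ b, DFunLike.congr_fun hr₀ b⟩
  haveI : Algebra.FiniteType k B := Algebra.FiniteType.of_surjective (r₀ : A →ₐ[k] B) hr₀s
  obtain ⟨M, _, ⟨ε⟩⟩ := hBdiag
  haveI : IsDomain (MonoidAlgebra k M) := ε.toAlgEquiv.symm.toRingEquiv.toMulEquiv.isDomain _
  obtain ⟨r, ⟨εM⟩⟩ := HMTor29.MaxTorus.exists_free_equiv (Algebra.FiniteType.equiv ‹Algebra.FiniteType k B› ε.toAlgEquiv)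
  -- points of the torus part are central
  have hcen : ∀ t : Pt k B k, pull r₀ t ∈ Subgroup.center (Pt k A k) := fun t => by
    rw [Subgroup.mem_center_iff]
    intro g
    have e : pull r₀ t = pull ((ε : B →ₐc[k] MonoidAlgebra k M).comp r₀)
        (pull (ε.symm : MonoidAlgebra k M →ₐc[k] B) t) := by
      refine WithConv.ext (AlgHom.ext fun a => ?_)
      show t.ofConv (r₀ a) = t.ofConv (ε.symm (ε (r₀ a)))
      rw [ε.symm_apply_apply]
    rw [e]
    exact h M _ r εM _ g _
  let π' := Bialgebra.Quotient.mkBialgHom (R := k) J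
  haveI : Algebra.FiniteType k (A ⧸ J) :=
    Algebra.FiniteType.of_surjective (Ideal.Quotient.mkₐ k J) Ideal.Quotient.mk_surjective
  haveI : Group.IsNilpotent (Pt k (A ⧸ J) k) := HopfLib.isNilpotent_points hU
  let f : Pt k (A ⧸ J) k →* Pt k A k ⧸ Subgroup.center (Pt k A k) :=
    (QuotientGroup.mk' (Subgroup.center (Pt k A k))).comp (pull π')
  have hf : Function.Surjective f := by
    intro q
    obtain ⟨g, rfl⟩ := QuotientGroup.mk'_surjective _ q
    let z := pull r₀ (pull ψ g)
    let u := g * z⁻¹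
    have hu : pull ψ u = 1 := by
      rw [map_mul, map_inv, mul_inv_eq_one]
      refine WithConv.ext (AlgHom.ext fun b => ?_)
      show g.ofConv (ψ b) = g.ofConv (ψ (r₀ (ψ b)))
      rw [show r₀ (ψ b) = b from DFunLike.congr_fun hr₀ b]
    have hk : ∀ a ∈ J, u.ofConv a = 0 := by
      intro a ha
      rw [hJ] at ha
      refine RingHom.mem_ker.1 ((Ideal.span_le.2 (?_ : _ ⊆ (RingHom.ker (u.ofConv : A →+* k) : Set A))) ha)
      · rintro _ ⟨b, hb, rfl⟩
        have e := congrArg (fun w : Pt k B k => w.ofConv b) hu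
        simp only [AlgHom.convOne_apply] at e
        show u.ofConv (ψ b) = 0
        refine e.trans ?_
        rw [show Coalgebra.counit (R := k) b = 0 from hb, map_zero]
    refine ⟨toConv (Ideal.Quotient.liftₐ J u.ofConv hk), ?_⟩
    have e : pull π' (toConv (Ideal.Quotient.liftₐ J u.ofConv hk)) = u := WithConv.ext (AlgHom.ext fun a => rfl)
    show QuotientGroup.mk' _ (pull π' _) = _
    rw [e]
    refine QuotientGroup.eq.2 ?_
    rw [show u⁻¹ * g = z by simp [u]]
    exact hcen _
  exact Group.of_quotient_center_nilpotent (Group.nilpotent_of_surjective f hf)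

variable {C : Over (Spec (CommRingCat.of k))} [GrpObj C] [IsAffine C.left] [Smooth C.hom] [ConnectedSpace C.left]

open DynLib in
/-- A connected group all of whose tori are central is nilpotent. -/
theorem isNilpotentGrp_of_central_tori
    (h : ∀ (P : Over (Spec (CommRingCat.of k))) [GrpObj P], Red.IsTorus P → ∀ (f : P ⟶ C) [IsMonHom f]
      (g : 𝟙_ (Over (Spec (CommRingCat.of k))) ⟶ C) (x : 𝟙_ (Over (Spec (CommRingCat.of k))) ⟶ P),
        g * (x ≫ f) = (x ≫ f) * g) : AGF.IsNilpotentGrp C := by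
  haveI : QuasiCompact C.hom := (quasiCompact_iff_compactSpace C.hom).2 inferInstance
  haveI : IsReduced C.left := AbSchLib.isReduced_of_smooth C.hom
  haveI : IrreducibleSpace C.left := SGA3cLib.irreducibleSpace_of_connected C
  obtain ⟨A, _, _, e, _, _⟩ := HopfQuot.exists_spec (k := k) C
  haveI : IsIso e.left := inferInstanceAs (IsIso ((Over.forget _).map e))
  haveI : IsMonHom (CategoryTheory.inv e) := inferInstanceAs (IsMonHom (asIso e).inv)
  haveI : LocallyOfFiniteType (HopfQuot.spec (k := k) A).hom := by rw [← Over.w e]; infer_instance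
  haveI : Algebra.FiniteType k A :=
    RingHom.finiteType_algebraMap.1 ((HasRingHomProperty.Spec_iff (P := @LocallyOfFiniteType)
      (φ := CommRingCat.ofHom (algebraMap k A))).1 ‹LocallyOfFiniteType (HopfQuot.spec (k := k) A).hom›)
  haveI : IsReduced (Spec (CommRingCat.of A)) := by
    haveI hoi : IsOpenImmersion e.left := inferInstanceAs (IsOpenImmersion (asIso e.left).hom)
    exact @isReduced_of_isOpenImmersion _ _ e.left hoi ‹_›
  haveI : IsIntegral (Spec (CommRingCat.of A)) := by
    haveI : IrreducibleSpace (Spec (CommRingCat.of A)) :=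
      (asIso e.left).inv.homeomorph.surjective.irreducibleSpace (asIso e.left).inv.continuous
    exact isIntegral_of_irreducibleSpace_of_isReduced _
  haveI : IsDomain A := (affine_isIntegral_iff (CommRingCat.of A)).1 inferInstance
  haveI : Group.IsSolvable (Pt k A k) := by
    obtain ⟨n, hn⟩ := isSolvableGrp_of_central_tori h
    haveI : Group.IsSolvable (𝟙_ (Over (Spec (CommRingCat.of k))) ⟶ C) := ⟨⟨n, hn _⟩⟩
    exact solvable_of_solvable_injective (f := MonoidHom.mk' (fun w : Pt k A k => ratPt w ≫ e) fun v w => by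
      rw [ratPt_mul, MonObj.mul_comp]) fun v w hvw => CentConn12.ratPt_injective ((cancel_mono e).1 hvw)
  haveI : Group.IsNilpotent (Pt k A k) := isNilpotent_points_of_central fun M _ r εM σ g p => by
    have h' := h _ (HMTor29.MaxTorus.isTorus_spec εM) (HopfQuot.specHom σ ≫ e) (ratPt g ≫ e) (ratPt p)
    rw [← Category.assoc, ratPt_comp, ← MonObj.mul_comp, ← MonObj.mul_comp, cancel_mono, ← ratPt_mul, ← ratPt_mul]
      at h'
    exact CentConn12.ratPt_injective h'
  haveI : Group.IsNilpotent (𝟙_ (Over (Spec (CommRingCat.of k))) ⟶ C) :=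
    Group.nilpotent_of_surjective (MonoidHom.mk' (fun w : Pt k A k => ratPt w ≫ e) fun v w => by
      rw [ratPt_mul, MonObj.mul_comp]) fun y => by
      obtain ⟨w, hw⟩ := CentConn12.ratPt_surjective (y ≫ CategoryTheory.inv e)
      exact ⟨w, by show ratPt w ≫ e = y; rw [hw, Category.assoc, IsIso.inv_hom_id, Category.comp_id]⟩
  let P := AlgGrpLib.PointsDense.spK k k
  haveI : IsIso (toUnit P).left := by
    have h : (toUnit P).left = P.hom := (Category.comp_id _).symm.trans (Over.w (toUnit P))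
    rw [h]
    show IsIso (Spec.map (CommRingCat.ofHom (algebraMap k k)))
    rw [show CommRingCat.ofHom (algebraMap k k) = 𝟙 (CommRingCat.of k) from rfl, Spec.map_id]
    infer_instance
  haveI : IsIso (toUnit P) := (isIso_iff_of_reflects_iso _ (Over.forget _)).1 ‹_›
  haveI : Group.IsNilpotent (P ⟶ C) :=
    Group.nilpotent_of_surjective (MonoidHom.mk' (fun g : 𝟙_ (Over (Spec (CommRingCat.of k))) ⟶ C => toUnit P ≫ g)
      fun g g' => MonObj.comp_mul _ g g') fun y => ⟨CategoryTheory.inv (toUnit P) ≫ y, IsIso.hom_inv_id_assoc (toUnit P) y⟩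
  obtain ⟨n, hn⟩ := Group.IsNilpotent.nilpotent (G := (P ⟶ C))
  refine ⟨n, fun X => ?_⟩
  rw [AlgGrpLib.IsogenyProps.upper_iff] at hn ⊢
  exact ((SGA3DerLib.series_iff C n k).2).2 hn X

variable {G : Over (Spec (CommRingCat.of k))} [GrpObj G] [IsAffine G.left] [Smooth G.hom] [ConnectedSpace G.left]

/-- If a maximal torus is central then the group is nilpotent. -/
theorem isNilpotentGrp_of_central_maxTorus {T : Over (Spec (CommRingCat.of k))} [GrpObj T] {iT : T ⟶ G}
    (hT : AGF.IsMaxTorus iT)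
    (hc : ∀ (W : Over (Spec (CommRingCat.of k))) (g : W ⟶ G) (x : W ⟶ T), g * (x ≫ iT) = (x ≫ iT) * g) :
    AGF.IsNilpotentGrp G := by
  refine isNilpotentGrp_of_central_tori fun P _ hP f _ g x => ?_
  haveI := hT.1
  obtain ⟨y, p, hp, hf⟩ := HMTor29.MaxTorus.exists_conj_into hT P hP f
  have e : iT ≫ cj y = iT := by
    rw [comp_cj, _root_.mul_assoc, ← Category.id_comp iT, ← hc T (cst T y) (𝟙 T), inv_mul_cancel_left]
  rw [hf, e, ← Category.assoc]
  exact hc _ g (x ≫ p)

/-- The centralizer of a maximal torus is nilpotent. -/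
theorem isNilpotentGrp_centralizer_maxTorus {T Z : Over (Spec (CommRingCat.of k))} [GrpObj T] [GrpObj Z] {iT : T ⟶ G}
    (hT : AGF.IsMaxTorus iT) {z : Z ⟶ G} (hz : Red.IsCentralizerOf iT z) : AGF.IsNilpotentGrp Z := by
  haveI := hT.1
  haveI := hT.2.1
  have hTt : Red.IsTorus T := hT.2.2.1
  haveI := hz.1
  haveI := hz.2.1
  obtain ⟨hsm, hcl⟩ := CentConn12.smooth_closed hTt iT hz
  haveI := hsm; haveI := hcl
  haveI : IsAffine Z.left := isAffine_of_isAffineHom z.left
  haveI : ConnectedSpace Z.left := CentConn12.connected_affine hTt iT hz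
  obtain ⟨tC, htC⟩ := (hz.2.2 T iT).2 fun X x y => by
    rw [← MonObj.mul_comp, ← MonObj.mul_comp, SGA3cLib.torus_mul_comm hTt]
  haveI : IsMonHom (tC ≫ z) := by rw [htC]; infer_instance
  haveI := isMonHom_of_comp_mono' tC z
  haveI : Mono tC := by
    haveI : Mono (tC ≫ z) := by rw [htC]; infer_instance
    exact mono_of_mono tC z
  refine isNilpotentGrp_of_central_maxTorus (iT := tC) ⟨inferInstance, inferInstance, hTt, fun T' _ j _ _ f hT' hfj =>
    hT.2.2.2 T' (j ≫ z) f hT' (by rw [← Category.assoc, hfj, htC])⟩ fun W g x => ?_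
  rw [← cancel_mono z, MonObj.mul_comp, MonObj.mul_comp, Category.assoc, htC]
  simpa using (hz.2.2 W (g ≫ z)).1 ⟨g, rfl⟩ W (𝟙 W) x

/-- A group with only one maximal torus is nilpotent. -/
theorem isNilpotentGrp_of_unique_maxTorus {T : Over (Spec (CommRingCat.of k))} [GrpObj T] {iT : T ⟶ G}
    (hT : AGF.IsMaxTorus iT)
    (huniq : ∀ g : 𝟙_ (Over (Spec (CommRingCat.of k))) ⟶ G, ∃ f : T ≅ T, f.hom ≫ iT = iT ≫ cj g) :
    AGF.IsNilpotentGrp G := by
  haveI := hT.1
  haveI := hT.2.1
  have hTt : Red.IsTorus T := hT.2.2.1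
  haveI : QuasiCompact G.hom := (quasiCompact_iff_compactSpace G.hom).2 inferInstance
  haveI : IsReduced G.left := AbSchLib.isReduced_of_smooth G.hom
  haveI : Smooth T.hom := AlgGrpLib.AxesTorus.smooth_of_isTorus hTt
  haveI : IsAffine T.left := (MaxTorImg10.isAffine_and_connected_of_isTorus hTt).1
  haveI : QuasiCompact T.hom := (quasiCompact_iff_compactSpace T.hom).2 inferInstance
  haveI : QuasiCompact iT.left := by
    haveI : QuasiCompact (iT.left ≫ G.hom) := by rw [Over.w iT]; infer_instance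
    exact QuasiCompact.of_comp iT.left G.hom
  haveI hclT : IsClosedImmersion iT.left := SGA3cLib.isClosedImmersion_of_mono iT
  obtain ⟨⟨Z, _, z, hZ, hzcl, hzsm⟩, N, _, n₀, hN, hncl, hnsm⟩ :=
    S3006.result (Spec (CommRingCat.of k)) G T iT hclT hTt
  obtain ⟨f, hf, hfo, hfc⟩ := S5249.result T G Z N (MultExt26.isMultTypeFT_of_torus T hTt) inferInstance inferInstance
    iT z n₀ hZ hN
  haveI := hfo; haveI := hfc; haveI := hzcl; haveI := hncl
  haveI := hN.2.1; haveI := hZ.2.1; haveI := hN.1; haveI := hZ.1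
  obtain ⟨m, hm⟩ := exists_lift_of_points (𝟙 G) n₀ fun g => by
    obtain ⟨l, hl⟩ := (hN.2.2 _ g).2 fun X x h => by
      obtain ⟨φ, hφ⟩ := huniq g
      obtain ⟨φ', hφ'⟩ := huniq g⁻¹
      have e₁ := congrArg (fun q => h ≫ q) hφ'
      have e₂ := congrArg (fun q => h ≫ q) hφ
      simp only [comp_cj, MonObj.comp_mul, GrpObj.comp_inv, point_comp_cst] at e₁ e₂
      simp only [cst, GrpObj.comp_inv, _root_.inv_inv] at e₁ e₂
      rw [show x = toUnit X from toUnit_unique _ _]
      exact ⟨⟨h ≫ φ'.hom, by rw [Category.assoc, e₁]⟩, ⟨h ≫ φ.hom, by rw [Category.assoc, e₂]⟩⟩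
    rw [Category.comp_id]
    exact ⟨ptOf l, by rw [← hl]; rfl⟩
  haveI : IsIso n₀ := ⟨m, by rw [← cancel_mono n₀, Category.assoc, hm, Category.comp_id, Category.id_comp], hm⟩
  haveI : IsIso n₀.left := inferInstanceAs (IsIso ((Over.forget _).map n₀))
  haveI : ConnectedSpace N.left :=
    (inv n₀.left).homeomorph.surjective.connectedSpace (inv n₀.left).homeomorph.continuous
  obtain ⟨z₁, hz₁⟩ := (hZ.2.2 _ (1 : 𝟙_ _ ⟶ G)).2 fun X x h => by
    rw [MonObj.comp_one, _root_.one_mul, _root_.mul_one]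
  haveI : Surjective f.left := ⟨Set.range_eq_univ.1 ((isClopen_iff.1
    ⟨f.left.isClosedEmbedding.isClosed_range, f.left.isOpenEmbedding.isOpen_range⟩).resolve_left
      (Set.Nonempty.ne_empty ⟨_, ptOf z₁, rfl⟩))⟩
  haveI : IsIso f.left := by
    haveI : Epi f.left.base := (TopCat.epi_iff_surjective _).2 f.left.surjective
    exact IsOpenImmersion.isIso f.left
  haveI : IsIso ((Over.forget _).map f) := ‹IsIso f.left›
  haveI : IsIso f := isIso_of_reflects_iso f (Over.forget _)
  haveI : IsIso z := by rw [← hf]; infer_instance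
  refine isNilpotentGrp_of_central_maxTorus hT fun W g x => ?_
  simpa using (hZ.2.2 W g).1 ⟨g ≫ inv z, by simp⟩ W (𝟙 W) x

end Groth.Agent.AGFQuot23
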