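import Groth.Agent.AGFQuot23.TorusBorelUp
import Groth.Agent.HMTor29.MaxTorus

/-!
# The centralizer of a maximal torus is solvable
-/

set_option autoImplicit false
set_option backward.isDefEq.respectTransparency false
set_option linter.style.haveILetI false
set_option maxHeartbeats 1000000

universe u

open CategoryTheory CategoryTheory.Limits MonoidalCategory CartesianMonoidalCategory MonObj GrpObj AlgebraicGeometry
open WithConv
open scoped TensorProduct LaurentPolynomial

noncomputable section

namespace Groth.Agent.AGFQuot23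

variable {k : Type u} [Field k] [IsAlgClosed k]

open DynLib LaurentPolynomial in
/-- A cocharacter whose values commute with all rational points is central. -/
theorem isCentralCochar_of_points {A : Type u} [CommRing A] [HopfAlgebra k A] [Algebra.FiniteType k A]
    [_root_.IsReduced A] (lam : A →ₐc[k] k[T;T⁻¹])
    (h : ∀ (g : Pt k A k) (s : kˣ), g * valAt lam s = valAt lam s * g) :
    AlgGrpLib.CentralTorus.IsCentralCochar lam := by
  have key : ∀ w : A →ₐ[k] k, push (Lmap w) (pre lam (tee k A) * push (DynLib.cst k A) (toConv (AlgHom.id k A))) =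
      push (Lmap w) (push (DynLib.cst k A) (toConv (AlgHom.id k A)) * pre lam (tee k A)) := by
    intro w
    have e1 : push (Lmap w) (pre lam (tee k A)) = pre lam (tee k k) := by rw [push_pre, Lmap_tee]
    have e2 : push (Lmap w) (push (DynLib.cst k A) (toConv (AlgHom.id k A))) = push (DynLib.cst k k) (toConv w) :=
      WithConv.ext (AlgHom.ext fun a => DFunLike.congr_fun (Lmap_cst (k := k) w) a)
    rw [map_mul, map_mul, e1, e2]
    have hev : ∀ s : kˣ, push (evU s) (push (DynLib.cst k k) (toConv w)) = toConv w := fun s => by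
      refine WithConv.ext (AlgHom.ext fun a => ?_)
      show evU s (DynLib.cst k k (w a)) = w a
      rw [cst_apply]
      exact evU_C s _
    have hv : ∀ s : kˣ, push (evU s) (pre lam (tee k k)) = valAt lam s := fun s => by
      rw [push_pre]
      exact congrArg (pre lam) (Lext' (by simp))
    refine WithConv.ext (AlgHom.ext fun a => HMTor29.laurent_ext fun z => ?_)
    rw [show HMTor29.lev (k := k) z = evU z from Lext' (by rw [HMTor29.lev_T, evU_T])]
    refine congrArg (fun q : Pt k A k => q.ofConv a)
      (show push (evU z) (pre lam (tee k k) * push (DynLib.cst k k) (toConv w)) =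
        push (evU z) (push (DynLib.cst k k) (toConv w) * pre lam (tee k k)) from ?_)
    rw [map_mul, map_mul, hev, hv, h (toConv w) z]
  refine WithConv.ext (AlgHom.ext fun a => LaurentPolynomial.ext fun n => ?_)
  refine sub_eq_zero.1 (eq_zero_of_forall_point (k := k) _ fun w => ?_)
  rw [map_sub, sub_eq_zero, ← Lmap_coeff, ← Lmap_coeff]
  exact congrArg (fun q : Pt k A k[T;T⁻¹] => (q.ofConv a).coeff n) (key w)

/-- The characters of the multiplicative group, in the universe of the base field. -/
abbrev GmChar := ULift.{u} (Multiplicative ℤ)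

/-- The identification of Laurent polynomials with a group algebra. -/
def laurHom : k[T;T⁻¹] →ₐ[k] MonoidAlgebra k GmChar.{u} :=
  AddMonoidAlgebra.lift k (MonoidAlgebra k GmChar.{u}) ℤ
    { toFun := fun n => MonoidAlgebra.single (ULift.up (Multiplicative.ofAdd (Multiplicative.toAdd n))) 1
      map_one' := rfl
      map_mul' := fun a b => by
        rw [MonoidAlgebra.single_mul_single, _root_.mul_one]
        rfl }

theorem laurHom_T (n : ℤ) :
    laurHom (k := k) (LaurentPolynomial.T n) = MonoidAlgebra.single (ULift.up (Multiplicative.ofAdd n)) 1 := by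
  rw [laurHom, LaurentPolynomial.T, AddMonoidAlgebra.lift_single, one_smul]
  rfl

/-- The identification as a bialgebra map. -/
def laur : k[T;T⁻¹] →ₐc[k] MonoidAlgebra k GmChar.{u} :=
  BialgHom.ofAlgHom laurHom
    (DynLib.Lext' (by
      simp only [AlgHom.comp_apply, Bialgebra.counitAlgHom_apply, laurHom_T, MonoidAlgebra.counit_single,
        Bialgebra.counit_one, LaurentPolynomial.counit_T]))
    (DynLib.Lext' (by
      simp only [AlgHom.comp_apply, Bialgebra.comulAlgHom_apply, laurHom_T, LaurentPolynomial.comul_T,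
        Algebra.TensorProduct.map_tmul, MonoidAlgebra.comul_single, Bialgebra.comul_one,
        Algebra.TensorProduct.one_def, TensorProduct.map_tmul, MonoidAlgebra.lsingle_apply]))

variable {C : Over (Spec (CommRingCat.of k))} [GrpObj C] [IsAffine C.left] [Smooth C.hom] [ConnectedSpace C.left]

open DynLib in
/-- A connected group all of whose tori are central is solvable. -/
theorem isSolvableGrp_of_central_tori
    (h : ∀ (P : Over (Spec (CommRingCat.of k))) [GrpObj P], Red.IsTorus P → ∀ (f : P ⟶ C) [IsMonHom f]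
      (g : 𝟙_ (Over (Spec (CommRingCat.of k))) ⟶ C) (x : 𝟙_ (Over (Spec (CommRingCat.of k))) ⟶ P),
        g * (x ≫ f) = (x ≫ f) * g) : Red.IsSolvableGrp C := by
  haveI : QuasiCompact C.hom := (quasiCompact_iff_compactSpace C.hom).2 inferInstance
  haveI : IsReduced C.left := AbSchLib.isReduced_of_smooth C.hom
  haveI : IrreducibleSpace C.left := SGA3cLib.irreducibleSpace_of_connected C
  obtain ⟨A, _, _, e, _, _⟩ := HopfQuot.exists_spec (k := k) C
  haveI : IsIso e.left := inferInstanceAs (IsIso ((Over.forget _).map e))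
  haveI : IsMonHom (CategoryTheory.inv e) := inferInstanceAs (IsMonHom (asIso e).inv)
  haveI : LocallyOfFiniteType (HopfQuot.spec (k := k) A).hom := by rw [← Over.w e]; infer_instance
  haveI : Algebra.FiniteType k A :=
    RingHom.finiteType_algebraMap.1 ((HasRingHomProperty.Spec_iff (P := @LocallyOfFiniteType)
      (φ := CommRingCat.ofHom (algebraMap k A))).1 ‹LocallyOfFiniteType (HopfQuot.spec (k := k) A).hom›)
  haveI : IsReduced (Spec (CommRingCat.of A)) := by
    haveI hoi : IsOpenImmersion e.left := inferInstanceAs (IsOpenImmersion (asIso e.left).hom)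
    exact @isReduced_of_isOpenImmersion _ _ e.left hoi ‹_›
  haveI : IsIntegral (Spec (CommRingCat.of A)) := by
    haveI : IrreducibleSpace (Spec (CommRingCat.of A)) :=
      (asIso e.left).inv.homeomorph.surjective.irreducibleSpace (asIso e.left).inv.continuous
    exact isIntegral_of_irreducibleSpace_of_isReduced _
  haveI : IsDomain A := (affine_isIntegral_iff (CommRingCat.of A)).1 inferInstance
  have hε : GmChar.{u} ≃* Multiplicative (Fin 1 → ℤ) :=
    MulEquiv.ulift.trans (AddEquiv.toMultiplicative (LinearEquiv.funUnique (Fin 1) ℤ ℤ).toAddEquiv.symm)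
  have hP : Red.IsTorus (HopfQuot.spec (k := k) (MonoidAlgebra k GmChar.{u})) := HMTor29.MaxTorus.isTorus_spec hε
  have hc : ∀ lam : A →ₐc[k] k[T;T⁻¹], AlgGrpLib.CentralTorus.IsCentralCochar lam := fun lam => by
    refine isCentralCochar_of_points lam fun g s => ?_
    let χ : GmChar.{u} →* k :=
      { toFun := fun n => ((s ^ Multiplicative.toAdd n.down : kˣ) : k)
        map_one' := by simp
        map_mul' := fun a b => by simp [zpow_add] }
    let p : Pt k (MonoidAlgebra k GmChar.{u}) k := toConv (MonoidAlgebra.lift k k GmChar.{u} χ)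
    have hp : valAt lam s = pull (laur.comp lam) p := by
      refine congrArg toConv (AlgHom.ext fun a => ?_)
      show evU s (lam a) = MonoidAlgebra.lift k k GmChar.{u} χ (laurHom (lam a))
      refine DFunLike.congr_fun (?_ : evU s = (MonoidAlgebra.lift k k GmChar.{u} χ).comp laurHom) _
      refine Lext' ?_
      rw [evU_T, AlgHom.comp_apply, laurHom_T, MonoidAlgebra.lift_single, one_smul]
      rfl
    have h' := h _ hP (HopfQuot.specHom (laur.comp lam) ≫ e) (ratPt g ≫ e) (ratPt p)
    rw [← Category.assoc, ratPt_comp, ← MonObj.mul_comp, ← MonObj.mul_comp, cancel_mono, ← ratPt_mul, ← ratPt_mul]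
      at h'
    rw [hp]
    exact CentConn12.ratPt_injective h'
  haveI : Group.IsSolvable (Pt k A k) := AlgGrpLib.CentralTorus.isSolvable_of_central hc
  haveI : Group.IsSolvable (𝟙_ (Over (Spec (CommRingCat.of k))) ⟶ C) :=
    solvable_of_surjective (f := MonoidHom.mk' (fun w : Pt k A k => ratPt w ≫ e) fun v w => by
      rw [ratPt_mul, MonObj.mul_comp]) fun y => by
      obtain ⟨w, hw⟩ := CentConn12.ratPt_surjective (y ≫ CategoryTheory.inv e)
      exact ⟨w, by show ratPt w ≫ e = y; rw [hw, Category.assoc, IsIso.inv_hom_id, Category.comp_id]⟩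
  exact isSolvableGrp_of_points C

variable {G : Over (Spec (CommRingCat.of k))} [GrpObj G] [IsAffine G.left] [Smooth G.hom] [ConnectedSpace G.left]

/-- The centralizer of a maximal torus is solvable. -/
theorem isSolvableGrp_centralizer_maxTorus {T Z : Over (Spec (CommRingCat.of k))} [GrpObj T] [GrpObj Z] {iT : T ⟶ G}
    (hT : AGF.IsMaxTorus iT) {z : Z ⟶ G} (hz : Red.IsCentralizerOf iT z) : Red.IsSolvableGrp Z := by
  haveI := hT.1
  haveI := hT.2.1
  have hTt : Red.IsTorus T := hT.2.2.1
  haveI := hz.1
  haveI := hz.2.1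
  obtain ⟨hsm, hcl⟩ := CentConn12.smooth_closed hTt iT hz
  haveI := hsm; haveI := hcl
  haveI : IsAffine Z.left := isAffine_of_isAffineHom z.left
  haveI : ConnectedSpace Z.left := CentConn12.connected_affine hTt iT hz
  obtain ⟨tC, htC⟩ := (hz.2.2 T iT).2 fun X x y => by
    rw [← MonObj.mul_comp, ← MonObj.mul_comp, SGA3cLib.torus_mul_comm hTt]
  haveI : IsMonHom (tC ≫ z) := by rw [htC]; infer_instance
  haveI := isMonHom_of_comp_mono' tC z
  haveI : Mono tC := by
    haveI : Mono (tC ≫ z) := by rw [htC]; infer_instance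
    exact mono_of_mono tC z
  have hmax : AGF.IsMaxTorus tC := ⟨inferInstance, inferInstance, hTt, fun T' _ j _ _ f hT' hfj => by
    exact hT.2.2.2 T' (j ≫ z) f hT' (by rw [← Category.assoc, hfj, htC])⟩
  have hcent : ∀ (W : Over (Spec (CommRingCat.of k))) (g : W ⟶ Z) (x : W ⟶ T),
      g * (x ≫ tC) = (x ≫ tC) * g := fun W g x => by
    rw [← cancel_mono z, MonObj.mul_comp, MonObj.mul_comp, Category.assoc, htC]
    simpa using (hz.2.2 W (g ≫ z)).1 ⟨g, rfl⟩ W (𝟙 W) x
  refine isSolvableGrp_of_central_tori fun P _ hP f _ g x => ?_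
  obtain ⟨y, p, hp, hf⟩ := HMTor29.MaxTorus.exists_conj_into hmax P hP f
  have e : tC ≫ cj y = tC := by
    rw [comp_cj, _root_.mul_assoc, ← Category.id_comp tC, ← hcent T (cst T y) (𝟙 T), inv_mul_cancel_left]
  rw [hf, e, ← Category.assoc]
  exact hcent _ g (x ≫ p)

/-- The centralizer of a maximal torus lies in every Borel subgroup containing the torus. -/
theorem centralizer_maxTorus_le {T Z B : Over (Spec (CommRingCat.of k))} [GrpObj T] [GrpObj Z] [GrpObj B] {iT : T ⟶ G}
    (hT : AGF.IsMaxTorus iT) {z : Z ⟶ G} (hz : Red.IsCentralizerOf iT z) {iB : B ⟶ G} (hB : Red.IsBorelOver k iB)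
    {t : T ⟶ B} (ht : t ≫ iB = iT) : ∃ f : Z ⟶ B, f ≫ iB = z := by
  haveI := hT.1
  have hTt : Red.IsTorus T := hT.2.2.1
  haveI := hz.1
  haveI := hz.2.1
  obtain ⟨hsm, hcl⟩ := CentConn12.smooth_closed hTt iT hz
  haveI := hsm; haveI := hcl
  haveI : IsAffine Z.left := isAffine_of_isAffineHom z.left
  haveI : ConnectedSpace Z.left := CentConn12.connected_affine hTt iT hz
  haveI : QuasiCompact Z.hom := (quasiCompact_iff_compactSpace Z.hom).2 inferInstance
  haveI : IsClosedImmersion (𝟙 Z : Z ⟶ Z).left := inferInstanceAs (IsClosedImmersion (𝟙 Z.left))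
  obtain ⟨x, h, hh⟩ := exists_conj_into_centralizer_inter hTt hB ht hz (𝟙 Z)
    (isSolvableGrp_centralizer_maxTorus hT hz)
  rw [Category.id_comp] at hh
  refine ⟨cj x⁻¹ ≫ h, ?_⟩
  rw [Category.assoc, hh]
  have e : z ≫ cj (x ≫ z) = cj x ≫ z := by
    rw [comp_cj, cj]
    simp only [cst, MonObj.mul_comp, GrpObj.inv_comp, Category.assoc, Category.id_comp]
  rw [e, ← Category.assoc, cj_comp, inv_mul_cancel, cj_one, Category.id_comp]

end Groth.Agent.AGFQuot23
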