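import Groth.Agent.AGFQuot23.CentBorel
import Groth.Agent.AlgGrpLib.CentreSolvable
import Groth.Agent.AbVarLib.PerfectReduced
import Groth.Agent.AbVarLib.MulIsogeny

/-!
# The centre lies in every Borel subgroup
-/

set_option autoImplicit false
set_option backward.isDefEq.respectTransparency false
set_option linter.style.haveILetI false
set_option maxHeartbeats 800000

universe u

open CategoryTheory CategoryTheory.Limits MonoidalCategory CartesianMonoidalCategory MonObj GrpObj AlgebraicGeometry
open WithConv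

namespace Groth.Agent.AGFQuot23

section AlgClosed

variable {k : Type u} [Field k] [IsAlgClosed k] {G B : Over (Spec (CommRingCat.of k))} [GrpObj G] [GrpObj B]
  [IsAffine G.left] [Smooth G.hom] [ConnectedSpace G.left]

/-- A smooth connected solvable closed subgroup through which all central affine points factor. -/
theorem exists_solvable_centre :
    ∃ (H : Over (Spec (CommRingCat.of k))) (_ : GrpObj H) (j : H ⟶ G), IsMonHom j ∧ IsClosedImmersion j.left ∧
      Smooth H.hom ∧ ConnectedSpace H.left ∧ Red.IsSolvableGrp H ∧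
      ∀ (R : CommAlgCat.{u} k) (g : GrassLib.pt R ⟶ G),
        (∀ (W : Over (Spec (CommRingCat.of k))) (w : W ⟶ GrassLib.pt R) (x : W ⟶ G),
          (w ≫ g) * x = x * (w ≫ g)) → ∃ h : GrassLib.pt R ⟶ H, h ≫ j = g := by
  haveI : QuasiCompact G.hom := (quasiCompact_iff_compactSpace G.hom).2 inferInstance
  haveI : IsReduced G.left := AbSchLib.isReduced_of_smooth G.hom
  haveI : IrreducibleSpace G.left := SGA3cLib.irreducibleSpace_of_connected G
  obtain ⟨A, _, _, e, _, _⟩ := HopfQuot.exists_spec (k := k) G
  haveI : IsIso e.left := inferInstanceAs (IsIso ((Over.forget _).map e))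
  haveI : IsMonHom (CategoryTheory.inv e) := inferInstanceAs (IsMonHom (asIso e).inv)
  haveI : LocallyOfFiniteType (HopfQuot.spec (k := k) A).hom := by rw [← Over.w e]; infer_instance
  haveI : Algebra.FiniteType k A :=
    RingHom.finiteType_algebraMap.1 ((HasRingHomProperty.Spec_iff (P := @LocallyOfFiniteType)
      (φ := CommRingCat.ofHom (algebraMap k A))).1 ‹LocallyOfFiniteType (HopfQuot.spec (k := k) A).hom›)
  haveI : IsReduced (Spec (CommRingCat.of A)) := by
    haveI hoi : IsOpenImmersion e.left := inferInstanceAs (IsOpenImmersion (asIso e.left).hom)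
    exact @isReduced_of_isOpenImmersion _ _ e.left hoi ‹_›
  haveI : _root_.IsReduced A := (affine_isReduced_iff (CommRingCat.of A)).1 inferInstance
  haveI : IsIntegral (Spec (CommRingCat.of A)) := by
    haveI : IrreducibleSpace (Spec (CommRingCat.of A)) :=
      (asIso e.left).inv.homeomorph.surjective.irreducibleSpace (asIso e.left).inv.continuous
    exact isIntegral_of_irreducibleSpace_of_isReduced _
  haveI : IsDomain A := (affine_isIntegral_iff (CommRingCat.of A)).1 inferInstance
  obtain ⟨E, _, _, ρ, hρ, hE, hsol, hcen⟩ :=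
    AlgGrpLib.CentreSolvable.exists_solvable_containing_centre (k := k) (A := A)
  haveI := hE
  let H := HopfQuot.spec (k := k) E
  let j : H ⟶ G := HopfQuot.specHom ρ ≫ e
  haveI hcl : IsClosedImmersion j.left := by
    haveI : IsClosedImmersion (HopfQuot.specHom (k := k) ρ).left := by
      rw [HopfQuot.specHom_left]
      exact IsClosedImmersion.spec_of_surjective _ hρ
    rw [Over.comp_left]
    infer_instance
  haveI : IsAffine H.left := inferInstanceAs (IsAffine (Spec _))
  haveI : IsReduced H.left := inferInstanceAs (IsReduced (Spec (CommRingCat.of E)))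
  haveI : LocallyOfFiniteType H.hom := by rw [← Over.w j]; infer_instance
  haveI : QuasiCompact H.hom := (quasiCompact_iff_compactSpace H.hom).2 inferInstance
  haveI : Smooth H.hom := by
    haveI : GeometricallyReduced H.hom := AbVarLib.geometricallyReduced_of_perfectField H.hom
    exact AbVarLib.smooth_of_geometricallyReduced H
  haveI : ConnectedSpace H.left := inferInstanceAs (ConnectedSpace (PrimeSpectrum E))
  haveI : Group.IsSolvable (𝟙_ (Over (Spec (CommRingCat.of k))) ⟶ H) := by
    let K₀ : CommAlgCat.{u} k := CommAlgCat.of k k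
    haveI : IsIso (toUnit (GrassLib.pt K₀)).left := by
      have h : (toUnit (GrassLib.pt K₀)).left = (GrassLib.pt K₀).hom :=
        (Category.comp_id _).symm.trans (Over.w (toUnit (GrassLib.pt K₀)))
      rw [h]
      show IsIso (Spec.map (CommRingCat.ofHom (algebraMap k k)))
      rw [show CommRingCat.ofHom (algebraMap k k) = 𝟙 (CommRingCat.of k) from rfl, Spec.map_id]
      infer_instance
    haveI : IsIso (toUnit (GrassLib.pt K₀)) := (isIso_iff_of_reflects_iso _ (Over.forget _)).1 ‹_›
    haveI : Group.IsSolvable (HopfQuot.Pt k E K₀) := hsol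
    let f : (𝟙_ (Over (Spec (CommRingCat.of k))) ⟶ H) →* HopfQuot.Pt k E K₀ :=
      MonoidHom.mk' (fun g => GrpQLib.ptOf (toUnit (GrassLib.pt K₀) ≫ g)) fun g h => by
        rw [MonObj.comp_mul, AlgGrpLib.GrassAction.ptOf_mul]
    exact solvable_of_solvable_injective (f := f) fun g h hgh =>
      (cancel_epi (toUnit (GrassLib.pt K₀))).1 ((HopfQuot.ptSpec (k := k) (A := E) (T := K₀)).symm.injective hgh)
  refine ⟨H, inferInstance, j, inferInstance, hcl, inferInstance, inferInstance, isSolvableGrp_of_points H,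
    fun R g hg => ?_⟩
  let w : HopfQuot.Pt k A R := GrpQLib.ptOf (g ≫ CategoryTheory.inv e)
  have hw : HopfQuot.ptSpec (k := k) w = g ≫ CategoryTheory.inv e :=
    (HopfQuot.ptSpec (k := k) (A := A) (T := R)).apply_symm_apply _
  have hk : ∀ a, ρ a = 0 → w.ofConv a = 0 := by
    refine hcen R w fun R' _ _ φ h => ?_
    let T : CommAlgCat.{u} k := CommAlgCat.of k R'
    let v : GrassLib.pt T ⟶ GrassLib.pt R := Over.homMk (Spec.map (CommRingCat.ofHom φ.toRingHom)) (by
      show Spec.map _ ≫ Spec.map _ = Spec.map _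
      rw [← Spec.map_comp]
      congr 1
      ext x
      exact φ.commutes x)
    have hv : HopfQuot.ptSpec (k := k) (HopfQuot.push φ w) = v ≫ g ≫ CategoryTheory.inv e := by
      rw [← hw]
      refine Over.OverMorphism.ext ?_
      show Spec.map _ = Spec.map _ ≫ Spec.map _
      rw [← Spec.map_comp]
      rfl
    refine (HopfQuot.ptSpec (k := k) (A := A) (T := R')).injective ?_
    show HopfQuot.ptSpec (k := k) (HopfQuot.push φ w * h) = HopfQuot.ptSpec (h * HopfQuot.push φ w)
    rw [map_mul, map_mul, hv, ← cancel_mono e, MonObj.mul_comp, MonObj.mul_comp]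
    simp only [Category.assoc, IsIso.inv_hom_id, Category.comp_id]
    exact hg _ v _
  let π : A →ₐ[k] E := (ρ : A →ₐ[k] E)
  let ψ : E →ₐ[k] R :=
    (Ideal.Quotient.liftₐ (RingHom.ker π) w.ofConv hk).comp
      (Ideal.quotientKerAlgEquivOfSurjective (f := π) hρ).symm.toAlgHom
  have hψ : ψ.comp π = w.ofConv := AlgHom.ext fun a => by
    have : (Ideal.quotientKerAlgEquivOfSurjective (f := π) hρ).symm (π a) = Ideal.Quotient.mk _ a :=
      (Ideal.quotientKerAlgEquivOfSurjective (f := π) hρ).symm_apply_eq.2 rfl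
    simp only [ψ, AlgHom.comp_apply, AlgEquiv.coe_toAlgHom, this]
    rfl
  refine ⟨HopfQuot.ptSpec (k := k) (A := E) (toConv ψ), ?_⟩
  show HopfQuot.ptSpec (k := k) (A := E) (toConv ψ) ≫ HopfQuot.specHom ρ ≫ e = g
  rw [← Category.assoc, HopfQuot.ptSpec_comp]
  show HopfQuot.ptSpec (k := k) (A := A) (toConv (ψ.comp π)) ≫ e = g
  rw [hψ, toConv_ofConv, hw, Category.assoc, IsIso.inv_hom_id, Category.comp_id]

/-- Central points lie in every Borel subgroup. -/
theorem exists_factor_of_central {iB : B ⟶ G} (hB : Red.IsBorelOver k iB) {T : Over (Spec (CommRingCat.of k))}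
    (g : T ⟶ G)
    (h : ∀ (W : Over (Spec (CommRingCat.of k))) (w : W ⟶ T) (x : W ⟶ G), (w ≫ g) * x = x * (w ≫ g)) :
    ∃ b : T ⟶ B, b ≫ iB = g := by
  haveI : QuasiCompact G.hom := (quasiCompact_iff_compactSpace G.hom).2 inferInstance
  obtain ⟨hi, hcl, hsm, hconn, -⟩ := id hB
  haveI := hi; haveI := hcl; haveI := hsm; haveI := hconn
  haveI : QuasiCompact B.hom := by rw [← Over.w iB]; infer_instance
  haveI : Mono iB := Over.mono_of_mono_left _
  obtain ⟨H, _, j, hj, hjcl, hjsm, hjconn, hjs, hjc⟩ := exists_solvable_centre (G := G)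
  haveI := hj; haveI := hjcl; haveI := hjsm; haveI := hjconn
  obtain ⟨X, a, o, -, hLX, -, hfl, hs, hpb⟩ := AlgGrpLib.HomogQuotProj.exists_quotient_projMono G B iB
  obtain ⟨t, f, hf⟩ := exists_factor_of_isProper j hjs ⟨hLX, hfl, hs, hpb⟩ (isProper_of_isBorelOver hB ⟨hLX, hfl, hs, hpb⟩)
  have key : ∀ (R : CommAlgCat.{u} k) (p : GrassLib.pt R ⟶ T), ∃ b : GrassLib.pt R ⟶ B, b ≫ iB = p ≫ g := by
    intro R p
    have hp : ∀ (W : Over (Spec (CommRingCat.of k))) (w : W ⟶ GrassLib.pt R) (x : W ⟶ G),
        (w ≫ p ≫ g) * x = x * (w ≫ p ≫ g) := fun W w x => by rw [← Category.assoc]; exact h W (w ≫ p) x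
    obtain ⟨q, hq⟩ := hjc R (p ≫ g) hp
    refine ⟨q ≫ f, ?_⟩
    rw [Category.assoc, hf, reassoc_of% hq, ← Category.assoc, comp_cj, _root_.mul_assoc]
    have := hp _ (𝟙 _) (cst (GrassLib.pt R) t)
    rw [Category.id_comp] at this
    rw [this, inv_mul_cancel_left]
  choose Φ hΦ using key
  obtain ⟨b, hb⟩ := GrassLib.exists_hom (X := T) (Y := B) Φ fun R R' φ p p' hp => by
    rw [← cancel_mono iB.left, Category.assoc, ← Over.comp_left, hΦ, ← Over.comp_left, hΦ, Over.comp_left,
      Over.comp_left, hp, Category.assoc]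
  exact ⟨b, GrassLib.hom_ext_points fun R p => by rw [← Category.assoc, hb, hΦ]⟩

end AlgClosed

section Field

variable {k : Type u} [Field k] {G B : Over (Spec (CommRingCat.of k))} [GrpObj G] [GrpObj B] [IsAffine G.left]
  [Smooth G.hom] [ConnectedSpace G.left]

/-- Central points lie in every Borel subgroup, over any field. -/
theorem exists_factor_of_central' {iB : B ⟶ G} (hB : Red.IsBorel iB) {T : Over (Spec (CommRingCat.of k))}
    (g : T ⟶ G)
    (h : ∀ (W : Over (Spec (CommRingCat.of k))) (w : W ⟶ T) (x : W ⟶ G), (w ≫ g) * x = x * (w ≫ g)) :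
    ∃ b : T ⟶ B, b ≫ iB = g := by
  let s : Spec (CommRingCat.of k) := IsLocalRing.closedPoint k
  haveI : Subsingleton ↥(Spec (CommRingCat.of k)) := inferInstanceAs (Subsingleton (PrimeSpectrum k))
  let q := Red.geomPt s
  haveI : Surjective q := ⟨fun y => ⟨IsLocalRing.closedPoint _, Subsingleton.elim _ _⟩⟩
  let F := Over.pullback q
  haveI : (Over.pullback q).IsRightAdjoint := (Over.mapPullbackAdj q).isRightAdjoint
  haveI : IsAffine (F.obj G).left := inferInstanceAs (IsAffine (pullback G.hom q))
  haveI : Smooth (F.obj G).hom := MorphismProperty.pullback_snd (P := @Smooth) G.hom q inferInstance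
  haveI : ConnectedSpace (F.obj G).left := by
    haveI : GeometricallyConnected G.hom :=
      AbSchLib.geometricallyConnected_of_section G.hom η[G].left (Over.w η[G]) fun y => by
        have hsurj : Function.Surjective (G.hom.fiberι y) := fun a => by
          have ha : a ∈ Set.range (G.hom.fiberι y) := by
            rw [Scheme.Hom.range_fiberι]
            exact Subsingleton.elim (α := PrimeSpectrum k) _ _
          exact ha
        let e := (G.hom.fiberι y).isEmbedding.toHomeomorphOfSurjective hsurj
        exact e.symm.surjective.connectedSpace e.symm.continuous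
    exact inferInstanceAs (ConnectedSpace ↥(pullback G.hom q))
  obtain ⟨b, hb⟩ := exists_factor_of_central (hB.2.2.2 s) (F.map g) fun W w x => by
    obtain ⟨x, rfl⟩ := (SGA3cLib.BCPoints.pt q G W).surjective x
    obtain ⟨v, rfl⟩ := (SGA3cLib.BCPoints.pt q T W).surjective w
    rw [← SGA3cLib.BCPoints.pt_comp, ← SGA3cLib.BCPoints.pt_mul, ← SGA3cLib.BCPoints.pt_mul, h _ v x]
  haveI : IsClosedImmersion iB.left := hB.2.1
  haveI : QuasiCompact (pullback.fst T.hom q) := inferInstance
  haveI : EffectiveEpi (pullback.fst T.hom q) := inferInstance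
  have hb' : b.left ≫ pullback.fst B.hom q ≫ iB.left = pullback.fst T.hom q ≫ g.left := by
    have := congrArg (fun m => m.left ≫ pullback.fst G.hom q) hb
    simp only [q]
    simpa [F, q, Category.assoc] using this
  let d : T.left ⟶ B.left := EffectiveEpi.desc (pullback.fst T.hom q) (b.left ≫ pullback.fst B.hom q)
    fun {W} x y hxy => by
      rw [← cancel_mono iB.left]
      simp only [Category.assoc, hb']
      rw [reassoc_of% hxy]
  have hd : d ≫ iB.left = g.left := by
    rw [← cancel_epi (pullback.fst T.hom q), EffectiveEpi.fac_assoc, Category.assoc, hb']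
  exact ⟨Over.homMk d (by rw [← Over.w iB, ← Category.assoc, hd, Over.w]), Over.OverMorphism.ext hd⟩

end Field

end Groth.Agent.AGFQuot23
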