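import Groth.Agent.AGFQuot23.NeutralSub
import Groth.Agent.HopfOneDim.Comm
import Groth.Agent.HopfQuot.SchemeQuot
import Groth.Agent.DimLib.Maximal

/-!
# Groups with a commutative Borel subgroup, and groups of dimension at most two
-/

set_option autoImplicit false
set_option backward.isDefEq.respectTransparency false
set_option linter.style.haveILetI false

universe u

open CategoryTheory CategoryTheory.Limits MonoidalCategory CartesianMonoidalCategory MonObj GrpObj AlgebraicGeometry
open Groth.Agent.AlgGrpLib (ptOf)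

namespace Groth.Agent.AGFQuot23

variable {k : Type u} [Field k] [IsAlgClosed k]

/-- Morphisms from a reduced scheme to a separated one agreeing on rational points are equal. -/
theorem hom_ext_of_points {X Y : Over (Spec (CommRingCat.of k))} [LocallyOfFiniteType X.hom] [IsReduced X.left]
    [LocallyOfFiniteType Y.hom] [IsSeparated Y.hom] (f g : X ⟶ Y)
    (h : ∀ x : 𝟙_ (Over (Spec (CommRingCat.of k))) ⟶ X, x ≫ f = x ≫ g) : f = g := by
  let Δ : Y ⟶ Y ⊗ Y := lift (𝟙 Y) (𝟙 Y)
  haveI : IsSeparated (fst Y Y).left :=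
    MorphismProperty.pullback_fst (P := @IsSeparated) Y.hom Y.hom inferInstance
  haveI : IsClosedImmersion (Δ.left ≫ (fst Y Y).left) := by
    rw [← Over.comp_left, lift_fst]
    exact inferInstanceAs (IsClosedImmersion (𝟙 Y.left))
  haveI : IsClosedImmersion Δ.left := IsClosedImmersion.of_comp Δ.left (fst Y Y).left
  have hr : Set.range (lift f g).left ⊆ Set.range Δ.left := by
    rintro _ ⟨q, rfl⟩
    refine subset_of_forall_point (Z := X) isClosed_univ.isLocallyClosed
      (Δ.left.isClosedEmbedding.isClosed_range.preimage (lift f g).left.continuous) (fun x _ => ⟨ptOf (x ≫ f), ?_⟩)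
      (Set.mem_univ q)
    show ptOf ((x ≫ f) ≫ Δ) = ptOf (x ≫ lift f g)
    rw [comp_lift, Category.comp_id, comp_lift, h x]
  obtain ⟨l, hl⟩ := RedSepLib.exists_lift_of_range_subset (lift f g).left Δ.left hr
  let l' : X ⟶ Y := Over.homMk l (by rw [← Over.w Δ, ← Category.assoc, hl, Over.w])
  have hl' : l' ≫ Δ = lift f g := Over.OverMorphism.ext hl
  have h1 := congrArg (fun t => t ≫ fst Y Y) hl'
  have h2 := congrArg (fun t => t ≫ snd Y Y) hl'
  simp only [Δ, comp_lift, Category.comp_id, lift_fst, lift_snd] at h1 h2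
  rw [← h1, h2]

variable {G B : Over (Spec (CommRingCat.of k))} [GrpObj G] [GrpObj B] [IsAffine G.left] [Smooth G.hom]
  [ConnectedSpace G.left]

/-- A group with a commutative Borel subgroup is equal to it. -/
theorem isSolvableGrp_of_comm_borel {iB : B ⟶ G} (hB : Red.IsBorelOver k iB)
    (hcomm : ∀ x y : 𝟙_ (Over (Spec (CommRingCat.of k))) ⟶ B, x * y = y * x) : Red.IsSolvableGrp G := by
  haveI : QuasiCompact G.hom := (quasiCompact_iff_compactSpace G.hom).2 inferInstance
  obtain ⟨hi, hcl, hsm, hconn, hsolv, -⟩ := id hB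
  haveI := hi; haveI := hcl; haveI := hsm; haveI := hconn
  haveI : QuasiCompact B.hom := by rw [← Over.w iB]; infer_instance
  haveI : Mono iB := Over.mono_of_mono_left _
  haveI : IsSeparated B.hom := by rw [← Over.w iB]; infer_instance
  haveI : IsReduced G.left := AbSchLib.isReduced_of_smooth G.hom
  haveI : IsReduced B.left := AbSchLib.isReduced_of_smooth B.hom
  obtain ⟨X, a, o, -, hLX, -, hfl, hs, hpb⟩ := AlgGrpLib.HomogQuotProj.exists_quotient_projMono G B iB
  haveI := isProper_of_isBorelOver hB ⟨hLX, hfl, hs, hpb⟩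
  haveI := hfl; haveI := hs
  haveI : IsReduced X.left := AlgSpLib.isReduced_of_flat_surjective (a.orbitMap o).left
  haveI : ConnectedSpace X.left := (a.orbitMap o).left.surjective.connectedSpace (a.orbitMap o).left.continuous
  have hcst : ∀ {Y : Over (Spec (CommRingCat.of k))} [IsAffine Y.left] (f : G ⟶ Y),
      (∀ (W : Over (Spec (CommRingCat.of k))) (g : W ⟶ G) (h : W ⟶ B), (g * (h ≫ iB)) ≫ f = g ≫ f) →
      f = toUnit G ≫ (1 : 𝟙_ (Over (Spec (CommRingCat.of k))) ⟶ G) ≫ f := by
    intro Y _ f hf
    obtain ⟨f', hf'⟩ := (isFppfCov_orbitMap a o hs hfl).exists_desc f fun g g' e => by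
      obtain ⟨t, ht₁, ht₂⟩ := hpb.exists_lift g g' e
      rw [← ht₂, RedQuotLib.act_eq, ht₁, hf]
    conv_lhs => rw [← hf', eq_toUnit_comp_of_isProper f' o, ← Category.assoc, comp_toUnit]
    congr 1
    have e : o = (1 : 𝟙_ (Over (Spec (CommRingCat.of k))) ⟶ G) ≫ a.orbitMap o := by
      rw [one_comp_orbitMap, toUnit_unique (toUnit _) (𝟙 _), Category.id_comp]
    conv_lhs => rw [e]
    rw [Category.assoc, hf']
  have hcentral : ∀ (b g : 𝟙_ (Over (Spec (CommRingCat.of k))) ⟶ _), g * (b ≫ iB) * g⁻¹ = b ≫ iB := by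
    intro b g
    let f : G ⟶ G := 𝟙 G * cst G (b ≫ iB) * (𝟙 G)⁻¹
    have hf := hcst f fun W x h => by
      simp only [f, cst, MonObj.comp_mul, GrpObj.comp_inv, Category.comp_id, ← Category.assoc, comp_toUnit]
      have hc : (h ≫ iB) * ((toUnit W ≫ b) ≫ iB) = ((toUnit W ≫ b) ≫ iB) * (h ≫ iB) := by
        rw [← MonObj.mul_comp, ← MonObj.mul_comp]
        congr 1
        have key : (𝟙 B : B ⟶ B) * (toUnit B ≫ b) = (toUnit B ≫ b) * 𝟙 B := hom_ext_of_points _ _ fun y => by
          simp only [MonObj.comp_mul, Category.comp_id, ← Category.assoc, toUnit_unique (y ≫ toUnit B) (𝟙 _),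
            Category.id_comp]
          exact hcomm y b
        have := congrArg (fun t => h ≫ t) key
        simpa only [MonObj.comp_mul, Category.comp_id, ← Category.assoc, comp_toUnit] using this
      rw [_root_.mul_inv_rev, _root_.mul_assoc x (h ≫ iB), hc]
      group
    have := congrArg (fun t => g ≫ t) hf
    simp only [f, cst, MonObj.comp_mul, GrpObj.comp_inv, MonObj.one_comp, Category.comp_id, ← Category.assoc,
      toUnit_unique (g ≫ toUnit G) (𝟙 _), Category.id_comp, toUnit_unique (toUnit (𝟙_ (Over (Spec (CommRingCat.of k))))) (𝟙 _)] at this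
    simpa [toUnit_unique (1 : 𝟙_ (Over (Spec (CommRingCat.of k))) ⟶ 𝟙_ (Over (Spec (CommRingCat.of k)))) (𝟙 _)] using this
  haveI : LocallyOfFiniteType (G ⊗ B).hom := by
    change LocallyOfFiniteType (Limits.pullback.fst G.hom B.hom ≫ G.hom)
    infer_instance
  haveI : IsReduced (G ⊗ B).left := by
    haveI : Smooth (snd G B).left := MorphismProperty.pullback_snd (P := @Smooth) G.hom B.hom inferInstance
    exact AbSchLib.isReduced_of_smooth (snd G B).left
  have hN : AlgGrp.IsNormalHom iB := by
    intro T g n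
    have key : fst G B * (snd G B ≫ iB) * (fst G B)⁻¹ = snd G B ≫ iB := hom_ext_of_points _ _ fun z => by
      simp only [MonObj.comp_mul, GrpObj.comp_inv, ← Category.assoc]
      exact hcentral _ _
    refine ⟨n, ?_⟩
    have := congrArg (fun t => lift g n ≫ t) key
    simpa only [MonObj.comp_mul, GrpObj.comp_inv, lift_fst, lift_snd_assoc] using this
  obtain ⟨Q, _, q, hq, hQ, -, -, -, hk⟩ := HopfQuot.exists_affine_quotient G B iB hN
  haveI := hq; haveI := hQ
  have hq1 : q = 1 := by
    rw [hcst q fun W g h => by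
      rw [MonObj.mul_comp, Category.assoc h iB q, hk.w, ← Category.assoc, comp_toUnit, ← Hom.one_def, _root_.mul_one],
      MonObj.one_comp, MonObj.comp_one]
  obtain ⟨l, hl, -⟩ := hk.exists_lift (𝟙 G) (toUnit G) (by rw [Category.id_comp, hq1, Hom.one_def])
  haveI : IsSplitEpi iB := IsSplitEpi.mk' ⟨l, hl⟩
  haveI : IsIso iB := isIso_of_mono_of_isSplitEpi iB
  exact isSolvableGrp_of_isIso k G iB hsolv

/-- Groups of dimension at most two are solvable. -/
theorem isSolvableGrp_of_dim_le_two (hdim : topologicalKrullDim G.left ≤ 2) : Red.IsSolvableGrp G := by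
  classical
  obtain ⟨B, _, iB, hB⟩ := exists_isBorelOver k G
  obtain ⟨hi, hcl, hsm, hconn, hsolv, -⟩ := id hB
  haveI := hi; haveI := hcl; haveI := hsm; haveI := hconn
  haveI : IrreducibleSpace G.left := SGA3cLib.irreducibleSpace_of_connected G
  haveI : IsReduced G.left := AbSchLib.isReduced_of_smooth G.hom
  by_cases hsur : Function.Surjective iB.left
  · haveI : Surjective iB.left := ⟨hsur⟩
    haveI : IsIso iB.left := isIso_of_isClosedImmersion_of_surjective _
    haveI : IsIso iB := (isIso_iff_of_reflects_iso iB (Over.forget _)).1 ‹_›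
    exact isSolvableGrp_of_isIso k G iB hsolv
  refine isSolvableGrp_of_comm_borel hB ?_
  haveI : IsAffine B.left := isAffine_of_isAffineHom iB.left
  obtain ⟨A, _, _, e, _, _⟩ := HopfQuot.exists_spec (k := k) B
  haveI : IsIso e.left := inferInstanceAs (IsIso ((Over.forget _).map e))
  haveI : IsMonHom (CategoryTheory.inv e) := inferInstanceAs (IsMonHom (asIso e).inv)
  haveI : LocallyOfFiniteType (HopfQuot.spec (k := k) A).hom := by rw [← Over.w e]; infer_instance
  haveI : Algebra.FiniteType k A :=
    RingHom.finiteType_algebraMap.1 ((HasRingHomProperty.Spec_iff (P := @LocallyOfFiniteType)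
      (φ := CommRingCat.ofHom (algebraMap k A))).1 ‹LocallyOfFiniteType (HopfQuot.spec (k := k) A).hom›)
  haveI : IsReduced (Spec (CommRingCat.of A)) := by
    haveI : IsReduced B.left := AbSchLib.isReduced_of_smooth B.hom
    haveI hoi : IsOpenImmersion e.left := inferInstanceAs (IsOpenImmersion (asIso e.left).hom)
    exact @isReduced_of_isOpenImmersion _ _ e.left hoi ‹_›
  haveI : _root_.IsReduced A := (affine_isReduced_iff (CommRingCat.of A)).1 inferInstance
  haveI : IrreducibleSpace B.left := SGA3cLib.irreducibleSpace_of_connected B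
  haveI : AlgebraicGeometry.IsIntegral (Spec (CommRingCat.of A)) := by
    haveI : IrreducibleSpace (Spec (CommRingCat.of A)) :=
      (asIso e.left).inv.homeomorph.surjective.irreducibleSpace (asIso e.left).inv.continuous
    exact isIntegral_of_irreducibleSpace_of_isReduced _
  haveI : IsDomain A := (affine_isIntegral_iff (CommRingCat.of A)).1 inferInstance
  have h1 : ringKrullDim A ≤ 1 := by
    rw [← PrimeSpectrum.topologicalKrullDim_eq_ringKrullDim]
    show topologicalKrullDim (HopfQuot.spec (k := k) A).left ≤ 1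
    rw [(asIso e.left).hom.homeomorph.isHomeomorph.topologicalKrullDim_eq, DimLib.topologicalKrullDim_eq_iSup B.hom]
    refine iSup_le fun b => ?_
    have hlt : DimLib.ptDim B.hom b < DimLib.ptDim G.hom (genericPoint G.left) := by
      rw [← Over.w iB, DimLib.ptDim_comp_preimmersion G.hom iB.left b]
      refine DimLib.ptDim_lt_of_specializes G.hom (genericPoint_specializes _) fun hg => hsur fun x => ?_
      have : x ∈ closure {iB.left b} := by rw [← hg, (genericPoint_spec G.left).def]; trivial
      exact closure_minimal (t := Set.range iB.left) (Set.singleton_subset_iff.2 ⟨b, rfl⟩) iB.left.isClosedEmbedding.isClosed_range this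
    have h2 : (DimLib.ptDim G.hom (genericPoint G.left) : WithBot ℕ∞) ≤ 2 := by
      refine le_trans ?_ hdim
      rw [DimLib.topologicalKrullDim_eq_iSup G.hom]
      exact le_iSup (fun x => (DimLib.ptDim G.hom x : WithBot ℕ∞)) _
    have h3 : DimLib.ptDim G.hom (genericPoint G.left) ≤ 2 := by exact_mod_cast h2
    exact_mod_cast (show DimLib.ptDim B.hom b ≤ 1 by omega)
  have hpts : ∀ x y : HopfQuot.Pt k A k, x * y = y * x := by
    obtain ⟨d, hd⟩ := DimLib.exists_nat_ringKrullDim (k := k) (A := A)
    have hd1 : d ≤ 1 := by rw [hd] at h1; exact_mod_cast h1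
    intro x y
    interval_cases d
    · haveI : Ring.KrullDimLE 0 A := Ring.krullDimLE_iff.2 (by rw [hd])
      letI : Field A := Ring.KrullDimLE.isField_of_isDomain.toField
      haveI : Module.Finite k A := finite_of_finite_type_of_isJacobsonRing k A
      have hb : Function.Bijective (algebraMap k A) := IsAlgClosed.algebraMap_bijective_of_isIntegral
      refine WithConv.ext (AlgHom.ext fun z => ?_)
      obtain ⟨c, rfl⟩ := hb.2 z
      rw [AlgHom.commutes, AlgHom.commutes]
    · exact mul_inv_eq_iff_eq_mul.1 (HopfOneDim.commute_pts (by simpa using hd) x y)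
  intro x y
  let K₀ : CommAlgCat.{u} k := CommAlgCat.of k k
  haveI : IsIso (toUnit (GrassLib.pt K₀)).left := by
    have h : (toUnit (GrassLib.pt K₀)).left = (GrassLib.pt K₀).hom :=
      (Category.comp_id _).symm.trans (Over.w (toUnit (GrassLib.pt K₀)))
    rw [h]
    show IsIso (Spec.map (CommRingCat.ofHom (algebraMap k k)))
    rw [show CommRingCat.ofHom (algebraMap k k) = 𝟙 (CommRingCat.of k) from rfl, Spec.map_id]
    infer_instance
  haveI : IsIso (toUnit (GrassLib.pt K₀)) := (isIso_iff_of_reflects_iso _ (Over.forget _)).1 ‹_›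
  let f : (𝟙_ (Over (Spec (CommRingCat.of k))) ⟶ B) → HopfQuot.Pt k A K₀ :=
    fun g => GrpQLib.ptOf (toUnit (GrassLib.pt K₀) ≫ g ≫ CategoryTheory.inv e)
  have hf : ∀ g h, f (g * h) = f g * f h := fun g h => by
    simp only [f, MonObj.mul_comp, MonObj.comp_mul, AlgGrpLib.GrassAction.ptOf_mul]
  have hinj : Function.Injective f := fun g h hgh =>
    (cancel_mono (CategoryTheory.inv e)).1 ((cancel_epi (toUnit (GrassLib.pt K₀))).1
      ((HopfQuot.ptSpec (k := k) (A := A) (T := K₀)).symm.injective hgh))
  exact hinj (by rw [hf, hf]; exact hpts _ _)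

end Groth.Agent.AGFQuot23
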