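import Groth.Agent.AlgGrpLib.BorelFixed

/-!
# A flat cover of an orbit, locally of finite type
-/

set_option autoImplicit false
set_option backward.isDefEq.respectTransparency.types false
set_option maxHeartbeats 400000

universe u

open CategoryTheory CategoryTheory.Limits MonoidalCategory CartesianMonoidalCategory MonObj AlgebraicGeometry
open scoped TensorProduct

namespace Groth.Agent.AGFQuot23

open Groth.Agent.AlgGrpLib
open CoactBr Groth.Agent.SGA3cLib HopfLib.SpPoints
open OrbitLC (swapHom)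

variable {k : Type u} [Field k]

/-- A flat surjection onto the reduced orbit. -/
theorem exists_flat_cover_lft [IsAlgClosed k] {G X : Over (Spec (CommRingCat.of k))} [GrpObj G]
    [Smooth G.hom] [QuasiCompact G.hom] [LocallyOfFiniteType X.hom] [IsSeparated X.hom]
    (a : AlgGrp.Action G X) (x : 𝟙_ (Over (Spec (CommRingCat.of k))) ⟶ X)
    {O : Over (Spec (CommRingCat.of k))} (i : O ⟶ X) [IsImmersion i.left] [IsReduced O.left]
    (hO : Set.range i.left.base = Set.range (a.orbitMap x).left.base) :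
    ∃ (W : Over (Spec (CommRingCat.of k))) (m : W ⟶ G) (Ψ : W ⟶ O) (σ : G ⟶ W),
      Flat Ψ.left ∧ Surjective Ψ.left ∧ QuasiCompact Ψ.left ∧ Ψ ≫ i = m ≫ a.orbitMap x ∧ σ ≫ m = 𝟙 G ∧
        LocallyOfFiniteType W.hom := by
  haveI : IsReduced G.left := AbSchLib.isReduced_of_smooth G.hom
  haveI : CompactSpace G.left := QuasiCompact.compactSpace_of_compactSpace G.hom
  haveI : IsLocallyNoetherian G.left := LocallyOfFiniteType.isLocallyNoetherian G.hom
  haveI : IsNoetherian G.left := ⟨⟩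
  obtain ⟨g0', hg0'⟩ := RedSepLib.exists_lift_of_range_subset (a.orbitMap x).left i.left hO.ge
  let g0 : G ⟶ O := Over.homMk g0' (by rw [← Over.w i, ← Category.assoc, hg0', Over.w])
  have hg0 : g0 ≫ i = a.orbitMap x := Over.OverMorphism.ext hg0'
  haveI : Mono i := Over.mono_of_mono_left i
  haveI hOlft : LocallyOfFiniteType O.hom := by rw [← Over.w i]; infer_instance
  haveI : IsLocallyNoetherian O.left := LocallyOfFiniteType.isLocallyNoetherian O.hom
  haveI hg0s : Surjective g0.left := ⟨fun o => by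
    obtain ⟨g, hg⟩ : i.left.base o ∈ Set.range (a.orbitMap x).left.base := hO ▸ ⟨o, rfl⟩
    refine ⟨g, i.left.isEmbedding.injective ?_⟩
    rw [← hg, ← hg0]
    rfl⟩
  haveI : LocallyOfFiniteType (g0.left ≫ O.hom) := by rw [Over.w]; infer_instance
  haveI : LocallyOfFiniteType g0.left := locallyOfFiniteType_of_comp _ O.hom
  haveI : QuasiCompact (g0.left ≫ O.hom) := by rw [Over.w]; infer_instance
  haveI : QuasiCompact g0.left := QuasiCompact.of_comp _ O.hom
  obtain ⟨V, hVd, hVflat, -⟩ := FlatMorGeneric.exists_dense_flat_lfp g0.left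
  let W : Over (Spec (CommRingCat.of k)) := Over.mk ((g0.left ⁻¹ᵁ V).ι ≫ G.hom)
  let jW : W ⟶ G := Over.homMk (g0.left ⁻¹ᵁ V).ι rfl
  haveI : Flat (jW ≫ g0).left := by
    change Flat ((g0.left ⁻¹ᵁ V).ι ≫ g0.left)
    rw [← morphismRestrict_ι]
    infer_instance
  haveI : IsReduced (G ⊗ O).left := by
    haveI : Smooth (snd G O).left :=
      MorphismProperty.pullback_snd (P := @Smooth) G.hom O.hom inferInstance
    exact AbSchLib.isReduced_of_smooth (snd G O).left
  have hact : ∀ p : ↥(G ⊗ O).left, ((G ◁ i) ≫ a.act).left.base p ∈ Set.range i.left.base := by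
    intro p
    rw [hO]
    refine OrbitLC.act_mem_range_orbitMap a x ?_
    rw [← hO]
    change ((G ◁ i) ≫ snd G X).left.base p ∈ _
    rw [whiskerLeft_snd]
    exact ⟨_, rfl⟩
  obtain ⟨act', hact'⟩ := RedSepLib.exists_lift_of_range_subset ((G ◁ i) ≫ a.act).left i.left
    (by rintro _ ⟨p, rfl⟩; exact hact p)
  let b : G ⊗ O ⟶ O := Over.homMk act' (by rw [← Over.w i, ← Category.assoc, hact', Over.w])
  have hb : b ≫ i = (G ◁ i) ≫ a.act := Over.OverMorphism.ext hact'
  let τ : G ⊗ O ⟶ G ⊗ O := lift (fst G O)⁻¹ b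
  have hτi : τ ≫ (G ◁ i) = (G ◁ i) ≫ swapHom a := by
    apply CartesianMonoidalCategory.hom_ext
    · simp only [Category.assoc, whiskerLeft_fst, τ, lift_fst, swapHom, GrpObj.comp_inv]
    · simp only [Category.assoc, whiskerLeft_snd, τ, lift_snd_assoc, hb, OrbitLC.swapHom_snd]
  haveI : Mono (G ◁ i) := ⟨fun u v h => by
    apply CartesianMonoidalCategory.hom_ext
    · simpa using congrArg (fun φ => φ ≫ fst G X) h
    · rw [← cancel_mono i]
      simpa using congrArg (fun φ => φ ≫ snd G X) h⟩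
  have hττ : τ ≫ τ = 𝟙 _ := by
    rw [← cancel_mono (G ◁ i), Category.assoc, hτi, ← Category.assoc, hτi, Category.assoc,
      OrbitLC.swapHom_swapHom, Category.comp_id, Category.id_comp]
  haveI : IsIso τ := ⟨τ, hττ, hττ⟩
  haveI : Flat τ.left := haveI : IsIso τ.left := inferInstanceAs (IsIso ((Over.forget _).map τ)); inferInstance
  let Ψ : G ⊗ W ⟶ O := (G ◁ (jW ≫ g0)) ≫ τ ≫ snd G O
  haveI : Flat (G ◁ (jW ≫ g0)).left := by
    rw [Over.whiskerLeft_left]
    exact MorphismProperty.pullbackMap (P := @Flat) inferInstance inferInstance (by simp) (by simp)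
  haveI : Flat (snd G O).left := MorphismProperty.pullback_snd (P := @Flat) G.hom O.hom inferInstance
  haveI : Flat Ψ.left := by
    simp only [Ψ, Over.comp_left]
    infer_instance
  let m : G ⊗ W ⟶ G := fst G W * (snd G W ≫ jW)
  have hΨ : Ψ ≫ i = m ≫ a.orbitMap x := by
    have e1 : (G ◁ (jW ≫ g0)) ≫ (G ◁ i) = lift (fst G W) (snd G W ≫ jW ≫ a.orbitMap x) := by
      apply CartesianMonoidalCategory.hom_ext
      · simp
      · simp [hg0]
    have e2 : τ ≫ snd G O ≫ i = (G ◁ i) ≫ a.act := by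
      rw [lift_snd_assoc, hb]
    simp only [Ψ, Category.assoc]
    rw [e2, reassoc_of% e1]
    change smulPt a (fst G W) (snd G W ≫ jW ≫ a.orbitMap x) = _
    rw [OrbitLC.orbitMap_eq_smulPt, comp_smulPt, comp_smulPt, comp_smulPt, ← mul_smulPt]
    simp [m]
  haveI : Nonempty G.left := ⟨η[G].left (IsLocalRing.closedPoint k)⟩
  haveI : Nonempty W.left := by
    obtain ⟨v, hv⟩ := hVd.nonempty_iff.2 ⟨g0.left (Classical.arbitrary G.left)⟩
    obtain ⟨g, hg⟩ := g0.left.surjective v
    exact ⟨(⟨g, show g0.left g ∈ V from hg ▸ hv⟩ : ↥(g0.left ⁻¹ᵁ V))⟩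
  haveI : LocallyOfFiniteType W.hom := inferInstanceAs (LocallyOfFiniteType ((g0.left ⁻¹ᵁ V).ι ≫ G.hom))
  obtain ⟨w0, -⟩ := OrbitDim.exists_ratPoint_mem (X := W) (S := Set.univ) isClosed_univ.isLocallyClosed Set.univ_nonempty
  let σ : G ⟶ G ⊗ W := lift ((toUnit G ≫ w0 ≫ jW)⁻¹ |> fun v => 𝟙 G * v) (toUnit G ≫ w0)
  have hσ : σ ≫ m = 𝟙 G := by
    simp only [σ, m, MonObj.comp_mul, lift_fst, lift_snd_assoc, Category.assoc]
    exact inv_mul_cancel_right _ _
  refine ⟨G ⊗ W, m, Ψ, σ, inferInstance, ⟨fun o => ?_⟩, ?_, hΨ, hσ, ?_⟩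
  · obtain ⟨g, rfl⟩ := g0.left.surjective o
    refine ⟨σ.left g, i.left.isEmbedding.injective ?_⟩
    have e : σ ≫ Ψ ≫ i = g0 ≫ i := by rw [hΨ, reassoc_of% hσ, hg0]
    exact congrArg (fun φ => φ.left.base g) e
  · haveI : IsSeparated O.hom := by rw [← Over.w i]; infer_instance
    haveI : CompactSpace W.left := by
      have : TopologicalSpace.NoetherianSpace ↥G.left := inferInstance
      exact isCompact_iff_compactSpace.1 (TopologicalSpace.NoetherianSpace.isCompact _)
    haveI : QuasiCompact W.hom := (quasiCompact_iff_compactSpace W.hom).2 ‹_›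
    haveI : QuasiCompact (G ⊗ W).hom := by
      change QuasiCompact (pullback.fst G.hom W.hom ≫ G.hom)
      infer_instance
    haveI : QuasiCompact (Ψ.left ≫ O.hom) := by rw [Over.w]; infer_instance
    exact QuasiCompact.of_comp _ O.hom
  · change LocallyOfFiniteType (pullback.fst G.hom W.hom ≫ G.hom)
    infer_instance

end Groth.Agent.AGFQuot23
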