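import Groth.Agent.AGFQuot23.FlagPoints
import Groth.Agent.AGFQuot23.Cover
import Groth.Agent.AlgGrpLib.HomogQuotProj
import Groth.Agent.AlgGrpLib.ClosureSubgroup
import Groth.Agent.AlgGrpLib.OrbitDimFormula
import Groth.Agent.RedQuotLib.Basic

/-!
# A solvable subgroup with proper quotient

For every affine smooth connected group over an algebraically closed field there is a smooth connected
solvable subgroup with proper quotient.
-/

set_option autoImplicit false
set_option backward.isDefEq.respectTransparency false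
set_option maxHeartbeats 800000
set_option linter.style.haveILetI false

universe u

open CategoryTheory CategoryTheory.Limits MonoidalCategory CartesianMonoidalCategory MonObj GrpObj AlgebraicGeometry
open Groth.Agent.AlgGrpLib (ptOf)

namespace Groth.Agent.AGFQuot23

variable {k : Type u} [Field k]

section Points

variable {G Z Y : Over (Spec (CommRingCat.of k))} [GrpObj G]

theorem point_comp_orbitMap (a : AlgGrp.Action G Z) (y : 𝟙_ (Over (Spec (CommRingCat.of k))) ⟶ Z)
    (g : 𝟙_ (Over (Spec (CommRingCat.of k))) ⟶ G) : g ≫ a.orbitMap y = lift g y ≫ a.act := by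
  rw [comp_orbitMap, toUnit_unique (toUnit (𝟙_ (Over (Spec (CommRingCat.of k))))) (𝟙 _), Category.id_comp]

theorem one_comp_orbitMap (a : AlgGrp.Action G Z) (y : 𝟙_ (Over (Spec (CommRingCat.of k))) ⟶ Z)
    (W : Over (Spec (CommRingCat.of k))) : (1 : W ⟶ G) ≫ a.orbitMap y = toUnit W ≫ y := by
  rw [comp_orbitMap, act_one]

/-- Translation by a rational point. -/
noncomputable def trans' (a : AlgGrp.Action G Z) (g : 𝟙_ (Over (Spec (CommRingCat.of k))) ⟶ G) : Z ⟶ Z :=
  lift (toUnit Z ≫ g) (𝟙 Z) ≫ a.act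

theorem comp_trans' (a : AlgGrp.Action G Z) (g z : 𝟙_ (Over (Spec (CommRingCat.of k))) ⟶ _) :
    z ≫ trans' a g = lift g z ≫ a.act := by
  rw [trans', comp_lift_assoc, ← Category.assoc, toUnit_unique (z ≫ toUnit Z) (𝟙 _), Category.id_comp,
    Category.comp_id]

theorem isClosed_ptOf [IsAlgClosed k] [LocallyOfFiniteType Z.hom]
    (x : 𝟙_ (Over (Spec (CommRingCat.of k))) ⟶ Z) : IsClosed ({ptOf x} : Set Z.left) :=
  ((pointEquivClosedPoint Z.hom) ⟨x.left, Over.w x⟩).2

theorem exists_point_eq [IsAlgClosed k] [LocallyOfFiniteType Z.hom] {S : Set Z.left} (hS : IsLocallyClosed S)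
    (hne : S.Nonempty) : ∃ x : 𝟙_ (Over (Spec (CommRingCat.of k))) ⟶ Z, ptOf x ∈ S := by
  obtain ⟨x, hx⟩ := AlgGrpLib.OrbitDim.exists_ratPoint_mem (X := Z) hS hne
  exact ⟨x, hx _⟩

theorem exists_point_of_mem [IsAlgClosed k] [LocallyOfFiniteType Y.hom] [LocallyOfFiniteType Z.hom] (f : Y ⟶ Z)
    (z : 𝟙_ (Over (Spec (CommRingCat.of k))) ⟶ Z) (h : ptOf z ∈ Set.range f.left) :
    ∃ y : 𝟙_ (Over (Spec (CommRingCat.of k))) ⟶ Y, y ≫ f = z := by
  obtain ⟨w, hw⟩ := h
  obtain ⟨y, hy⟩ := exists_point_eq (Z := Y) (S := f.left ⁻¹' {ptOf z})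
    ((isClosed_ptOf z).preimage f.left.continuous).isLocallyClosed ⟨w, hw⟩
  exact ⟨y, ratPoint_ext _ _ hy⟩

theorem closedPoint_eq_ptOf [IsAlgClosed k] [LocallyOfFiniteType Z.hom] {x : Z.left} (hx : IsClosed ({x} : Set Z.left)) :
    ∃ z : 𝟙_ (Over (Spec (CommRingCat.of k))) ⟶ Z, ptOf z = x := by
  obtain ⟨z, hz⟩ := exists_point_eq (Z := Z) hx.isLocallyClosed ⟨x, rfl⟩
  exact ⟨z, hz⟩

/-- Closed sets with the same rational points are equal. -/
theorem subset_of_forall_point [IsAlgClosed k] [LocallyOfFiniteType Z.hom] {S T : Set Z.left}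
    (hS : IsLocallyClosed S) (hT : IsClosed T)
    (h : ∀ z : 𝟙_ (Over (Spec (CommRingCat.of k))) ⟶ Z, ptOf z ∈ S → ptOf z ∈ T) : S ⊆ T := by
  intro x hx
  by_contra hxT
  obtain ⟨z, hz⟩ := exists_point_eq (Z := Z) (hS.inter hT.isOpen_compl.isLocallyClosed) ⟨x, hx, hxT⟩
  exact hz.2 (h z hz.1)

end Points

/-- A morphism with the same kernel pair as a flat surjection is a monomorphism. -/
theorem mono_of_kernelPair {G X Z : Over (Spec (CommRingCat.of k))} (p : G ⟶ X) [Flat p.left] [Surjective p.left]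
    (f : X ⟶ Z)
    (h : ∀ (W : Over (Spec (CommRingCat.of k))) (g g' : W ⟶ G), g ≫ p ≫ f = g' ≫ p ≫ f → g ≫ p = g' ≫ p) :
    Mono f.left := by
  refine ⟨fun {T} u v huv => ?_⟩
  let T₁ := pullback u p.left
  let q₁ : T₁ ⟶ T := pullback.fst u p.left
  let T₂ := pullback (q₁ ≫ v) p.left
  let q₂ : T₂ ⟶ T₁ := pullback.fst (q₁ ≫ v) p.left
  haveI : Flat q₁ := MorphismProperty.pullback_fst (P := @Flat) _ _ inferInstance
  haveI : Surjective q₁ := MorphismProperty.pullback_fst (P := @Surjective) _ _ inferInstance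
  haveI : Flat q₂ := MorphismProperty.pullback_fst (P := @Flat) _ _ inferInstance
  haveI : Surjective q₂ := MorphismProperty.pullback_fst (P := @Surjective) _ _ inferInstance
  haveI : Epi (q₂ ≫ q₁) := Flat.epi_of_flat_of_surjective _
  rw [← cancel_epi (q₂ ≫ q₁)]
  let g₀ : T₂ ⟶ G.left := q₂ ≫ pullback.snd u p.left
  let g₀' : T₂ ⟶ G.left := pullback.snd (q₁ ≫ v) p.left
  have e1 : g₀ ≫ p.left = (q₂ ≫ q₁) ≫ u := by
    simp only [g₀, Category.assoc, q₁, pullback.condition]
  have e2 : g₀' ≫ p.left = (q₂ ≫ q₁) ≫ v := by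
    simp only [g₀', Category.assoc, ← pullback.condition, q₂]
  have e3 : g₀' ≫ G.hom = g₀ ≫ G.hom := by
    rw [← Over.w p, ← Over.w f, reassoc_of% e1, reassoc_of% e2, reassoc_of% huv]
  let W : Over (Spec (CommRingCat.of k)) := Over.mk (g₀ ≫ G.hom)
  let g : W ⟶ G := Over.homMk g₀
  let g' : W ⟶ G := Over.homMk g₀' e3
  have := congrArg CommaMorphism.left (h W g g' (Over.OverMorphism.ext (by
    show g₀ ≫ p.left ≫ f.left = g₀' ≫ p.left ≫ f.left
    rw [reassoc_of% e1, reassoc_of% e2, huv])))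
  change g₀ ≫ p.left = g₀' ≫ p.left at this
  rwa [e1, e2] at this

/-- A monomorphism through which a flat quasi-compact surjection factors is an isomorphism. -/
theorem isIso_of_mono_of_factor {W X O : Scheme.{u}} (f : X ⟶ O) [Mono f] (Ψ : W ⟶ O) [Flat Ψ] [Surjective Ψ]
    [QuasiCompact Ψ] (l : W ⟶ X) (h : l ≫ f = Ψ) : IsIso f := by
  let s : W ⟶ pullback Ψ f := pullback.lift (𝟙 W) l (by rw [Category.id_comp, h])
  haveI : IsSplitEpi (pullback.fst Ψ f) := IsSplitEpi.mk' ⟨s, pullback.lift_fst _ _ _⟩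
  have hi : IsIso (pullback.fst Ψ f) := isIso_of_mono_of_isSplitEpi _
  exact MorphismProperty.of_pullback_fst_of_descendsAlong (P := MorphismProperty.isomorphisms Scheme.{u})
    (Q := @Surjective ⊓ @Flat ⊓ @QuasiCompact) ⟨⟨inferInstance, inferInstance⟩, inferInstance⟩ hi

variable [IsAlgClosed k]

/-- An orbit over a closed orbit in a proper scheme is closed when the translates by the stabiliser form a
closed set. -/
theorem isClosed_orbit_of_stabilizer {G Z Z₂ : Over (Spec (CommRingCat.of k))} [GrpObj G] [Smooth G.hom]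
    [QuasiCompact G.hom] [IsProper Z.hom] [IsProper Z₂.hom] (a : AlgGrp.Action G Z)
    (y : 𝟙_ (Over (Spec (CommRingCat.of k))) ⟶ Z) (hy : IsClosed (Set.range (a.orbitMap y).left))
    (a₂ : AlgGrp.Action G Z₂) (y₂ : 𝟙_ (Over (Spec (CommRingCat.of k))) ⟶ Z₂)
    (C : Set Z₂.left) (hC : IsClosed C)
    (hCmem : ∀ z : 𝟙_ (Over (Spec (CommRingCat.of k))) ⟶ Z₂,
      ptOf z ∈ C ↔ ∃ g : 𝟙_ (Over (Spec (CommRingCat.of k))) ⟶ G, g ≫ a.orbitMap y = y ∧ z = g ≫ a₂.orbitMap y₂) :
    IsClosed (Set.range (a₂.orbitMap y₂).left) := by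
  obtain ⟨O, i, hi, hred, hrange⟩ :=
    AlgGrpLib.OrbitDimFormula.exists_reduced_immersion (X := Z) (C := Set.range (a.orbitMap y).left.base)
      hy.isLocallyClosed
  haveI := hi
  haveI := hred
  haveI : IsClosedImmersion i.left := IsClosedImmersion.of_isPreimmersion i.left (hrange ▸ hy)
  haveI : IsProper O.hom := by rw [← Over.w i]; infer_instance
  haveI : Mono i := Over.mono_of_mono_left i
  obtain ⟨W, m, Ψ, σ, hflat, hsurj, hqc, hΨ, hσ, hWlft⟩ := exists_flat_cover_lft a y i hrange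
  haveI := hWlft
  haveI := hflat
  haveI := hsurj
  haveI := hqc
  let θ : W ⊗ Z₂ ⟶ Z₂ := lift (fst W Z₂ ≫ m)⁻¹ (snd W Z₂) ≫ a₂.act
  let K : Set (W ⊗ Z₂).left := θ.left ⁻¹' C
  let π : W ⊗ Z₂ ⟶ O ⊗ Z₂ := Ψ ▷ Z₂
  have hπsq : IsPullback π.left (fst W Z₂).left (fst O Z₂).left Ψ.left := by
    refine (IsPullback.of_right ?_ (congrArg CommaMorphism.left (whiskerRight_fst Ψ Z₂))
      (IsPullback.of_hasPullback O.hom Z₂.hom).flip).flip.flip
    have h1 : π.left ≫ (snd O Z₂).left = (snd W Z₂).left := congrArg CommaMorphism.left (whiskerRight_snd Ψ Z₂)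
    show IsPullback (π.left ≫ (snd O Z₂).left) (fst W Z₂).left Z₂.hom (Ψ.left ≫ O.hom)
    rw [h1, Over.w Ψ]
    exact (IsPullback.of_hasPullback W.hom Z₂.hom).flip
  haveI : Flat π.left := MorphismProperty.of_isPullback (P := @Flat) hπsq.flip inferInstance
  haveI : Surjective π.left := MorphismProperty.of_isPullback (P := @Surjective) hπsq.flip inferInstance
  haveI : QuasiCompact π.left := MorphismProperty.of_isPullback (P := @QuasiCompact) hπsq.flip inferInstance
  haveI : QuasiCompact W.hom := by rw [← Over.w Ψ]; infer_instance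
  -- translates by the stabiliser preserve `C`
  have hinv : ∀ (g z : 𝟙_ (Over (Spec (CommRingCat.of k))) ⟶ _), g ≫ a.orbitMap y = y → ptOf z ∈ C →
      ptOf (lift g z ≫ a₂.act) ∈ C := by
    intro g z hg hz
    obtain ⟨p, hp, rfl⟩ := (hCmem z).1 hz
    refine (hCmem _).2 ⟨g * p, ?_, (mul_comp_orbitMap a₂ y₂ g p).symm⟩
    rw [mul_comp_orbitMap, hp, ← point_comp_orbitMap, hg]
  have hKπ : π.left ⁻¹' (π.left '' K) = K := by
    refine Set.Subset.antisymm ?_ (Set.subset_preimage_image _ _)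
    let R : Over (Spec (CommRingCat.of k)) := Over.mk (pullback.fst π.left π.left ≫ (W ⊗ Z₂).hom)
    let p : R ⟶ W ⊗ Z₂ := Over.homMk (pullback.fst π.left π.left)
    let q : R ⟶ W ⊗ Z₂ := Over.homMk (pullback.snd π.left π.left) (by
      show pullback.snd π.left π.left ≫ (W ⊗ Z₂).hom = pullback.fst π.left π.left ≫ (W ⊗ Z₂).hom
      rw [← Over.w π, pullback.condition_assoc])
    have hpq : p ≫ π = q ≫ π := Over.OverMorphism.ext pullback.condition
    haveI : LocallyOfFiniteType (W ⊗ Z₂).hom := by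
      change LocallyOfFiniteType (pullback.fst W.hom Z₂.hom ≫ W.hom)
      infer_instance
    haveI : LocallyOfFiniteType π.left := by
      haveI : LocallyOfFiniteType (π.left ≫ (O ⊗ Z₂).hom) := by rw [Over.w]; infer_instance
      exact locallyOfFiniteType_of_comp _ (O ⊗ Z₂).hom
    haveI : LocallyOfFiniteType R.hom := by
      change LocallyOfFiniteType (pullback.fst π.left π.left ≫ (W ⊗ Z₂).hom)
      infer_instance
    have key : p.left ⁻¹' K ⊆ q.left ⁻¹' K := by
      refine subset_of_forall_point (hC.preimage (p ≫ θ).left.continuous).isLocallyClosed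
        (hC.preimage (q ≫ θ).left.continuous) fun r hr => ?_
      change ptOf (r ≫ p ≫ θ) ∈ C at hr
      change ptOf (r ≫ q ≫ θ) ∈ C
      have hsnd : r ≫ q ≫ snd W Z₂ = r ≫ p ≫ snd W Z₂ := by
        rw [← whiskerRight_snd Ψ Z₂]
        simp only [π] at hpq
        rw [reassoc_of% hpq]
      have hfst : r ≫ q ≫ fst W Z₂ ≫ Ψ = r ≫ p ≫ fst W Z₂ ≫ Ψ := by
        rw [← whiskerRight_fst Ψ Z₂]
        simp only [π] at hpq
        rw [reassoc_of% hpq]
      let g := r ≫ p ≫ fst W Z₂ ≫ m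
      let g' := r ≫ q ≫ fst W Z₂ ≫ m
      have hgy : g' ≫ a.orbitMap y = g ≫ a.orbitMap y := by
        simp only [g, g', Category.assoc, ← hΨ]
        rw [reassoc_of% hfst]
      have hfix : (g'⁻¹ * g) ≫ a.orbitMap y = y := by
        rw [mul_comp_orbitMap, ← hgy, ← mul_comp_orbitMap, inv_mul_cancel, one_comp_orbitMap,
          toUnit_unique (toUnit (𝟙_ (Over (Spec (CommRingCat.of k))))) (𝟙 _), Category.id_comp]
      have e : ∀ t : R ⟶ W ⊗ Z₂, r ≫ t ≫ θ =
          lift (r ≫ t ≫ fst W Z₂ ≫ m)⁻¹ (r ≫ t ≫ snd W Z₂) ≫ a₂.act := fun t => by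
        simp only [θ, comp_lift_assoc, GrpObj.comp_inv, Category.assoc]
      rw [e] at hr ⊢
      rw [hsnd]
      have := hinv _ _ hfix hr
      rwa [← act_mul, _root_.mul_assoc, mul_inv_cancel, _root_.mul_one] at this
    rintro x ⟨x', hx', hxx⟩
    obtain ⟨r, hr1, hr2⟩ := Scheme.Pullback.exists_preimage_pullback x' x hxx
    have : r ∈ q.left ⁻¹' K := key (show p.left r ∈ K by rw [show p.left r = x' from hr1]; exact hx')
    rwa [Set.mem_preimage, show q.left r = x from hr2] at this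
  have hSc : IsClosed (π.left '' K) := by
    rw [← (Flat.isQuotientMap_of_surjective π.left).isClosed_preimage, hKπ]
    exact hC.preimage θ.left.continuous
  let D : Set Z₂.left := (snd W Z₂).left '' K
  have hD : IsClosed D := by
    have hcomp : (snd O Z₂).left '' (π.left '' K) = D := by
      rw [← Set.image_comp]
      exact congrArg (fun f : W ⊗ Z₂ ⟶ Z₂ => f.left '' K) (whiskerRight_snd Ψ Z₂)
    rw [← hcomp]
    haveI : UniversallyClosed (snd O Z₂).left :=
      MorphismProperty.pullback_snd (P := @UniversallyClosed) O.hom Z₂.hom inferInstance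
    exact (snd O Z₂).left.isClosedMap _ hSc
  haveI : LocallyOfFiniteType (W ⊗ Z₂).hom := by
    change LocallyOfFiniteType (pullback.fst W.hom Z₂.hom ≫ W.hom)
    infer_instance
  have h1 : Set.range (a₂.orbitMap y₂).left ⊆ D := by
    rintro _ ⟨x, rfl⟩
    refine subset_of_forall_point (Z := G) isClosed_univ.isLocallyClosed
      (hD.preimage (a₂.orbitMap y₂).left.continuous) (fun g _ => ?_) (Set.mem_univ x)
    let z := g ≫ a₂.orbitMap y₂
    refine ⟨(lift (g ≫ σ) z).left (IsLocalRing.closedPoint k), ?_, ?_⟩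
    · show ptOf (lift (g ≫ σ) z ≫ θ) ∈ C
      simp only [θ, comp_lift_assoc, GrpObj.comp_inv, lift_fst_assoc, lift_snd, Category.assoc, hσ, Category.comp_id]
      rw [← mul_comp_orbitMap, inv_mul_cancel]
      refine (hCmem _).2 ⟨1, ?_, rfl⟩
      rw [one_comp_orbitMap, toUnit_unique (toUnit (𝟙_ (Over (Spec (CommRingCat.of k))))) (𝟙 _), Category.id_comp]
    · exact congrArg (fun f : 𝟙_ _ ⟶ Z₂ => ptOf f) (lift_snd (g ≫ σ) z)
  have h2 : ∀ z : 𝟙_ (Over (Spec (CommRingCat.of k))) ⟶ Z₂, ptOf z ∈ D →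
      ptOf z ∈ Set.range (a₂.orbitMap y₂).left := by
    rintro z ⟨x, hx, hxz⟩
    obtain ⟨wz, hwz⟩ := exists_point_eq (Z := W ⊗ Z₂)
      (S := K ∩ (snd W Z₂).left ⁻¹' {ptOf z})
      ((hC.preimage θ.left.continuous).inter ((isClosed_ptOf z).preimage (snd W Z₂).left.continuous)).isLocallyClosed
      ⟨x, hx, hxz⟩
    have hz : wz ≫ snd W Z₂ = z := ratPoint_ext _ _ hwz.2
    obtain ⟨p, -, hp⟩ := (hCmem (wz ≫ θ)).1 hwz.1
    simp only [θ, comp_lift_assoc, GrpObj.comp_inv, hz] at hp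
    refine ⟨ptOf ((wz ≫ fst W Z₂ ≫ m) * p), ?_⟩
    show ptOf (((wz ≫ fst W Z₂ ≫ m) * p) ≫ a₂.orbitMap y₂) = _
    rw [mul_comp_orbitMap, ← hp, ← act_mul, mul_inv_cancel, act_one]
  obtain ⟨U, T, hU, hT, hUT⟩ := AlgGrpLib.OrbitDim.isLocallyClosed_orbit a₂ y₂
  have h3 : D ⊆ Set.range (a₂.orbitMap y₂).left := by
    have hDT : D ⊆ T := subset_of_forall_point hD.isLocallyClosed hT fun z hz => by
      have := h2 z hz
      rw [hUT] at this
      exact this.2
    have hDU : D ⊆ U := by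
      intro x hx
      by_contra hxU
      obtain ⟨z, hz⟩ := exists_point_eq (Z := Z₂) (hD.inter hU.isClosed_compl).isLocallyClosed ⟨x, hx, hxU⟩
      have := h2 z hz.1
      rw [hUT] at this
      exact hz.2 this.1
    rw [show Set.range (a₂.orbitMap y₂).left = U ∩ T from hUT]
    exact fun x hx => ⟨hDU hx, hDT hx⟩
  rw [Set.Subset.antisymm h1 h3]
  exact hD

/-- There is a solvable smooth connected subgroup with proper quotient. -/
def HasProperQuot (G : Over (Spec (CommRingCat.of k))) [GrpObj G] : Prop :=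
  ∃ (B : Over (Spec (CommRingCat.of k))) (_ : GrpObj B) (i : B ⟶ G), IsMonHom i ∧ IsClosedImmersion i.left ∧
    Smooth B.hom ∧ ConnectedSpace B.left ∧ Red.IsSolvableGrp B ∧
    ∃ (X : Over (Spec (CommRingCat.of k))) (a : AlgGrp.Action G X) (o : 𝟙_ (Over (Spec (CommRingCat.of k))) ⟶ X),
      AGF.IsQuotient i X a o ∧ IsProper X.hom

omit [IsAlgClosed k] in
theorem hasProperQuot_of_isSolvableGrp (G : Over (Spec (CommRingCat.of k))) [GrpObj G] [Smooth G.hom]
    [ConnectedSpace G.left] (h : Red.IsSolvableGrp G) : HasProperQuot G := by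
  haveI : IsMonHom (𝟙 G) := inferInstance
  let a : AlgGrp.Action G (𝟙_ (Over (Spec (CommRingCat.of k)))) :=
    { act := toUnit _
      one_act := toUnit_unique _ _
      mul_act := toUnit_unique _ _ }
  have horb : a.orbitMap (𝟙 _) = toUnit G := toUnit_unique _ _
  refine ⟨G, inferInstance, 𝟙 G, inferInstance, inferInstanceAs (IsClosedImmersion (𝟙 G.left)), inferInstance,
    inferInstance, h, 𝟙_ _, a, 𝟙 _, ⟨?_, ?_, ?_, ?_⟩, ?_⟩
  · exact inferInstanceAs (LocallyOfFiniteType (𝟙 _))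
  · rw [horb, Over.toUnit_left]
    exact inferInstanceAs (Flat G.hom)
  · rw [horb, Over.toUnit_left]
    haveI : Nonempty G.left := inferInstance
    exact ⟨fun x => ⟨Classical.arbitrary _, Subsingleton.elim (α := PrimeSpectrum k) _ _⟩⟩
  · rw [horb]
    refine IsPullback.of_isLimit' ⟨toUnit_unique _ _⟩ (PullbackCone.IsLimit.mk _
      (fun s => lift s.fst (s.fst⁻¹ * s.snd)) (fun s => lift_fst _ _) (fun s => ?_) (fun s t h1 h2 => ?_))
    · rw [RedQuotLib.act_eq, Category.comp_id, lift_fst, lift_snd, mul_inv_cancel_left]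
    · refine CartesianMonoidalCategory.hom_ext _ _ (h1.trans (lift_fst _ _).symm) ?_
      rw [RedQuotLib.act_eq, h1, Category.comp_id] at h2
      rw [lift_snd, ← h2, inv_mul_cancel_left]
  · exact inferInstanceAs (IsProper (𝟙 _))

theorem hasProperQuot_aux (G₀ : Over (Spec (CommRingCat.of k))) [IsAffine G₀.left] [LocallyOfFiniteType G₀.hom]
    (C : TopologicalSpace.Closeds G₀.left) :
    ∀ (G : Over (Spec (CommRingCat.of k))) [GrpObj G] (j : G ⟶ G₀), IsClosedImmersion j.left → Smooth G.hom →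
      ConnectedSpace G.left → Set.range j.left = (C : Set G₀.left) → HasProperQuot G := by
  classical
  haveI := AlgGrpLib.OrbitDim.isNoetherian_of_lft G₀.hom
  induction C using WellFoundedLT.induction with
  | ind C ih =>
  intro G _ j hι hsm hconn hrange
  haveI := hι
  haveI := hsm
  haveI := hconn
  haveI : IsAffine G.left := isAffine_of_isAffineHom j.left
  haveI : QuasiCompact G.hom := (quasiCompact_iff_compactSpace G.hom).2 inferInstance
  by_cases hsolv : Red.IsSolvableGrp G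
  · exact hasProperQuot_of_isSolvableGrp G hsolv
  obtain ⟨Z, hZ, a, y, hy, g₀, hg₀⟩ := exists_moving_point G hsolv
  haveI := hZ
  -- the stabiliser
  let S : Subgroup (𝟙_ (Over (Spec (CommRingCat.of k))) ⟶ G) :=
    { carrier := {g | g ≫ a.orbitMap y = y}
      one_mem' := by
        show (1 : _ ⟶ G) ≫ a.orbitMap y = y
        rw [one_comp_orbitMap, toUnit_unique (toUnit (𝟙_ (Over (Spec (CommRingCat.of k))))) (𝟙 _), Category.id_comp]
      mul_mem' := fun {g g'} hg hg' => by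
        show _ ≫ a.orbitMap y = y
        rw [mul_comp_orbitMap, hg', ← point_comp_orbitMap, hg]
      inv_mem' := fun {g} hg => by
        show g⁻¹ ≫ a.orbitMap y = y
        rw [point_comp_orbitMap]
        conv_lhs => rw [← (hg : g ≫ a.orbitMap y = y)]
        rw [← mul_comp_orbitMap, inv_mul_cancel, one_comp_orbitMap,
          toUnit_unique (toUnit (𝟙_ (Over (Spec (CommRingCat.of k))))) (𝟙 _), Category.id_comp] }
  obtain ⟨P, _, iP, hiP, hclP, hredP, hrP, hliftP⟩ := AlgGrpLib.exists_closure_subgroup G S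
  haveI := hiP
  haveI := hclP
  haveI := hredP
  haveI : LocallyOfFiniteType P.hom := by rw [← Over.w iP]; infer_instance
  have hPS : ∀ p : 𝟙_ (Over (Spec (CommRingCat.of k))) ⟶ P, p ≫ iP ∈ S := by
    intro p
    have hF : IsClosed ((a.orbitMap y).left ⁻¹' {ptOf y}) := (isClosed_ptOf y).preimage (a.orbitMap y).left.continuous
    have : closure (ptOf '' (S : Set _)) ⊆ (a.orbitMap y).left ⁻¹' {ptOf y} := by
      refine closure_minimal ?_ hF
      rintro _ ⟨g, hg, rfl⟩
      exact congrArg ptOf (hg : g ≫ a.orbitMap y = y)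
    refine ratPoint_ext ((p ≫ iP) ≫ a.orbitMap y) y (this ?_)
    rw [← hrP]
    exact ⟨ptOf p, rfl⟩
  -- its neutral component
  let T : Subgroup (𝟙_ (Over (Spec (CommRingCat.of k))) ⟶ P) :=
    { carrier := {p | ptOf p ∈ connectedComponent (ptOf (1 : 𝟙_ _ ⟶ P))}
      one_mem' := mem_connectedComponent
      mul_mem' := fun {g h} hg hh => by
        let τ : P ⟶ P := (toUnit P ≫ g) * 𝟙 P
        have hτ : ∀ t : 𝟙_ (Over (Spec (CommRingCat.of k))) ⟶ P, t ≫ τ = g * t := fun t => by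
          simp only [τ, MonObj.comp_mul, Category.comp_id, ← Category.assoc,
            toUnit_unique (t ≫ toUnit P) (𝟙 _), Category.id_comp]
        have h1 := τ.left.continuous.image_connectedComponent_subset (ptOf (1 : 𝟙_ _ ⟶ P)) ⟨ptOf h, hh, rfl⟩
        change ptOf (h ≫ τ) ∈ connectedComponent (ptOf ((1 : 𝟙_ _ ⟶ P) ≫ τ)) at h1
        rw [hτ, hτ, _root_.mul_one, ← connectedComponent_eq hg] at h1
        exact h1
      inv_mem' := fun {g} hg => by
        let τ : P ⟶ P := (toUnit P ≫ g⁻¹) * 𝟙 P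
        have hτ : ∀ t : 𝟙_ (Over (Spec (CommRingCat.of k))) ⟶ P, t ≫ τ = g⁻¹ * t := fun t => by
          simp only [τ, MonObj.comp_mul, Category.comp_id, ← Category.assoc,
            toUnit_unique (t ≫ toUnit P) (𝟙 _), Category.id_comp]
        have h1 := τ.left.continuous.image_connectedComponent_subset (ptOf g)
          ⟨ptOf (1 : 𝟙_ _ ⟶ P), by rw [← connectedComponent_eq hg]; exact mem_connectedComponent, rfl⟩
        change ptOf ((1 : 𝟙_ _ ⟶ P) ≫ τ) ∈ connectedComponent (ptOf (g ≫ τ)) at h1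
        rwa [hτ, hτ, _root_.mul_one, inv_mul_cancel] at h1 }
  let φ : (𝟙_ (Over (Spec (CommRingCat.of k))) ⟶ P) →* (𝟙_ (Over (Spec (CommRingCat.of k))) ⟶ G) :=
    MonoidHom.mk' (fun p => p ≫ iP) fun p q => MonObj.mul_comp p q iP
  let S₀ := T.map φ
  obtain ⟨P₀, _, i₀, hi₀, hcl₀, hred₀, hr₀, hlift₀⟩ := AlgGrpLib.exists_closure_subgroup G S₀
  haveI := hi₀
  haveI := hcl₀
  haveI := hred₀
  haveI : LocallyOfFiniteType P₀.hom := by rw [← Over.w i₀]; infer_instance
  haveI : Smooth P₀.hom := AbVarLib.smooth_of_geometricallyReduced P₀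
  have hcomp : closure (ptOf '' (S₀ : Set _)) = iP.left '' connectedComponent (ptOf (1 : 𝟙_ _ ⟶ P)) := by
    haveI : JacobsonSpace P.left := LocallyOfFiniteType.jacobsonSpace P.hom
    have hcc : IsClosed (connectedComponent (ptOf (1 : 𝟙_ _ ⟶ P))) := isClosed_connectedComponent
    conv_rhs => rw [← closure_inter_closedPoints hcc]
    rw [← iP.left.isClosedEmbedding.closure_image_eq]
    congr 1
    ext x
    constructor
    · rintro ⟨_, ⟨p, hp, rfl⟩, rfl⟩
      exact ⟨ptOf p, ⟨hp, isClosed_ptOf p⟩, rfl⟩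
    · rintro ⟨x, ⟨hx, hxc⟩, rfl⟩
      obtain ⟨p, rfl⟩ := closedPoint_eq_ptOf (Z := P) hxc
      exact ⟨φ p, ⟨p, hx, rfl⟩, rfl⟩
  haveI : ConnectedSpace P₀.left := by
    have h : _root_.IsConnected (Set.range i₀.left) := by
      rw [hr₀, hcomp]
      exact isConnected_connectedComponent.image _ iP.left.continuous.continuousOn
    rw [connectedSpace_iff_univ]
    refine ⟨?_, i₀.left.isEmbedding.isInducing.isPreconnected_image.1 (by rw [Set.image_univ]; exact h.2)⟩
    obtain ⟨_, ⟨x, -⟩⟩ := h.1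
    exact ⟨x, trivial⟩
  have hne : Set.range i₀.left ≠ Set.univ := fun h => hg₀ (by
    obtain ⟨p, hp⟩ := exists_point_of_mem iP g₀ (by
      have : ptOf g₀ ∈ iP.left '' connectedComponent (ptOf (1 : 𝟙_ _ ⟶ P)) := by
        rw [← hcomp, ← hr₀, h]; trivial
      obtain ⟨x, -, hx⟩ := this
      exact ⟨x, hx⟩)
    exact hp ▸ hPS p)
  -- the subgroup with proper quotient in the neutral component
  haveI : IsClosedImmersion (i₀ ≫ j).left := by rw [Over.comp_left]; infer_instance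
  let C₀ : TopologicalSpace.Closeds G₀.left :=
    ⟨Set.range (i₀ ≫ j).left, (i₀ ≫ j).left.isClosedEmbedding.isClosed_range⟩
  have hC₀ : C₀ < C := by
    refine lt_of_le_of_ne (fun x hx => ?_) fun he => hne ?_
    · obtain ⟨z, rfl⟩ := hx
      show (i₀ ≫ j).left z ∈ (C : Set G₀.left)
      rw [← hrange]
      exact ⟨i₀.left z, rfl⟩
    · refine Set.eq_univ_of_forall fun x => ?_
      obtain ⟨z, hz⟩ : j.left x ∈ (C₀ : Set G₀.left) := by rw [he, ← hrange]; exact ⟨x, rfl⟩
      exact ⟨z, j.left.isClosedEmbedding.injective hz⟩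
  obtain ⟨B, _, iB, hiB, hclB, hsmB, hconnB, hsolvB, X₁, a₁, o₁, hX₁, hp₁⟩ :=
    ih C₀ hC₀ P₀ (i₀ ≫ j) inferInstance inferInstance inferInstance rfl
  obtain ⟨hLX₁, hflat₁, hsurj₁, hpb₁⟩ := hX₁
  haveI := hiB
  haveI := hclB
  haveI := hsmB
  haveI := hp₁
  haveI := hsurj₁
  let i := iB ≫ i₀
  haveI : IsMonHom i := inferInstance
  haveI : IsClosedImmersion i.left := by rw [Over.comp_left]; infer_instance
  haveI : QuasiCompact B.hom := by rw [← Over.w i]; infer_instance
  haveI : Mono i := Over.mono_of_mono_left i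
  obtain ⟨X, aX, oX, ⟨n, mX, hmX, hmX'⟩, hLX, hqX, hflatX, hsurjX, hpbX⟩ :=
    AlgGrpLib.HomogQuotProj.exists_quotient_projMono G B i
  obtain ⟨Z₂, hZ₂, a₂, y₂, hfix₂⟩ := exists_chevalley_point G B i
  haveI := hZ₂
  have hBfix : ∀ (W : Over (Spec (CommRingCat.of k))) (h : W ⟶ B),
      lift (h ≫ i) (toUnit W ≫ y₂) ≫ a₂.act = toUnit W ≫ y₂ := fun W h => by
    rw [← comp_orbitMap, (hfix₂ W 1 (h ≫ i)).2 ⟨h, (_root_.one_mul _).symm⟩ |>.symm, one_comp_orbitMap]
  -- the orbit of the neutral component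
  let a₀ := restrictAction a₂ i₀
  have horb₀ : a₀.orbitMap y₂ = i₀ ≫ a₂.orbitMap y₂ := by
    rw [comp_orbitMap]
    show lift _ _ ≫ (i₀ ▷ Z₂) ≫ a₂.act = _
    rw [lift_whiskerRight_assoc, Category.id_comp]
  obtain ⟨f₁, ⟨-, hf₁⟩, -⟩ := existsUnique_equivariant a₁ o₁ hpb₁ (isFppfCov_orbitMap a₁ o₁ hsurj₁ hflat₁) a₀ y₂
    (fun W h => by
      show lift (h ≫ iB) _ ≫ (i₀ ▷ Z₂) ≫ a₂.act = _
      rw [lift_whiskerRight_assoc, Category.assoc]
      exact hBfix W h)
  haveI : IsProper (f₁.left ≫ Z₂.hom) := by rw [Over.w]; infer_instance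
  haveI : IsProper f₁.left := IsProper.of_comp _ Z₂.hom
  have hC₂ : IsClosed (Set.range (i₀ ≫ a₂.orbitMap y₂).left) := by
    rw [← horb₀, ← hf₁, Over.comp_left]
    have : Set.range ((a₁.orbitMap o₁).left ≫ f₁.left) = Set.range f₁.left :=
      (a₁.orbitMap o₁).left.surjective.range_comp _
    rw [this]
    exact f₁.left.isClosedMap.isClosed_range
  -- finitely many cosets
  haveI := AlgGrpLib.OrbitDim.isNoetherian_of_lft G.hom
  haveI : CompactSpace P.left := iP.left.isClosedEmbedding.compactSpace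
  haveI := AlgGrpLib.OrbitDim.isNoetherian_of_lft P.hom
  have hfin : (irreducibleComponents P.left).Finite :=
    TopologicalSpace.NoetherianSpace.finite_irreducibleComponents
  haveI : Finite (irreducibleComponents P.left) := hfin.to_subtype
  have hrep : ∀ K : irreducibleComponents P.left, ∃ p : 𝟙_ (Over (Spec (CommRingCat.of k))) ⟶ P, ptOf p ∈ K.1 :=
    fun K => exists_point_eq (isClosed_of_mem_irreducibleComponents K.1 K.2).isLocallyClosed K.2.1.nonempty
  choose rep hrep using hrep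
  let C' : Set Z₂.left := ⋃ K : irreducibleComponents P.left,
    (trans' a₂ (rep K ≫ iP)⁻¹).left ⁻¹' Set.range (i₀ ≫ a₂.orbitMap y₂).left
  have hC' : IsClosed C' := isClosed_iUnion_of_finite fun K => hC₂.preimage (trans' a₂ _).left.continuous
  have hC'mem : ∀ z : 𝟙_ (Over (Spec (CommRingCat.of k))) ⟶ Z₂,
      ptOf z ∈ C' ↔ ∃ g : 𝟙_ (Over (Spec (CommRingCat.of k))) ⟶ G, g ≫ a.orbitMap y = y ∧ z = g ≫ a₂.orbitMap y₂ := by
    intro z
    have hS₀ : ∀ q : 𝟙_ (Over (Spec (CommRingCat.of k))) ⟶ P₀, q ≫ i₀ ∈ S := fun q => by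
      obtain ⟨x, -, hx⟩ : ptOf (q ≫ i₀) ∈ iP.left '' connectedComponent (ptOf (1 : 𝟙_ _ ⟶ P)) := by
        rw [← hcomp, ← hr₀]; exact ⟨ptOf q, rfl⟩
      obtain ⟨p, hp⟩ := exists_point_of_mem iP (q ≫ i₀) ⟨x, hx⟩
      exact hp ▸ hPS p
    constructor
    · intro hz
      obtain ⟨K, hK⟩ := Set.mem_iUnion.1 hz
      obtain ⟨q, hq⟩ := exists_point_of_mem (i₀ ≫ a₂.orbitMap y₂) (z ≫ trans' a₂ (rep K ≫ iP)⁻¹) hK
      refine ⟨(rep K ≫ iP) * (q ≫ i₀), S.mul_mem (hPS _) (hS₀ q), ?_⟩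
      rw [mul_comp_orbitMap, Category.assoc, hq, comp_trans', ← act_mul, mul_inv_cancel, act_one]
    · rintro ⟨g, hg, rfl⟩
      obtain ⟨p, rfl⟩ := hliftP g hg
      let K : irreducibleComponents P.left :=
        ⟨irreducibleComponent (ptOf p), irreducibleComponent_mem_irreducibleComponents _⟩
      refine Set.mem_iUnion.2 ⟨K, ?_⟩
      have hT : (rep K)⁻¹ * p ∈ T := by
        have hp : ptOf p ∈ connectedComponent (ptOf (rep K)) :=
          (isIrreducible_irreducibleComponent (x := ptOf p)).isPreirreducible.isPreconnected.subset_connectedComponent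
            (hrep K) mem_irreducibleComponent
        let τ : P ⟶ P := (toUnit P ≫ (rep K)⁻¹) * 𝟙 P
        have hτ : ∀ t : 𝟙_ (Over (Spec (CommRingCat.of k))) ⟶ P, t ≫ τ = (rep K)⁻¹ * t := fun t => by
          simp only [τ, MonObj.comp_mul, Category.comp_id, ← Category.assoc,
            toUnit_unique (t ≫ toUnit P) (𝟙 _), Category.id_comp]
        have h1 := τ.left.continuous.image_connectedComponent_subset (ptOf (rep K)) ⟨ptOf p, hp, rfl⟩
        change ptOf (p ≫ τ) ∈ connectedComponent (ptOf (rep K ≫ τ)) at h1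
        rwa [hτ, hτ, inv_mul_cancel] at h1
      obtain ⟨q, hq⟩ := hlift₀ _ ⟨_, hT, rfl⟩
      refine ⟨ptOf q, ?_⟩
      show ptOf (q ≫ i₀ ≫ a₂.orbitMap y₂) = ptOf (((p ≫ iP) ≫ a₂.orbitMap y₂) ≫ trans' a₂ _)
      rw [reassoc_of% hq, comp_trans', ← mul_comp_orbitMap]
      show ptOf ((((rep K)⁻¹ * p) ≫ iP) ≫ a₂.orbitMap y₂) = _
      rw [MonObj.mul_comp, GrpObj.inv_comp]
  have hclosed := isClosed_orbit_of_stabilizer a y hy a₂ y₂ C' hC' hC'mem
  -- the quotient is the orbit
  haveI := hLX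
  haveI := hqX
  haveI := hflatX
  haveI := hsurjX
  obtain ⟨f, ⟨-, hf⟩, -⟩ := existsUnique_equivariant aX oX hpbX (isFppfCov_orbitMap aX oX hsurjX hflatX) a₂ y₂ hBfix
  haveI : Mono f.left := mono_of_kernelPair (aX.orbitMap oX) f fun W g g' hgg => by
    rw [hf] at hgg
    obtain ⟨h, rfl⟩ := (hfix₂ W g g').1 hgg
    have := congrArg (fun t => lift g h ≫ t) hpbX.w
    rw [← Category.assoc, ← Category.assoc, lift_fst, RedQuotLib.act_eq, lift_fst, lift_snd] at this
    exact this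
  obtain ⟨O, iO, hiO, hredO, hrangeO⟩ :=
    AlgGrpLib.OrbitDimFormula.exists_reduced_immersion (X := Z₂) (C := Set.range (a₂.orbitMap y₂).left.base)
      hclosed.isLocallyClosed
  haveI := hiO
  haveI := hredO
  haveI : IsClosedImmersion iO.left := IsClosedImmersion.of_isPreimmersion iO.left (hrangeO ▸ hclosed)
  haveI : Mono iO := Over.mono_of_mono_left iO
  obtain ⟨W, m, Ψ, σ, hflat, hsurj, hqc, hΨ, hσ⟩ := AlgGrpLib.BorelFixed.exists_flat_cover a₂ y₂ iO hrangeO
  haveI := hflat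
  haveI := hsurj
  haveI := hqc
  haveI : IsReduced G.left := AbSchLib.isReduced_of_smooth G.hom
  haveI : IsReduced X.left := AlgSpLib.isReduced_of_flat_surjective (aX.orbitMap oX).left
  obtain ⟨l, hl⟩ := RedSepLib.exists_lift_of_range_subset f.left iO.left (by
    rintro _ ⟨x, rfl⟩
    obtain ⟨g, rfl⟩ := (aX.orbitMap oX).left.surjective x
    rw [hrangeO]
    exact ⟨g, by rw [← hf]; rfl⟩)
  haveI : Mono (l ≫ iO.left) := by rw [hl]; infer_instance
  haveI : Mono l := mono_of_mono l iO.left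
  haveI : IsIso l := isIso_of_mono_of_factor l Ψ.left ((m ≫ aX.orbitMap oX).left) (by
    rw [← cancel_mono iO.left, Category.assoc, hl, ← Over.comp_left, ← Over.comp_left, Category.assoc, hf, ← hΨ])
  refine ⟨B, inferInstance, i, inferInstance, inferInstance, hsmB, hconnB, hsolvB, X, aX, oX,
    ⟨hLX, hflatX, hsurjX, hpbX⟩, ?_⟩
  haveI : IsProper O.hom := by rw [← Over.w iO]; infer_instance
  rw [← Over.w f, ← hl, Category.assoc, Over.w]
  infer_instance

/-- Every affine smooth connected group has a solvable subgroup with proper quotient. -/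
theorem hasProperQuot (G : Over (Spec (CommRingCat.of k))) [GrpObj G] [IsAffine G.left] [Smooth G.hom]
    [ConnectedSpace G.left] : HasProperQuot G :=
  hasProperQuot_aux G ⊤ G (𝟙 G) (inferInstanceAs (IsClosedImmersion (𝟙 G.left))) inferInstance inferInstance
    (by simp)

end Groth.Agent.AGFQuot23
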