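import Groth.Agent.AGFQuot23.CellConj
import Groth.Agent.AGFQuot23.Flag
import Groth.Agent.AGFQuot23.FlagConj
import Groth.Agent.AGFQuot23.BorelFun
import Groth.Agent.AlgGrpLib.CentreSolvable
import Groth.Agent.AbVarLib.PerfectReduced
import Groth.Agent.AbVarLib.MulIsogeny
import Groth.Agent.HopfQuot.SchemeQuot

/-!
# Every rational point of a connected affine group fixes a point of every proper scheme it acts on
-/

set_option autoImplicit false
set_option backward.isDefEq.respectTransparency false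
set_option linter.style.haveILetI false
set_option maxHeartbeats 800000

universe u

open CategoryTheory CategoryTheory.Limits MonoidalCategory CartesianMonoidalCategory MonObj GrpObj AlgebraicGeometry
open WithConv
open scoped TensorProduct

namespace Groth.Agent.AGFQuot23

variable {k : Type u} [Field k] [IsAlgClosed k]

/-- The set of points of `G` with a fixed point. -/
theorem exists_isClosed_fixed {G X : Over (Spec (CommRingCat.of k))} [GrpObj G] [LocallyOfFiniteType G.hom]
    [IsProper X.hom] (a : AlgGrp.Action G X) :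
    ∃ C : Set G.left, IsClosed C ∧ ∀ g : 𝟙_ (Over (Spec (CommRingCat.of k))) ⟶ G, AlgGrpLib.ptOf g ∈ C ↔
      ∃ x : 𝟙_ (Over (Spec (CommRingCat.of k))) ⟶ X, lift g x ≫ a.act = x := by
  let Δ : X ⟶ X ⊗ X := lift (𝟙 X) (𝟙 X)
  haveI : IsSeparated (fst X X).left :=
    MorphismProperty.pullback_fst (P := @IsSeparated) X.hom X.hom inferInstance
  haveI : IsClosedImmersion (Δ.left ≫ (fst X X).left) := by
    rw [← Over.comp_left, lift_fst]
    exact inferInstanceAs (IsClosedImmersion (𝟙 X.left))
  haveI : IsClosedImmersion Δ.left := IsClosedImmersion.of_comp Δ.left (fst X X).left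
  let m : G ⊗ X ⟶ X ⊗ X := lift a.act (snd G X)
  let E : Over (Spec (CommRingCat.of k)) := Over.mk (pullback.fst m.left Δ.left ≫ (G ⊗ X).hom)
  let j : E ⟶ G ⊗ X := Over.homMk (pullback.fst m.left Δ.left) rfl
  let j' : E ⟶ X := Over.homMk (pullback.snd m.left Δ.left) (by
    show _ ≫ X.hom = pullback.fst m.left Δ.left ≫ (G ⊗ X).hom
    rw [← Over.w m, ← Over.w Δ, pullback.condition_assoc])
  have hj : j ≫ m = j' ≫ Δ := Over.OverMorphism.ext pullback.condition
  haveI : IsClosedImmersion j.left := inferInstanceAs (IsClosedImmersion (pullback.fst m.left Δ.left))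
  haveI : LocallyOfFiniteType (G ⊗ X).hom := by
    change LocallyOfFiniteType (pullback.fst G.hom X.hom ≫ G.hom)
    infer_instance
  haveI : LocallyOfFiniteType E.hom := by rw [← Over.w j]; infer_instance
  haveI : UniversallyClosed (fst G X).left :=
    MorphismProperty.pullback_fst (P := @UniversallyClosed) G.hom X.hom inferInstance
  refine ⟨Set.range (j ≫ fst G X).left, ?_, fun g => ⟨fun hg => ?_, ?_⟩⟩
  · rw [Over.comp_left, Scheme.Hom.comp_base, TopCat.coe_comp, Set.range_comp]
    exact (fst G X).left.isClosedMap _ j.left.isClosedEmbedding.isClosed_range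
  · obtain ⟨y, hy⟩ := exists_point_of_mem (j ≫ fst G X) g hg
    refine ⟨y ≫ j', ?_⟩
    have h1 := congrArg (fun f => y ≫ f ≫ fst X X) hj
    have h2 := congrArg (fun f => y ≫ f ≫ snd X X) hj
    simp only [m, Δ, Category.assoc, lift_fst, lift_snd, Category.comp_id] at h1 h2
    rw [← hy, ← h2, ← comp_lift, ← comp_lift, lift_fst_snd, Category.comp_id, Category.assoc, h1]
    exact h2.symm
  · rintro ⟨x, hx⟩
    have h : (lift g x ≫ m).left = (x ≫ Δ).left := by
      congr 1
      simp only [m, Δ, comp_lift, hx, lift_snd, Category.comp_id]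
    rw [Over.comp_left, Over.comp_left] at h
    let y : 𝟙_ (Over (Spec (CommRingCat.of k))) ⟶ E := Over.homMk (pullback.lift (lift g x).left x.left h) (by
      show pullback.lift _ _ h ≫ pullback.fst _ _ ≫ (G ⊗ X).hom = _
      rw [pullback.lift_fst_assoc]
      exact Over.w (lift g x))
    have hy : y ≫ j ≫ fst G X = g := by
      rw [← Category.assoc, show y ≫ j = lift g x from Over.OverMorphism.ext (pullback.lift_fst _ _ h), lift_fst]
    refine ⟨y.left (IsLocalRing.closedPoint k), ?_⟩
    rw [← hy]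
    rfl

/-- The rational point of a `k`-valued point. -/
noncomputable def ratPt {A : Type u} [CommRing A] [HopfAlgebra k A] (w : HopfQuot.Pt k A k) :
    𝟙_ (Over (Spec (CommRingCat.of k))) ⟶ HopfQuot.spec (k := k) A :=
  Over.homMk (Spec.map (CommRingCat.ofHom w.ofConv.toRingHom)) (by
    show Spec.map _ ≫ Spec.map _ = 𝟙 (Spec (CommRingCat.of k))
    rw [← Spec.map_comp, ← Spec.map_id]
    congr 1
    ext x
    exact w.ofConv.commutes x)

theorem ratPt_mul {A : Type u} [CommRing A] [HopfAlgebra k A] (v w : HopfQuot.Pt k A k) :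
    ratPt (v * w) = ratPt v * ratPt w := by
  let K₀ : CommAlgCat.{u} k := CommAlgCat.of k k
  have hu : (toUnit (GrassLib.pt K₀)).left = (GrassLib.pt K₀).hom :=
    (Category.comp_id _).symm.trans (Over.w (toUnit (GrassLib.pt K₀)))
  haveI : IsIso (toUnit (GrassLib.pt K₀)).left := by
    rw [hu]
    show IsIso (Spec.map (CommRingCat.ofHom (algebraMap k k)))
    rw [show CommRingCat.ofHom (algebraMap k k) = 𝟙 (CommRingCat.of k) from rfl, Spec.map_id]
    infer_instance
  haveI : IsIso (toUnit (GrassLib.pt K₀)) := (isIso_iff_of_reflects_iso _ (Over.forget _)).1 ‹_›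
  have h : ∀ z : HopfQuot.Pt k A k, toUnit (GrassLib.pt K₀) ≫ ratPt z = HopfQuot.ptSpec (k := k) z := fun z => by
    refine Over.OverMorphism.ext ?_
    rw [Over.comp_left, hu]
    show Spec.map (CommRingCat.ofHom (algebraMap k k)) ≫ _ = _
    rw [show CommRingCat.ofHom (algebraMap k k) = 𝟙 (CommRingCat.of k) from rfl, Spec.map_id, Category.id_comp]
    rfl
  rw [← cancel_epi (toUnit (GrassLib.pt K₀)), MonObj.comp_mul, h, h, h]
  exact map_mul _ v w

theorem ratPt_one {A : Type u} [CommRing A] [HopfAlgebra k A] :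
    ratPt (1 : HopfQuot.Pt k A k) = (1 : 𝟙_ (Over (Spec (CommRingCat.of k))) ⟶ HopfQuot.spec (k := k) A) := by
  have h := ratPt_mul (k := k) (A := A) 1 1
  rw [_root_.mul_one] at h
  exact left_eq_mul.1 h

theorem ratPt_comp {A B : Type u} [CommRing A] [HopfAlgebra k A] [CommRing B] [HopfAlgebra k B] (f : A →ₐc[k] B)
    (w : HopfQuot.Pt k B k) :
    ratPt w ≫ HopfQuot.specHom f = ratPt (toConv (w.ofConv.comp (f : A →ₐ[k] B))) := by
  refine Over.OverMorphism.ext ?_
  rw [Over.comp_left, HopfQuot.specHom_left]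
  show Spec.map _ ≫ Spec.map _ = Spec.map _
  rw [← Spec.map_comp]
  rfl

/-- Every rational point fixes a point of every proper scheme with an action. -/
theorem exists_fixed_spec (A : Type u) [CommRing A] [HopfAlgebra k A] [Algebra.FiniteType k A] [IsDomain A]
    (X : Over (Spec (CommRingCat.of k))) [IsProper X.hom] [Nonempty X.left]
    (a : AlgGrp.Action (HopfQuot.spec (k := k) A) X) (g : HopfQuot.Pt k A k) :
    ∃ x : 𝟙_ (Over (Spec (CommRingCat.of k))) ⟶ X, lift (ratPt g) x ≫ a.act = x := by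
  haveI : IsNoetherianRing A := Algebra.FiniteType.isNoetherianRing k A
  suffices key : ∀ P : Ideal A, ∀ (D : Type u) (_ : CommRing D) (_ : HopfAlgebra k D) (π : A →ₐc[k] D),
      RingHom.ker (π : A →+* D) = P → IsDomain D → Function.Surjective π →
      ∀ (a : AlgGrp.Action (HopfQuot.spec (k := k) D) X) (g : HopfQuot.Pt k D k),
        ∃ x : 𝟙_ (Over (Spec (CommRingCat.of k))) ⟶ X, lift (ratPt g) x ≫ a.act = x from
    key _ A _ _ (BialgHom.id k A) rfl inferInstance Function.surjective_id a g
  clear a g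
  intro P
  induction P using WellFoundedGT.induction with
  | ind P ih =>
  intro D _ _ π hP hD hπ a g
  haveI := hD
  haveI : Algebra.FiniteType k D := Algebra.FiniteType.of_surjective (π : A →ₐ[k] D) hπ
  let S := HopfQuot.spec (k := k) D
  haveI hlft : LocallyOfFiniteType S.hom :=
    (HasRingHomProperty.Spec_iff (P := @LocallyOfFiniteType)
      (φ := CommRingCat.ofHom (algebraMap k D))).2 (RingHom.finiteType_algebraMap.2 inferInstance)
  haveI : IsAffine S.left := inferInstanceAs (IsAffine (Spec _))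
  haveI : IsReduced S.left := inferInstanceAs (IsReduced (Spec (CommRingCat.of D)))
  haveI : QuasiCompact S.hom := (quasiCompact_iff_compactSpace S.hom).2 inferInstance
  haveI : ConnectedSpace S.left := inferInstanceAs (ConnectedSpace (PrimeSpectrum D))
  by_cases hc : ∀ lam : D →ₐc[k] LaurentPolynomial k, AlgGrpLib.CentralTorus.IsCentralCochar lam
  · haveI : Group.IsSolvable (HopfQuot.Pt k D k) := AlgGrpLib.CentralTorus.isSolvable_of_central hc
    haveI : Group.IsSolvable (𝟙_ (Over (Spec (CommRingCat.of k))) ⟶ S) :=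
      solvable_of_surjective (f := MonoidHom.mk' ratPt (ratPt_mul (A := D))) fun y => by
        obtain ⟨φ, hφ⟩ := Spec.map_surjective y.left
        have hw : y.left ≫ S.hom = 𝟙 _ := Over.w y
        rw [← hφ] at hw
        have hw' : CommRingCat.ofHom (algebraMap k D) ≫ φ = 𝟙 (CommRingCat.of k) := Spec.map_injective (by
          rw [Spec.map_comp, Spec.map_id]
          exact hw)
        refine ⟨toConv { φ.hom with commutes' := fun x => congrArg (fun f => f.hom x) hw' }, ?_⟩
        exact Over.OverMorphism.ext hφ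
    haveI : Smooth S.hom := by
      haveI : GeometricallyReduced S.hom := AbVarLib.geometricallyReduced_of_perfectField S.hom
      exact AbVarLib.smooth_of_geometricallyReduced S
    obtain ⟨x, hx⟩ := AlgGrpLib.BorelFixed.exists_isFixedPt S X a
    refine ⟨x, ?_⟩
    have := hx _ (ratPt g)
    rwa [toUnit_unique (toUnit _) (𝟙 _), Category.id_comp] at this
  push Not at hc
  obtain ⟨lam, hlam⟩ := hc
  let lamNeg := (DynLib.invertHom k).comp lam
  let Z := DynLib.limIdeal lam ⊔ DynLib.limIdeal lamNeg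
  haveI : (DynLib.limIdeal lam).IsHopfIdeal k := DynLib.isHopfIdeal_limIdeal lam
  haveI : (DynLib.limIdeal lamNeg).IsHopfIdeal k := DynLib.isHopfIdeal_limIdeal lamNeg
  have hZ := S3309.result k D lam lamNeg (DynLib.invertHom_comp_eq lam) (DynLib.limIdeal lam) (DynLib.limIdeal lamNeg)
    (fun R _ _ g => (DynLib.kills_limIdeal_iff lam g).trans (DynLib.limExists_iff lam g).symm)
    (fun R _ _ g => (DynLib.kills_limIdeal_iff lamNeg g).trans (DynLib.limExists_iff lamNeg g).symm)
  haveI : Z.IsHopfIdeal k := DynLib.isHopfIdeal_of_subgroup Z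
    (fun R _ _ => MonoidHom.eqLocus (DynLib.conj R lam) (DynLib.push (DynLib.cst k R))) fun R _ _ g => by
      refine (hZ R g).trans ?_
      beta_reduce
      rw [DynLib.conjOrbit_eq]
      exact ⟨fun h => WithConv.ext h, fun h => congrArg WithConv.ofConv h⟩
  haveI : IsDomain (D ⧸ Z) := AlgGrpLib.CentreSolvable.isDomain_centralizer lam
  let π' : D →ₐc[k] D ⧸ Z := Bialgebra.Quotient.mkBialgHom (R := k) Z
  have hlt : P < RingHom.ker ((π'.comp π : A →ₐc[k] D ⧸ Z) : A →+* D ⧸ Z) := by
    refine lt_of_le_of_ne (fun z hz => ?_) fun heq => hlam ?_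
    · rw [← hP] at hz
      show π' (π z) = 0
      rw [show π z = 0 from hz, map_zero]
    · have hbot : ∀ d ∈ Z, d = 0 := fun d hd => by
        obtain ⟨b, rfl⟩ := hπ d
        have hb : b ∈ RingHom.ker ((π'.comp π : A →ₐc[k] D ⧸ Z) : A →+* D ⧸ Z) :=
          Ideal.Quotient.eq_zero_iff_mem.2 hd
        rw [← heq, ← hP] at hb
        exact hb
      have h1 := (hZ D (AlgHom.id k D)).1 hbot
      beta_reduce at h1
      rw [DynLib.conjOrbit_eq] at h1
      have h2 : DynLib.conj D lam (toConv (AlgHom.id k D)) = DynLib.push (DynLib.cst k D) (toConv (AlgHom.id k D)) :=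
        WithConv.ext h1
      rw [DynLib.conj_apply, mul_inv_eq_iff_eq_mul] at h2
      exact h2
  have hfix : ∀ l : HopfQuot.Pt k D k, DynLib.conj k lam l = DynLib.push (DynLib.cst k k) l →
      ∃ x : 𝟙_ (Over (Spec (CommRingCat.of k))) ⟶ X, lift (ratPt l) x ≫ a.act = x := by
    intro l hl
    have hlZ : ∀ d ∈ Z, l.ofConv d = 0 := by
      refine (hZ k l.ofConv).2 ?_
      beta_reduce
      rw [DynLib.conjOrbit_eq, toConv_ofConv]
      exact congrArg WithConv.ofConv hl
    let l' : HopfQuot.Pt k (D ⧸ Z) k := toConv (Ideal.Quotient.liftₐ Z l.ofConv hlZ)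
    obtain ⟨x, hx⟩ := ih _ hlt (D ⧸ Z) _ _ (π'.comp π) rfl inferInstance
      (Ideal.Quotient.mk_surjective.comp hπ) (restrictAction a (HopfQuot.specHom π')) l'
    refine ⟨x, ?_⟩
    have e : ratPt l' ≫ HopfQuot.specHom π' = ratPt l := by
      rw [ratPt_comp]
      rfl
    change lift (ratPt l') x ≫ (HopfQuot.specHom π' ▷ X) ≫ a.act = x at hx
    rwa [lift_whiskerRight_assoc, e] at hx
  obtain ⟨C, hC, hCiff⟩ := exists_isClosed_fixed a
  obtain ⟨R, _, _, _, _, Ψ, hΨ, hval⟩ := exists_dominant_conj lam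
  haveI : IsJacobsonRing R := isJacobsonRing_of_finiteType (A := k)
  let f : PrimeSpectrum R → PrimeSpectrum D := PrimeSpectrum.comap Ψ.toRingHom
  have hC' : IsClosed (C : Set (PrimeSpectrum D)) := hC
  have hsub : f ⁻¹' C = Set.univ := by
    refine Set.eq_univ_of_univ_subset ?_
    rw [← closure_closedPoints (X := PrimeSpectrum R)]
    refine closure_minimal (fun p hp => ?_) (hC'.preimage (PrimeSpectrum.continuous_comap Ψ.toRingHom))
    haveI : p.asIdeal.IsMaximal := (PrimeSpectrum.isClosed_singleton_iff_isMaximal p).1 hp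
    obtain ⟨φ, hφ⟩ := exists_point_of_isMaximal (k := k) p.asIdeal
    obtain ⟨t, l, hl, e⟩ := hval φ
    obtain ⟨x, hx⟩ := hfix l hl
    have hmem : AlgGrpLib.ptOf (ratPt (toConv (φ.comp Ψ))) ∈ C := by
      refine (hCiff _).2 ⟨lift (ratPt t) x ≫ a.act, ?_⟩
      rw [← act_mul, ← ratPt_mul, e, inv_mul_cancel_right, ratPt_mul, act_mul, hx]
    show f p ∈ C
    suffices heq : f p = AlgGrpLib.ptOf (ratPt (toConv (φ.comp Ψ))) by rw [heq]; exact hmem
    refine PrimeSpectrum.ext ?_
    show p.asIdeal.comap Ψ.toRingHom = (IsLocalRing.maximalIdeal k).comap (φ.comp Ψ).toRingHom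
    rw [← hφ, IsLocalRing.maximalIdeal_eq_bot]
    rfl
  have hd : DenseRange f := (PrimeSpectrum.denseRange_comap_iff_ker_le_nilRadical Ψ.toRingHom).2 (by
    rw [(RingHom.injective_iff_ker_eq_bot Ψ.toRingHom).1 hΨ]; exact bot_le)
  have huniv : (C : Set (PrimeSpectrum D)) = Set.univ := by
    refine Set.eq_univ_of_univ_subset ?_
    rw [← hd.closure_range]
    refine closure_minimal ?_ hC'
    rintro _ ⟨p, rfl⟩
    exact Set.eq_univ_iff_forall.1 hsub p
  exact (hCiff _).1 (Set.eq_univ_iff_forall.1 huniv _)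

/-- Every rational point of a connected smooth affine group fixes a point of every proper scheme it acts on. -/
theorem exists_fixedPt_of_point {G X : Over (Spec (CommRingCat.of k))} [GrpObj G] [IsAffine G.left] [Smooth G.hom]
    [ConnectedSpace G.left] [IsProper X.hom] [Nonempty X.left] (a : AlgGrp.Action G X)
    (g : 𝟙_ (Over (Spec (CommRingCat.of k))) ⟶ G) :
    ∃ x : 𝟙_ (Over (Spec (CommRingCat.of k))) ⟶ X, lift g x ≫ a.act = x := by
  haveI : QuasiCompact G.hom := (quasiCompact_iff_compactSpace G.hom).2 inferInstance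
  haveI : IsReduced G.left := AbSchLib.isReduced_of_smooth G.hom
  haveI : IrreducibleSpace G.left := SGA3cLib.irreducibleSpace_of_connected G
  obtain ⟨A, _, _, e, _, _⟩ := HopfQuot.exists_spec (k := k) G
  haveI : IsIso e.left := inferInstanceAs (IsIso ((Over.forget _).map e))
  haveI : LocallyOfFiniteType (HopfQuot.spec (k := k) A).hom := by rw [← Over.w e]; infer_instance
  haveI : Algebra.FiniteType k A :=
    RingHom.finiteType_algebraMap.1 ((HasRingHomProperty.Spec_iff (P := @LocallyOfFiniteType)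
      (φ := CommRingCat.ofHom (algebraMap k A))).1 ‹LocallyOfFiniteType (HopfQuot.spec (k := k) A).hom›)
  haveI : IsReduced (Spec (CommRingCat.of A)) := by
    haveI hoi : IsOpenImmersion e.left := inferInstanceAs (IsOpenImmersion (asIso e.left).hom)
    exact @isReduced_of_isOpenImmersion _ _ e.left hoi ‹_›
  haveI : IsIntegral (Spec (CommRingCat.of A)) := by
    haveI : IrreducibleSpace (Spec (CommRingCat.of A)) :=
      (asIso e.left).inv.homeomorph.surjective.irreducibleSpace (asIso e.left).inv.continuous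
    exact isIntegral_of_irreducibleSpace_of_isReduced _
  haveI : IsDomain A := (affine_isIntegral_iff (CommRingCat.of A)).1 inferInstance
  obtain ⟨φ, hφ⟩ := Spec.map_surjective (g ≫ CategoryTheory.inv e).left
  have hw : (g ≫ CategoryTheory.inv e).left ≫ (HopfQuot.spec (k := k) A).hom = 𝟙 _ := Over.w _
  rw [← hφ] at hw
  have hw' : CommRingCat.ofHom (algebraMap k A) ≫ φ = 𝟙 (CommRingCat.of k) := Spec.map_injective (by
    rw [Spec.map_comp, Spec.map_id]
    exact hw)
  let w : HopfQuot.Pt k A k := toConv { φ.hom with commutes' := fun x => congrArg (fun f => f.hom x) hw' }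
  have hwg : ratPt w = g ≫ CategoryTheory.inv e := Over.OverMorphism.ext hφ
  obtain ⟨x, hx⟩ := exists_fixed_spec A X (restrictAction a e) w
  refine ⟨x, ?_⟩
  change lift (ratPt w) x ≫ (e ▷ X) ≫ a.act = x at hx
  rwa [lift_whiskerRight_assoc, hwg, Category.assoc, IsIso.inv_hom_id, Category.comp_id] at hx

/-- A connected group is the union of the conjugates of a Borel subgroup. -/
theorem exists_conj_mem_borel {G B : Over (Spec (CommRingCat.of k))} [GrpObj G] [GrpObj B] [IsAffine G.left]
    [Smooth G.hom] [ConnectedSpace G.left] {iB : B ⟶ G} (hB : Red.IsBorelOver k iB)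
    (g : 𝟙_ (Over (Spec (CommRingCat.of k))) ⟶ G) :
    ∃ (x : 𝟙_ (Over (Spec (CommRingCat.of k))) ⟶ G) (b : 𝟙_ (Over (Spec (CommRingCat.of k))) ⟶ B),
      x * (b ≫ iB) * x⁻¹ = g := by
  haveI : QuasiCompact G.hom := (quasiCompact_iff_compactSpace G.hom).2 inferInstance
  obtain ⟨hi, hcl, hsm, hconn, -⟩ := id hB
  haveI := hi; haveI := hcl; haveI := hsm; haveI := hconn
  haveI : QuasiCompact B.hom := by rw [← Over.w iB]; infer_instance
  haveI : Mono iB := Over.mono_of_mono_left _
  obtain ⟨X, a, o, -, hLX, -, hfl, hs, hpb⟩ := AlgGrpLib.HomogQuotProj.exists_quotient_projMono G B iB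
  haveI := isProper_of_isBorelOver hB ⟨hLX, hfl, hs, hpb⟩
  haveI := hs
  haveI : Nonempty X.left := ⟨o.left (IsLocalRing.closedPoint k)⟩
  obtain ⟨x, hx⟩ := exists_fixedPt_of_point a g
  obtain ⟨y, rfl⟩ := exists_ratPoint_lift (a.orbitMap o) x
  have h : y ≫ a.orbitMap o = (g * y) ≫ a.orbitMap o := by rw [mul_comp_orbitMap, hx]
  obtain ⟨t, ht₁, ht₂⟩ := hpb.exists_lift _ _ h
  refine ⟨y, t ≫ snd G B, ?_⟩
  rw [RedQuotLib.act_eq, ht₁] at ht₂
  rw [ht₂, mul_inv_cancel_right]

end Groth.Agent.AGFQuot23
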