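import Groth.Agent.AGFQuot23.Proper
import Groth.Agent.AlgGrpLib.GrassAction
import Groth.Agent.GrpQLib.AffineGroupQuot
import Groth.Agent.GrassLib.PluckerOver
import Groth.Agent.RelVALib.ChowPn
import Groth.Agent.S3267
import Groth.Agent.S5366

/-!
# Projective homogeneous points

A Chevalley point with prescribed stabiliser, and a moving point with closed orbit for a non-solvable group.
-/

set_option autoImplicit false
set_option backward.isDefEq.respectTransparency.types false
set_option maxHeartbeats 800000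
set_option linter.style.haveILetI false

universe u

open CategoryTheory CategoryTheory.Limits MonoidalCategory CartesianMonoidalCategory MonObj GrpObj AlgebraicGeometry
open HopfRep Groth.Agent.HopfQuot Groth.Agent.GrassLib Groth.Agent.GrpQLib
open Groth.Agent.AlgGrpLib.GrassAction
open WithConv Matrix
open scoped TensorProduct

namespace Groth.Agent.AGFQuot23

section Grass

variable {k : Type u} [Field k] {A B : Type u} [CommRing A] [HopfAlgebra k A] [CommRing B] [HopfAlgebra k B]
  {π : A →ₐc[k] B} {d e : ℕ} {R : Type u} [CommRing R] [Algebra k R]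

/-- The representation of Chevalley data in standard coordinates. -/
def chevCorep (D : ChevData k A π d e) : Fin (d + e) → Fin (d + e) → A :=
  fun s t => D.a (finSumFinEquiv.symm s) (finSumFinEquiv.symm t)

theorem isCorep_chevCorep (D : ChevData k A π d e) : IsCorep (k := k) (chevCorep D) := by
  refine ⟨fun s t => ?_, fun s t => ?_⟩
  · simp [chevCorep, D.counit_a]
  · simp only [chevCorep, D.comul_a]
    exact (Equiv.sum_comp finSumFinEquiv.symm
      fun l => D.a (finSumFinEquiv.symm s) l ⊗ₜ[k] D.a l (finSumFinEquiv.symm t)).symm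

theorem reidx_mat_mulVec (D : ChevData k A π d e) (g : Pt k A R) (y : Fin (d + e) → R) :
    reidx R d e (mat (chevCorep D) g *ᵥ y) = D.M g *ᵥ reidx R d e y := by
  funext s
  simp only [reidx_apply, Matrix.mulVec, dotProduct, mat, ChevData.M, Matrix.of_apply, chevCorep,
    Equiv.symm_apply_apply]
  exact (Fintype.sum_equiv finSumFinEquiv _ _ fun t => by simp).symm

theorem move_grass (D : ChevData k A π d e) (g h : Pt k A R) :
    move (isCorep_chevCorep D) g (D.grass h) = D.grass (g * h) := by
  refine crd_injective ?_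
  rw [crd_move]
  show Submodule.map _ (Submodule.map _ (D.grass h).toSubmodule) = Submodule.map _ (D.grass (g * h)).toSubmodule
  rw [D.map_kappa_grass, D.map_kappa_grass]
  refine le_antisymm ?_ fun y hy => ?_
  · rintro _ ⟨y, hy, rfl⟩
    refine LinearMap.mem_ker.2 (funext fun j => ?_)
    rw [D.L_apply, Matrix.mulVecLin_apply, reidx_mat_mulVec, Matrix.mulVec_mulVec, ← D.M_mul,
      _root_.mul_inv_rev, inv_mul_cancel_right]
    exact congrFun (LinearMap.mem_ker.1 hy) j
  · refine ⟨mat (chevCorep D) g⁻¹ *ᵥ y, LinearMap.mem_ker.2 (funext fun j => ?_), ?_⟩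
    · rw [D.L_apply, reidx_mat_mulVec, Matrix.mulVec_mulVec, ← D.M_mul, ← _root_.mul_inv_rev]
      exact congrFun (LinearMap.mem_ker.1 hy) j
    · rw [Matrix.mulVecLin_apply, Matrix.mulVec_mulVec, ← mat_mul (isCorep_chevCorep D), mul_inv_cancel,
        mat_one (isCorep_chevCorep D), Matrix.one_mulVec]

end Grass

variable {k : Type u} [Field k]

/-- An action on a proper scheme and a point whose stabiliser is a given subgroup. -/
theorem exists_chevalley_point (G H : Over (Spec (CommRingCat.of k))) [GrpObj G] [GrpObj H] [IsAffine G.left]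
    [LocallyOfFiniteType G.hom] (i : H ⟶ G) [IsMonHom i] [IsClosedImmersion i.left] :
    ∃ (Z : Over (Spec (CommRingCat.of k))) (_ : IsProper Z.hom) (a : AlgGrp.Action G Z)
      (y : 𝟙_ (Over (Spec (CommRingCat.of k))) ⟶ Z),
      ∀ (W : Over (Spec (CommRingCat.of k))) (g g' : W ⟶ G),
        g ≫ a.orbitMap y = g' ≫ a.orbitMap y ↔ ∃ h : W ⟶ H, g' = g * (h ≫ i) := by
  classical
  haveI : Mono i := Over.mono_of_mono_left i
  have : IsAffine H.left := isAffine_of_isAffineHom i.left
  obtain ⟨A, _, _, e, _, _⟩ := exists_spec (k := k) G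
  obtain ⟨B, _, _, e', _, _⟩ := exists_spec (k := k) H
  haveI : IsIso e.left := inferInstanceAs (IsIso ((Over.forget _).map e))
  haveI : IsIso e'.left := inferInstanceAs (IsIso ((Over.forget _).map e'))
  haveI : IsIso (CategoryTheory.inv e).left := inferInstanceAs (IsIso ((Over.forget _).map (CategoryTheory.inv e)))
  haveI : IsMonHom (CategoryTheory.inv e) := inferInstanceAs (IsMonHom (asIso e).inv)
  obtain ⟨π, hπj⟩ := exists_specHom (k := k) (A := A) (B := B) (e' ≫ i ≫ CategoryTheory.inv e)
  have hπi : specHom π ≫ e = e' ≫ i := by rw [hπj]; simp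
  haveI hci : IsClosedImmersion (Spec.map (CommRingCat.ofHom (π : A →+* B))) := by
    rw [← specHom_left, hπj, Over.comp_left, Over.comp_left]
    haveI h2 : IsClosedImmersion (i.left ≫ (CategoryTheory.inv e).left) := inferInstance
    haveI h3 : IsClosedImmersion e'.left := inferInstance
    exact MorphismProperty.comp_mem @IsClosedImmersion _ _ h3 h2
  have hπ : Function.Surjective π := by
    have h := Scheme.Hom.app_surjective (Spec.map (CommRingCat.ofHom (π : A →+* B))) ⊤ (isAffineOpen_top _)
    have e0 := Scheme.ΓSpecIso_inv_naturality (CommRingCat.ofHom (π : A →+* B))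
    intro y
    obtain ⟨z, hz⟩ := h ((Scheme.ΓSpecIso (CommRingCat.of B)).inv y)
    obtain ⟨x, rfl⟩ := (ConcreteCategory.bijective_of_isIso (Scheme.ΓSpecIso (CommRingCat.of A)).inv).2 z
    refine ⟨x, (ConcreteCategory.bijective_of_isIso (Scheme.ΓSpecIso (CommRingCat.of B)).inv).1 ?_⟩
    exact (congrArg (fun f => f.hom x) e0).trans hz
  haveI : LocallyOfFiniteType (spec (k := k) A).hom := by rw [← Over.w e]; infer_instance
  haveI hft : Algebra.FiniteType k A :=
    RingHom.finiteType_algebraMap.1 ((HasRingHomProperty.Spec_iff (P := @LocallyOfFiniteType)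
      (φ := CommRingCat.ofHom (algebraMap k A))).1 ‹LocallyOfFiniteType (spec (k := k) A).hom›)
  obtain ⟨d, n, a, hε, hΔ, hπa, hcut⟩ := HopfLib.exists_matrix_cutting_out π hπ
  let D : ChevData k A π d n := ⟨a, hε, hΔ, hπa, hcut⟩
  obtain ⟨φ, hφ⟩ := exists_grassHom D
  let φG : G ⟶ GrOver (d + n) n k := CategoryTheory.inv e ≫ φ
  have hcoset : ∀ {T : CommAlgCat.{u} k} (p q : GrassLib.pt T ⟶ G),
      p ≫ φG = q ≫ φG ↔ ∃ h : GrassLib.pt T ⟶ H, h ≫ i = p⁻¹ * q := by
    intro T p q
    have key := grassHom_eq_iff D hπ φ hφ (p ≫ CategoryTheory.inv e) (q ≫ CategoryTheory.inv e)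
    rw [Category.assoc, Category.assoc] at key
    refine key.trans ⟨?_, ?_⟩
    · rintro ⟨b, hb⟩
      refine ⟨b ≫ e', ?_⟩
      rw [Category.assoc, ← hπi, ← Category.assoc, hb, ← GrpObj.inv_comp, ← MonObj.mul_comp, Category.assoc,
        IsIso.inv_hom_id, Category.comp_id]
    · rintro ⟨h, hh⟩
      refine ⟨h ≫ CategoryTheory.inv e', ?_⟩
      rw [← cancel_mono e, Category.assoc, hπi, Category.assoc, IsIso.inv_hom_id_assoc, hh, ← GrpObj.inv_comp,
        ← MonObj.mul_comp, Category.assoc, IsIso.inv_hom_id, Category.comp_id]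
  have hex : ∀ {T : Over (Spec (CommRingCat.of k))} (x y : T ⟶ G), x ≫ φG = y ≫ φG →
      ∃ h : T ⟶ H, h ≫ i = x⁻¹ * y := by
    intro T x y hxy
    have hp : ∀ (A' : CommAlgCat.{u} k) (p : GrassLib.pt A' ⟶ T), ∃ h : GrassLib.pt A' ⟶ H, h ≫ i = p ≫ (x⁻¹ * y) :=
      fun A' p => by
        obtain ⟨h, hh⟩ := (hcoset (p ≫ x) (p ≫ y)).1 (by rw [Category.assoc, hxy, Category.assoc])
        exact ⟨h, by rw [hh, MonObj.comp_mul, GrpObj.comp_inv]⟩
    choose F hF using hp
    obtain ⟨h, hh⟩ := GrassLib.exists_hom F fun A' B' f g g' hg => by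
      have : Mono i.left := inferInstanceAs (Mono ((Over.forget _).map i))
      rw [← cancel_mono i.left, Category.assoc]
      have h1 : (F B' g').left ≫ i.left = g'.left ≫ (x⁻¹ * y).left := congrArg CommaMorphism.left (hF B' g')
      have h2 : (F A' g).left ≫ i.left = g.left ≫ (x⁻¹ * y).left := congrArg CommaMorphism.left (hF A' g)
      rw [h1, h2, hg, Category.assoc]
    exact ⟨h, GrassLib.hom_ext_points fun A' p => by rw [← Category.assoc, hh, hF]⟩
  obtain ⟨c, hcc, hc⟩ := exists_closedImmersion_GrOver (R := k) (Nat.le_add_left n d)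
  haveI hprop : IsProper (GrOver (d + n) n k).hom := RelVALib.IsPnClosed.isProper ⟨_, c, hcc, hc⟩
  obtain ⟨act, hact⟩ := exists_action (q := n) (isCorep_chevCorep D)
  let a' := restrictAction act (CategoryTheory.inv e)
  let y : 𝟙_ (Over (Spec (CommRingCat.of k))) ⟶ GrOver (d + n) n k := η[G] ≫ φG
  have horb : a'.orbitMap y = φG := by
    refine GrassLib.hom_ext_points fun T p => (repFree (d + n) n k T).injective ?_
    rw [comp_orbitMap]
    show repFree _ _ _ T (lift p (toUnit _ ≫ η[G] ≫ φG) ≫ (CategoryTheory.inv e ▷ _) ≫ act.act) = _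
    rw [lift_whiskerRight_assoc, hact, ← Category.assoc (toUnit _) η[G], ← Hom.one_def,
      ← Category.assoc, MonObj.one_comp, hφ, ptOf_one, move_grass, _root_.mul_one, ← Category.assoc, hφ]
  refine ⟨GrOver (d + n) n k, hprop, a', y, fun W g g' => ?_⟩
  rw [horb]
  refine ⟨fun hgg => ?_, ?_⟩
  · obtain ⟨h, hh⟩ := hex g g' hgg
    exact ⟨h, by rw [hh, mul_inv_cancel_left]⟩
  · rintro ⟨h, rfl⟩
    refine GrassLib.hom_ext_points fun T p => ?_
    simp only [← Category.assoc]
    exact (hcoset _ _).2 ⟨p ≫ h, by rw [Category.assoc, MonObj.comp_mul, inv_mul_cancel_left]⟩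

theorem eq_zero_of_forall_point [IsAlgClosed k] {A : Type u} [CommRing A] [Algebra k A] [Algebra.FiniteType k A]
    [_root_.IsReduced A] (z : A) (h : ∀ w : A →ₐ[k] k, w z = 0) : z = 0 := by
  haveI : IsJacobsonRing A := isJacobsonRing_of_finiteType (A := k)
  have hz : z ∈ Ideal.jacobson (⊥ : Ideal A) := by
    rw [Ideal.jacobson, Submodule.mem_sInf]
    rintro m ⟨-, hm⟩
    letI : Field (A ⧸ m) := @Ideal.Quotient.field _ _ m hm
    haveI : Algebra.FiniteType k (A ⧸ m) :=
      Algebra.FiniteType.of_surjective (Ideal.Quotient.mkₐ k m) Ideal.Quotient.mk_surjective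
    haveI : Module.Finite k (A ⧸ m) := finite_of_finite_type_of_isJacobsonRing k (A ⧸ m)
    have hb : Function.Bijective (algebraMap k (A ⧸ m)) :=
      IsAlgClosed.algebraMap_bijective_of_isIntegral
    let eq : k ≃ₐ[k] A ⧸ m := AlgEquiv.ofBijective (Algebra.ofId k (A ⧸ m)) hb
    have := h (eq.symm.toAlgHom.comp (Ideal.Quotient.mkₐ k m))
    refine Ideal.Quotient.eq_zero_iff_mem.1 (eq.symm.injective ?_)
    rw [map_zero]
    exact this
  have hj : Ideal.jacobson (⊥ : Ideal A) = ⊥ := IsJacobsonRing.out inferInstance Ideal.isRadical_bot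
  simpa [hj] using hz

/-- A non-solvable connected group moves some point with closed orbit in a proper scheme. -/
theorem exists_moving_point [IsAlgClosed k] (G : Over (Spec (CommRingCat.of k))) [GrpObj G] [IsAffine G.left]
    [Smooth G.hom] (hns : ¬ Red.IsSolvableGrp G) :
    ∃ (Z : Over (Spec (CommRingCat.of k))) (_ : IsProper Z.hom) (a : AlgGrp.Action G Z)
      (y : 𝟙_ (Over (Spec (CommRingCat.of k))) ⟶ Z),
      IsClosed (Set.range (a.orbitMap y).left) ∧
      ∃ g : 𝟙_ (Over (Spec (CommRingCat.of k))) ⟶ G, g ≫ a.orbitMap y ≠ y := by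
  classical
  haveI : CompactSpace G.left := inferInstance
  haveI : QuasiCompact G.hom := (quasiCompact_iff_compactSpace G.hom).2 inferInstance
  obtain ⟨A, _, _, e, _, _⟩ := exists_spec (k := k) G
  haveI : IsIso e.left := inferInstanceAs (IsIso ((Over.forget _).map e))
  haveI : IsMonHom (CategoryTheory.inv e) := inferInstanceAs (IsMonHom (asIso e).inv)
  haveI : LocallyOfFiniteType (spec (k := k) A).hom := by rw [← Over.w e]; infer_instance
  haveI hft : Algebra.FiniteType k A :=
    RingHom.finiteType_algebraMap.1 ((HasRingHomProperty.Spec_iff (P := @LocallyOfFiniteType)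
      (φ := CommRingCat.ofHom (algebraMap k A))).1 ‹LocallyOfFiniteType (spec (k := k) A).hom›)
  haveI : IsReduced (Spec (CommRingCat.of A)) := by
    haveI : IsReduced G.left := AbSchLib.isReduced_of_smooth G.hom
    haveI hoi : IsOpenImmersion e.left := inferInstanceAs (IsOpenImmersion (asIso e.left).hom)
    exact @isReduced_of_isOpenImmersion _ _ e.left hoi ‹_›
  haveI : _root_.IsReduced A := (affine_isReduced_iff (CommRingCat.of A)).1 inferInstance
  let K₀ : CommAlgCat.{u} k := CommAlgCat.of k k
  have hnT : ¬ IsTrigonalizable k A := fun hT => hns (by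
    haveI : Group.IsSolvable (Pt k A K₀) := S3267.result k A hT
    let f : (GrassLib.pt K₀ ⟶ G) →* Pt k A K₀ :=
      MonoidHom.mk' (fun g => ptOf (g ≫ CategoryTheory.inv e)) fun g h => by
        rw [MonObj.mul_comp, ptOf_mul]
    haveI : Group.IsSolvable (GrassLib.pt K₀ ⟶ G) := solvable_of_solvable_injective (f := f) fun g h hgh => by
      have := (ptSpec (k := k) (A := A) (T := K₀)).symm.injective hgh
      exact (cancel_mono (CategoryTheory.inv e)).1 this
    obtain ⟨n, hn⟩ := (inferInstance : Group.IsSolvable (GrassLib.pt K₀ ⟶ G)).solvable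
    exact ⟨n, ((S5366.result k G k n).1).2 hn⟩)
  unfold IsTrigonalizable at hnT
  push_neg at hnT
  obtain ⟨V, _, _, _, hfin, hs, hne⟩ := hnT
  have := hs.1
  let n := Module.finrank k V
  have hn : 0 < n := Module.finrank_pos
  let b := Module.finBasis k V
  let a : Fin n → Fin n → A := fun s t => HopfLib.cf (A := A) (b.coord s) (b t)
  have ha : IsCorep (k := k) a := isCorep_basis b
  let q := n - 1
  let X := GrOver n q k
  obtain ⟨act, hact⟩ := exists_action (q := q) ha
  obtain ⟨c₀, hc₀, hc₀'⟩ := exists_closedImmersion_GrOver (R := k) (n := n) (q := q) (Nat.sub_le n 1)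
  haveI : IsProper X.hom := RelVALib.IsPnClosed.isProper ⟨_, c₀, hc₀, hc₀'⟩
  haveI : Nonempty X.left := by
    let L : Submodule k (Fin n → k) := Submodule.span k {Pi.single (⟨0, hn⟩ : Fin n) (1 : k)}
    let L' : Submodule k (k ⊗[k] (Fin n → k)) := L.comap (kappa (R := k) k n).toLinearMap
    let eq := Submodule.Quotient.equiv L' L (kappa (R := k) k n)
      (Submodule.map_comap_eq_of_surjective (kappa (R := k) k n).surjective _)
    have hfr : Module.finrank k ((k ⊗[k] (Fin n → k)) ⧸ L') = q := by
      rw [eq.finrank_eq]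
      have h := L.finrank_quotient_add_finrank
      have hne : (Pi.single (⟨0, hn⟩ : Fin n) (1 : k) : Fin n → k) ≠ 0 := by simp
      rw [finrank_span_singleton (K := k) hne, Module.finrank_fin_fun] at h
      omega
    let N : Module.Grassmannian K₀ (K₀ ⊗[k] (Fin n → k)) q :=
      { toSubmodule := L'
        finite_quotient := Module.Finite.equiv eq.symm
        projective_quotient := Module.Projective.of_free
        rankAtStalk_eq := fun p => (congrFun (Module.rankAtStalk_eq_finrank_of_free (R := k)
          (M := (k ⊗[k] (Fin n → k)) ⧸ L')) p).trans hfr }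
    exact ⟨((repFree n q k K₀).symm N).left (IsLocalRing.closedPoint k)⟩
  let a' := restrictAction act (CategoryTheory.inv e)
  obtain ⟨x, hx⟩ := AlgGrpLib.OrbitDim.exists_isClosed_orbit a'
  refine ⟨X, inferInstance, a', x, hx, ?_⟩
  by_contra hall
  push_neg at hall
  let x₀ : GrassLib.pt K₀ ⟶ X := toUnit _ ≫ x
  let N₀ := repFree n q k K₀ x₀
  have hN₀ : Module.finrank k (crd (R := k) N₀) = 1 := by
    haveI : Module.Free k ((k ⊗[k] (Fin n → k)) ⧸ N₀.toSubmodule) := Module.Free.of_divisionRing k _
    haveI : Module.Finite k ((k ⊗[k] (Fin n → k)) ⧸ N₀.toSubmodule) := N₀.finite_quotient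
    have h1 := (congrFun (Module.rankAtStalk_eq_finrank_of_free (R := k)
      (M := (k ⊗[k] (Fin n → k)) ⧸ N₀.toSubmodule)) (IsLocalRing.closedPoint k)).symm.trans
        (N₀.rankAtStalk_eq (IsLocalRing.closedPoint k))
    have h2 := N₀.toSubmodule.finrank_quotient_add_finrank
    have h3 : Module.finrank k (k ⊗[k] (Fin n → k)) = n := by
      rw [(kappa (R := k) k n).finrank_eq, Module.finrank_fin_fun]
    have h4 : Module.finrank k (crd (R := k) N₀) = Module.finrank k N₀.toSubmodule :=
      ((Submodule.equivMapOfInjective _ (kappa (R := k) k n).injective N₀.toSubmodule).finrank_eq).symm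
    rw [h4]
    have h1' : Module.finrank k ((k ⊗[k] (Fin n → k)) ⧸ N₀.toSubmodule) = n - 1 := h1
    have h2' : Module.finrank k ((k ⊗[k] (Fin n → k)) ⧸ N₀.toSubmodule) + Module.finrank k N₀.toSubmodule = n :=
      h2.trans h3
    omega
  obtain ⟨⟨v, hv⟩, hv0, hspan⟩ := finrank_eq_one_iff'.1 hN₀
  have hcrd : crd (R := k) N₀ = Submodule.span k {v} := by
    refine le_antisymm (fun w hw => ?_) (Submodule.span_le.2 (Set.singleton_subset_iff.2 hv))
    obtain ⟨c, hc⟩ := hspan ⟨w, hw⟩
    exact Submodule.mem_span_singleton.2 ⟨c, congrArg Subtype.val hc⟩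
  haveI : IsIso (toUnit (GrassLib.pt K₀)).left := by
    have h : (toUnit (GrassLib.pt K₀)).left = (GrassLib.pt K₀).hom :=
      (Category.comp_id _).symm.trans (Over.w (toUnit (GrassLib.pt K₀)))
    rw [h]
    show IsIso (Spec.map (CommRingCat.ofHom (algebraMap k k)))
    rw [show CommRingCat.ofHom (algebraMap k k) = 𝟙 (CommRingCat.of k) from rfl, Spec.map_id]
    infer_instance
  haveI : IsIso (toUnit (GrassLib.pt K₀)) := (isIso_iff_of_reflects_iso _ (Over.forget _)).1 ‹_›
  have hmove : ∀ w : Pt k A K₀, mat a w *ᵥ v ∈ Submodule.span k {v} := by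
    intro w
    have h0 := congrArg (fun f => toUnit (GrassLib.pt K₀) ≫ f)
      (hall (CategoryTheory.inv (toUnit (GrassLib.pt K₀)) ≫ ptSpec (T := K₀) w ≫ e))
    simp only [IsIso.hom_inv_id_assoc, Category.assoc] at h0
    rw [← Category.assoc, comp_orbitMap] at h0
    change lift _ (toUnit _ ≫ x) ≫ (CategoryTheory.inv e ▷ X) ≫ act.act = _ at h0
    rw [lift_whiskerRight_assoc, Category.assoc, IsIso.hom_inv_id, Category.comp_id] at h0
    have h1 := congrArg crd (congrArg (repFree n q k K₀) h0)
    rw [hact, crd_move, ptOf_ptSpec] at h1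
    change (crd N₀).map _ = crd N₀ at h1
    rw [show crd N₀ = Submodule.span k {v} from hcrd] at h1
    rw [← h1]
    exact Submodule.mem_map_of_mem (Submodule.mem_span_singleton_self v)
  let F : Fin n → A := fun l => ∑ t, a l t * algebraMap k A (v t)
  have hv' : v ≠ 0 := fun h => hv0 (Subtype.ext h)
  obtain ⟨i, hi⟩ : ∃ i, v i ≠ 0 := Function.ne_iff.1 hv'
  let χ : A := algebraMap k A (v i)⁻¹ * F i
  have hχ : ∀ l, F l = χ * algebraMap k A (v l) := fun l => by
    refine sub_eq_zero.1 (eq_zero_of_forall_point (k := k) _ fun w => ?_)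
    obtain ⟨c, hc⟩ := Submodule.mem_span_singleton.1 (hmove (WithConv.toConv w))
    have hF : ∀ j, w (F j) = c * v j := fun j => by
      have := congrFun hc j
      rw [Pi.smul_apply, smul_eq_mul] at this
      rw [this]
      simp [F, mat, Matrix.mulVec, dotProduct]
    simp only [map_sub, map_mul, χ, hF, AlgHom.commutes, Algebra.algebraMap_self, RingHom.id_apply]
    field_simp
    ring
  let w : V := ∑ l, v l • b l
  have hw : w ≠ 0 := fun h0 => hv' (funext fun l => by
    have := congrArg (fun z => b.repr z l) h0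
    simpa [w, Finsupp.single_apply] using this)
  have hcoact : Comod.coact (k := k) (A := A) w = w ⊗ₜ χ := by
    have hb : ∀ t, Comod.coact (k := k) (A := A) (b t) = ∑ l, b l ⊗ₜ[k] a l t := by
      intro t
      simp only [a, HopfLib.cf_apply]
      generalize Comod.coact (k := k) (A := A) (b t) = z
      induction z using TensorProduct.induction_on with
      | zero => simp
      | add p r hp hr => simp only [map_add, TensorProduct.tmul_add, Finset.sum_add_distrib, ← hp, ← hr]
      | tmul p y =>
        simp only [HopfLib.sliceL_tmul, TensorProduct.tmul_smul]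
        conv_lhs => rw [← b.sum_repr p]
        rw [TensorProduct.sum_tmul]
        simp [TensorProduct.smul_tmul']
    simp only [w, map_sum, map_smul, hb, Finset.smul_sum, TensorProduct.sum_tmul]
    rw [Finset.sum_comm]
    refine Finset.sum_congr rfl fun l _ => ?_
    rw [← TensorProduct.smul_tmul', ← TensorProduct.tmul_smul, Algebra.smul_def, mul_comm, ← hχ, TensorProduct.tmul_sum]
    refine Finset.sum_congr rfl fun t _ => ?_
    rw [mul_comm, ← Algebra.smul_def, TensorProduct.tmul_smul]
  have hsub : IsSubcomod (k := k) (A := A) (Submodule.span k {w}) := by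
    intro y hy
    obtain ⟨c, rfl⟩ := Submodule.mem_span_singleton.1 hy
    refine ⟨c • ((⟨w, Submodule.mem_span_singleton_self w⟩ : Submodule.span k {w}) ⊗ₜ χ), ?_⟩
    rw [map_smul, map_smul, LinearMap.rTensor_tmul, hcoact]
    rfl
  rcases hs.2 _ hsub with h0 | h0
  · exact absurd ((Submodule.span_singleton_eq_bot).1 h0) hw
  · exact hne (by rw [← finrank_top k V, ← h0, finrank_span_singleton hw])

end Groth.Agent.AGFQuot23
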