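import Mathlib.RingTheory.Localization.BaseChange
import Mathlib.RingTheory.Invariant.Basic
import Mathlib.RingTheory.TensorProduct.Maps
import Mathlib.Algebra.Module.LocalizedModule.Basic
import Mathlib.GroupTheory.Coset.Basic

/-! Invariants of finite groups commuting with tensor products: a local criterion by transfer. -/

universe u

set_option autoImplicit false
set_option linter.all false
set_option maxHeartbeats 800000

open scoped TensorProduct Pointwise

noncomputable section

namespace Groth.Agent.AGFQuot23.InvBC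

section

variable (R : Type u) [CommRing R] (G : Type*) [Group G] (C : Type u) [CommRing C] [Algebra R C]
  [MulSemiringAction G C] [SMulCommClass G R C]

/-- The invariants. -/
abbrev Fx : Subalgebra R C := FixedPoints.subalgebra R C G

variable {G}

/-- The action of an element. -/
abbrev act (g : G) : C →ₗ[R] C := DistribMulAction.toLinearMap R C g

@[simp] theorem act_apply (g : G) (c : C) : act R C g c = g • c := rfl

variable (G)

/-- Invariants commute with tensor products. -/
def Good : Prop :=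
  ∀ (N : Type u) [AddCommGroup N] [Module R N],
    Function.Injective ((Fx R G C).val.toLinearMap.lTensor N) ∧
      ∀ z : N ⊗[R] C, (∀ g : G, (act R C g).lTensor N z = z) → ∃ w, (Fx R G C).val.toLinearMap.lTensor N w = z

/-- Invariants commute with tensor products near the locus where `h` is invertible. -/
def Loc (h : C) (hh : h ∈ Fx R G C) : Prop :=
  ∀ (N : Type u) [AddCommGroup N] [Module R N],
    (∀ z : N ⊗[R] Fx R G C, (Fx R G C).val.toLinearMap.lTensor N z = 0 →
      ∃ m : ℕ, (LinearMap.mulLeft R ((⟨h, hh⟩ : Fx R G C) ^ m)).lTensor N z = 0) ∧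
    ∀ z : N ⊗[R] C, (∀ g : G, (act R C g).lTensor N z = z) →
      ∃ (m : ℕ) (w : N ⊗[R] Fx R G C), (Fx R G C).val.toLinearMap.lTensor N w = (LinearMap.mulLeft R (h ^ m)).lTensor N z

variable {R C}

theorem good_of_isUnit_card [Finite G] (h : IsUnit ((Nat.card G : ℕ) : R)) : Good R G C := by
  classical
  haveI := Fintype.ofFinite G
  intro N _ _
  obtain ⟨u, hu⟩ := h.exists_left_inv
  let S : C →ₗ[R] C := u • ∑ g : G, act R C g
  have hS : ∀ c, S c ∈ Fx R G C := fun c g => by
    simp only [S, LinearMap.smul_apply, LinearMap.sum_apply, act_apply]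
    rw [smul_comm g u, Finset.smul_sum]
    congr 1
    exact Fintype.sum_equiv (Equiv.mulLeft g) _ _ fun x => by simp [mul_smul]
  let ρ : C →ₗ[R] Fx R G C := S.codRestrict (Fx R G C).toSubmodule hS
  have hρ : ρ ∘ₗ (Fx R G C).val.toLinearMap = LinearMap.id := LinearMap.ext fun x => Subtype.ext (by
    show u • (∑ g : G, act R C g) x.1 = x.1
    rw [LinearMap.sum_apply]
    have hx : ∀ g : G, g • x.1 = x.1 := x.2
    simp only [act_apply, hx, Finset.sum_const, Finset.card_univ]
    rw [← Nat.cast_smul_eq_nsmul R, smul_smul, ← Nat.card_eq_fintype_card, hu, one_smul])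
  refine ⟨fun a b hab => ?_, fun z hz => ⟨ρ.lTensor N z, ?_⟩⟩
  · have := congrArg (ρ.lTensor N) hab
    rwa [← LinearMap.comp_apply, ← LinearMap.comp_apply, ← LinearMap.lTensor_comp, hρ, LinearMap.lTensor_id] at this
  · rw [← LinearMap.comp_apply, ← LinearMap.lTensor_comp,
      show (Fx R G C).val.toLinearMap ∘ₗ ρ = u • ∑ g : G, act R C g from LinearMap.ext fun c => rfl,
      LinearMap.lTensor_smul, LinearMap.smul_apply,
      show (∑ g : G, act R C g).lTensor N = ∑ g : G, (act R C g).lTensor N from map_sum (LinearMap.lTensorHom N) _ _,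
      LinearMap.sum_apply]
    simp only [hz, Finset.sum_const, Finset.card_univ]
    rw [← Nat.cast_smul_eq_nsmul R, smul_smul, ← Nat.card_eq_fintype_card, hu, one_smul]

theorem good_of_retract {C' : Type u} [CommRing C'] [Algebra R C'] [MulSemiringAction G C'] [SMulCommClass G R C']
    (p : C' →ₐ[R] C) (hp : Function.Surjective p) (hpe : ∀ (g : G) x, p (g • x) = g • p x) (ε : C')
    (hε : ∀ g : G, g • ε = ε) (hε1 : p ε = 1) (hker : ∀ a, p a = 0 → ε * a = 0) (h : Good R G C') : Good R G C := by
  choose l hl using hp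
  have key : ∀ a b, p a = p b → ε * a = ε * b := fun a b hab => by
    rw [← sub_eq_zero, ← mul_sub]
    exact hker _ (by rw [map_sub, hab, sub_self])
  let s : C →ₗ[R] C' :=
    { toFun := fun x => ε * l x
      map_add' := fun x y => by
        show ε * l (x + y) = ε * l x + ε * l y
        rw [← mul_add]; exact key _ _ (by rw [hl, map_add, hl, hl])
      map_smul' := fun r x => by
        show ε * l (r • x) = r • (ε * l x)
        rw [← mul_smul_comm]; exact key _ _ (by rw [hl, map_smul, hl]) }
  have hps : ∀ x, p (s x) = x := fun x => by show p (ε * l x) = x; rw [map_mul, hε1, one_mul, hl]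
  have hse : ∀ (g : G) x, s (g • x) = g • s x := fun g x => by
    show ε * l (g • x) = g • (ε * l x)
    rw [smul_mul', hε]; exact key _ _ (by rw [hl, hpe, hl])
  let sF : Fx R G C →ₗ[R] Fx R G C' := (s ∘ₗ (Fx R G C).val.toLinearMap).codRestrict (Fx R G C').toSubmodule
    fun x g => by show g • s x.1 = s x.1; rw [← hse, x.2 g]
  let pF : Fx R G C' →ₗ[R] Fx R G C := (p.toLinearMap ∘ₗ (Fx R G C').val.toLinearMap).codRestrict (Fx R G C).toSubmodule
    fun x g => by show g • p x.1 = p x.1; rw [← hpe, x.2 g]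
  intro N _ _
  obtain ⟨hi, hs⟩ := h N
  refine ⟨(injective_iff_map_eq_zero _).2 fun z hz => ?_, fun z hz => ?_⟩
  · have h1 : sF.lTensor N z = 0 := hi (by
      rw [map_zero, ← LinearMap.comp_apply, ← LinearMap.lTensor_comp,
        show (Fx R G C').val.toLinearMap ∘ₗ sF = s ∘ₗ (Fx R G C).val.toLinearMap from LinearMap.ext fun _ => rfl,
        LinearMap.lTensor_comp, LinearMap.comp_apply, hz, map_zero])
    have h2 := congrArg (pF.lTensor N) h1
    rwa [map_zero, ← LinearMap.comp_apply, ← LinearMap.lTensor_comp,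
      show pF ∘ₗ sF = LinearMap.id from LinearMap.ext fun x => Subtype.ext (hps x.1), LinearMap.lTensor_id] at h2
  · obtain ⟨w, hw⟩ := hs (s.lTensor N z) fun g => by
      rw [← LinearMap.comp_apply, ← LinearMap.lTensor_comp,
        show act R C' g ∘ₗ s = s ∘ₗ act R C g from LinearMap.ext fun x => (hse g x).symm,
        LinearMap.lTensor_comp, LinearMap.comp_apply, hz]
    refine ⟨pF.lTensor N w, ?_⟩
    rw [← LinearMap.comp_apply, ← LinearMap.lTensor_comp,
      show (Fx R G C).val.toLinearMap ∘ₗ pF = p.toLinearMap ∘ₗ (Fx R G C').val.toLinearMap from LinearMap.ext fun _ => rfl,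
      LinearMap.lTensor_comp, LinearMap.comp_apply, hw, ← LinearMap.comp_apply, ← LinearMap.lTensor_comp,
      show p.toLinearMap ∘ₗ s = LinearMap.id from LinearMap.ext hps, LinearMap.lTensor_id, LinearMap.id_apply]

end

section Localization

variable {R : Type u} [CommRing R] {C L : Type u} [CommRing C] [Algebra R C] [CommRing L] [Algebra R L]
  (φ : C →ₐ[R] L) (h : C)

theorem mul_comp (c : C) : φ.toLinearMap ∘ₗ LinearMap.mulLeft R c = LinearMap.mulLeft R (φ c) ∘ₗ φ.toLinearMap :=
  LinearMap.ext fun x => map_mul φ c x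

theorem exists_torsion (hloc : letI := φ.toRingHom.toAlgebra; IsLocalization.Away h L) {N : Type u} [AddCommGroup N]
    [Module R N] (z : N ⊗[R] C) (hz : φ.toLinearMap.lTensor N z = 0) :
    ∃ m : ℕ, (LinearMap.mulLeft R (h ^ m)).lTensor N z = 0 := by
  letI := φ.toRingHom.toAlgebra
  haveI : IsScalarTower R C L := IsScalarTower.of_algebraMap_eq fun r => (φ.commutes r).symm
  haveI := hloc
  let e := TensorProduct.AlgebraTensorModule.cancelBaseChange R C C L N
  have hmk : ∀ x : C ⊗[R] N, e (TensorProduct.mk C L (C ⊗[R] N) 1 x) = φ.toLinearMap.rTensor N x := fun x => by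
    induction x using TensorProduct.induction_on with
    | zero => simp
    | tmul c n =>
      show (c • (1 : L)) ⊗ₜ[R] n = φ c ⊗ₜ[R] n
      rw [Algebra.smul_def, mul_one]
      rfl
    | add a b ha hb => simp only [map_add, ha, hb]
  let z' := TensorProduct.comm R N C z
  have hcomm : ∀ {P : Type u} [AddCommGroup P] [Module R P] (f : C →ₗ[R] P),
      TensorProduct.comm R N P (f.lTensor N z) = f.rTensor N z' := fun f =>
    (LinearMap.congr_fun (TensorProduct.ext' fun n c => rfl :
      (TensorProduct.comm R N _).toLinearMap ∘ₗ f.lTensor N = f.rTensor N ∘ₗ (TensorProduct.comm R N C).toLinearMap) z)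
  have h0 : TensorProduct.mk C L (C ⊗[R] N) 1 z' = 0 := e.injective (by rw [hmk, ← hcomm, hz, map_zero, map_zero])
  obtain ⟨⟨s, m, rfl⟩, hs⟩ := (IsLocalizedModule.eq_zero_iff (Submonoid.powers h) (TensorProduct.mk C L (C ⊗[R] N) 1)).1 h0
  refine ⟨m, (TensorProduct.comm R N C).injective ?_⟩
  rw [hcomm, map_zero, ← hs]
  show _ = h ^ m • z'
  clear_value z'
  clear hcomm h0 hs
  induction z' using TensorProduct.induction_on with
  | zero => simp
  | tmul c n => rfl
  | add a b ha hb => rw [map_add, smul_add, ha, hb]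

theorem exists_num (hloc : letI := φ.toRingHom.toAlgebra; IsLocalization.Away h L) {N : Type u} [AddCommGroup N]
    [Module R N] (z : N ⊗[R] L) :
    ∃ (m : ℕ) (w : N ⊗[R] C), φ.toLinearMap.lTensor N w = (LinearMap.mulLeft R (φ h ^ m)).lTensor N z := by
  letI := φ.toRingHom.toAlgebra
  haveI := hloc
  induction z using TensorProduct.induction_on with
  | zero => exact ⟨0, 0, by simp⟩
  | tmul n x =>
    obtain ⟨⟨c, ⟨_, m, rfl⟩⟩, hx⟩ := IsLocalization.surj (Submonoid.powers h) x
    refine ⟨m, n ⊗ₜ c, ?_⟩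
    rw [LinearMap.lTensor_tmul, LinearMap.lTensor_tmul]
    congr 1
    show φ c = φ h ^ m * x
    rw [mul_comm, ← map_pow]
    exact hx.symm
  | add a b ha hb =>
    obtain ⟨i, wa, hwa⟩ := ha
    obtain ⟨j, wb, hwb⟩ := hb
    refine ⟨i + j, (LinearMap.mulLeft R (h ^ j)).lTensor N wa + (LinearMap.mulLeft R (h ^ i)).lTensor N wb, ?_⟩
    rw [map_add, map_add, ← LinearMap.comp_apply, ← LinearMap.lTensor_comp, mul_comp, LinearMap.lTensor_comp,
      LinearMap.comp_apply, hwa, ← LinearMap.comp_apply, ← LinearMap.lTensor_comp, ← LinearMap.mulLeft_mul,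
      ← LinearMap.comp_apply (LinearMap.lTensor N φ.toLinearMap), ← LinearMap.lTensor_comp, mul_comp,
      LinearMap.lTensor_comp, LinearMap.comp_apply, hwb, ← LinearMap.comp_apply, ← LinearMap.lTensor_comp,
      ← LinearMap.mulLeft_mul, map_pow, map_pow, ← pow_add, ← pow_add, add_comm j i]

variable {G : Type*} [Group G] [Finite G] [MulSemiringAction G C] [SMulCommClass G R C] [MulSemiringAction G L]
  [SMulCommClass G R L] (hφ : ∀ (g : G) c, φ (g • c) = g • φ c)

/-- The map of invariants. -/
abbrev fxMap : Fx R G C →ₐ[R] Fx R G L :=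
  (φ.comp (Fx R G C).val).codRestrict _ fun x g => by
    show g • φ x.1 = φ x.1
    rw [← hφ, x.2 g]

theorem fxMap_isLocalization (hloc : letI := φ.toRingHom.toAlgebra; IsLocalization.Away h L) (hh : h ∈ Fx R G C) :
    letI := (fxMap φ hφ).toRingHom.toAlgebra; IsLocalization.Away (⟨h, hh⟩ : Fx R G C) (Fx R G L) := by
  letI := (fxMap φ hφ).toRingHom.toAlgebra
  letI := φ.toRingHom.toAlgebra
  haveI := hloc
  classical
  haveI := Fintype.ofFinite G
  refine (isLocalization_iff _ _).2 ⟨?_, ?_, ?_⟩
  · rintro ⟨_, m, rfl⟩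
    obtain ⟨v, hv⟩ := (IsLocalization.map_units L (⟨h ^ m, m, rfl⟩ : Submonoid.powers h)).exists_right_inv
    change φ (h ^ m) * v = 1 at hv
    have hvF : v ∈ Fx R G L := fun g => by
      have h1 : φ (h ^ m) * g • v = 1 := by
        have := congrArg (g • ·) hv
        simp only [smul_mul', smul_one] at this
        rwa [← hφ, (pow_mem hh m : h ^ m ∈ Fx R G C) g] at this
      calc g • v = g • v * (φ (h ^ m) * v) := by rw [hv, mul_one]
        _ = (φ (h ^ m) * g • v) * v := by ring
        _ = v := by rw [h1, one_mul]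
    exact IsUnit.of_mul_eq_one (⟨v, hvF⟩ : Fx R G L) (Subtype.ext hv)
  · intro x
    obtain ⟨⟨c, ⟨_, m, rfl⟩⟩, hx⟩ := IsLocalization.surj (Submonoid.powers h) x.1
    change x.1 * φ (h ^ m) = φ c at hx
    have hfix : ∀ g : G, φ (g • c) = φ c := fun g => by
      rw [hφ, ← hx, smul_mul', x.2 g, ← hφ, (pow_mem hh m : h ^ m ∈ Fx R G C) g]
    choose s hs using fun g => (IsLocalization.eq_iff_exists (Submonoid.powers h) L).1 (hfix g)
    choose j hj using fun g => (s g).2
    let J := ∑ g : G, j g
    have hJ : ∀ g : G, g • (h ^ J * c) = h ^ J * c := fun g => by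
      rw [smul_mul', (pow_mem hh J : h ^ J ∈ Fx R G C) g]
      obtain ⟨r, hr⟩ := Nat.exists_eq_add_of_le (Finset.single_le_sum (fun _ _ => Nat.zero_le _) (Finset.mem_univ g) : j g ≤ J)
      have hJ' : J = j g + r := hr
      rw [hJ', pow_add, mul_comm (h ^ j g), mul_assoc, mul_assoc]
      congr 1
      have := hs g
      rwa [← hj g] at this
    refine ⟨(⟨h ^ J * c, hJ⟩, ⟨⟨h, hh⟩ ^ (J + m), J + m, rfl⟩), Subtype.ext ?_⟩
    show x.1 * φ (((⟨h, hh⟩ : Fx R G C) ^ (J + m) : Fx R G C) : C) = φ (h ^ J * c)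
    rw [SubmonoidClass.coe_pow, pow_add, map_mul, map_mul, mul_left_comm, hx]
  · intro a b hab
    obtain ⟨⟨_, m, rfl⟩, hm⟩ := (IsLocalization.eq_iff_exists (Submonoid.powers h) L).1 (congrArg Subtype.val hab :)
    exact ⟨⟨⟨h, hh⟩ ^ m, m, rfl⟩, Subtype.ext (by simpa using hm)⟩

include hφ in
theorem act_comp (g : G) : φ.toLinearMap ∘ₗ act R C g = act R L g ∘ₗ φ.toLinearMap := LinearMap.ext (hφ g)

theorem act_comp_mul (g : G) (c : C) : act R C g ∘ₗ LinearMap.mulLeft R c = LinearMap.mulLeft R (g • c) ∘ₗ act R C g :=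
  LinearMap.ext fun x => smul_mul' g c x

theorem val_comp : φ.toLinearMap ∘ₗ (Fx R G C).val.toLinearMap =
    (Fx R G L).val.toLinearMap ∘ₗ (fxMap φ hφ).toLinearMap := rfl

theorem val_mul (c : Fx R G C) :
    (Fx R G C).val.toLinearMap ∘ₗ LinearMap.mulLeft R c = LinearMap.mulLeft R c.1 ∘ₗ (Fx R G C).val.toLinearMap := rfl

include hφ in
theorem good_of_localization (hloc : letI := φ.toRingHom.toAlgebra; IsLocalization.Away h L) (hh : h ∈ Fx R G C)
    (hC : Good R G C) : Good R G L := by
  classical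
  haveI := Fintype.ofFinite G
  have hF := fxMap_isLocalization φ h hφ hloc hh
  intro N _ _
  obtain ⟨hi, hs⟩ := hC N
  have hunit : ∀ m : ℕ, IsUnit (fxMap φ hφ ((⟨h, hh⟩ : Fx R G C) ^ m)) := fun m => by
    letI := (fxMap φ hφ).toRingHom.toAlgebra
    haveI := hF
    exact IsLocalization.map_units (Fx R G L) (⟨_, m, rfl⟩ : Submonoid.powers (⟨h, hh⟩ : Fx R G C))
  refine ⟨(injective_iff_map_eq_zero _).2 fun z hz => ?_, fun z hz => ?_⟩
  · obtain ⟨m, w, hw⟩ := exists_num (fxMap φ hφ) ⟨h, hh⟩ hF z
    have h1 : φ.toLinearMap.lTensor N ((Fx R G C).val.toLinearMap.lTensor N w) = 0 := by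
      rw [← LinearMap.comp_apply, ← LinearMap.lTensor_comp, val_comp φ hφ, LinearMap.lTensor_comp,
        LinearMap.comp_apply, hw, ← LinearMap.comp_apply, ← LinearMap.lTensor_comp, val_mul, LinearMap.lTensor_comp,
        LinearMap.comp_apply, hz, map_zero]
    obtain ⟨j, hj⟩ := exists_torsion φ h hloc _ h1
    have h2 : (LinearMap.mulLeft R ((⟨h, hh⟩ : Fx R G C) ^ j)).lTensor N w = 0 := hi (by
      rw [map_zero, ← LinearMap.comp_apply, ← LinearMap.lTensor_comp, val_mul, LinearMap.lTensor_comp,
        LinearMap.comp_apply, SubmonoidClass.coe_pow]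
      exact hj)
    have h3 := congrArg ((fxMap φ hφ).toLinearMap.lTensor N) h2
    rw [map_zero, ← LinearMap.comp_apply, ← LinearMap.lTensor_comp, mul_comp, LinearMap.lTensor_comp,
      LinearMap.comp_apply, hw, ← LinearMap.comp_apply, ← LinearMap.lTensor_comp, ← LinearMap.mulLeft_mul] at h3
    obtain ⟨v, hv⟩ := ((hunit j).mul (by rw [← map_pow]; exact hunit m : IsUnit (fxMap φ hφ ⟨h, hh⟩ ^ m))).exists_left_inv
    have h4 := congrArg ((LinearMap.mulLeft R v).lTensor N) h3
    rwa [map_zero, ← LinearMap.comp_apply, ← LinearMap.lTensor_comp, ← LinearMap.mulLeft_mul, hv,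
      LinearMap.mulLeft_one, LinearMap.lTensor_id, LinearMap.id_apply] at h4
  · obtain ⟨m, w, hw⟩ := exists_num φ h hloc z
    have hker : ∀ g : G, φ.toLinearMap.lTensor N ((act R C g).lTensor N w - w) = 0 := fun g => by
      rw [map_sub, sub_eq_zero, ← LinearMap.comp_apply, ← LinearMap.lTensor_comp, act_comp φ hφ,
        LinearMap.lTensor_comp, LinearMap.comp_apply, hw, ← LinearMap.comp_apply, ← LinearMap.lTensor_comp,
        act_comp_mul, LinearMap.lTensor_comp, LinearMap.comp_apply, hz, smul_pow', ← hφ, hh g]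
    choose j hj using fun g => exists_torsion φ h hloc _ (hker g)
    let J := ∑ g : G, j g
    obtain ⟨v, hv⟩ := hs ((LinearMap.mulLeft R (h ^ J)).lTensor N w) fun g => by
      obtain ⟨r, hr⟩ := Nat.exists_eq_add_of_le (Finset.single_le_sum (fun _ _ => Nat.zero_le _) (Finset.mem_univ g) : j g ≤ J)
      have hJ' : J = r + j g := hr.trans (add_comm _ _)
      rw [← LinearMap.comp_apply, ← LinearMap.lTensor_comp, act_comp_mul, (pow_mem hh J : h ^ J ∈ Fx R G C) g,
        LinearMap.lTensor_comp, LinearMap.comp_apply, ← sub_eq_zero, ← map_sub, hJ', pow_add,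
        LinearMap.mulLeft_mul, LinearMap.lTensor_comp, LinearMap.comp_apply, hj g, map_zero]
    obtain ⟨u, hu⟩ := ((hunit J).mul (hunit m)).exists_left_inv
    refine ⟨(LinearMap.mulLeft R u).lTensor N ((fxMap φ hφ).toLinearMap.lTensor N v), ?_⟩
    rw [← LinearMap.comp_apply, ← LinearMap.lTensor_comp, val_mul, LinearMap.lTensor_comp, LinearMap.comp_apply,
      ← LinearMap.comp_apply (LinearMap.lTensor N (Fx R G L).val.toLinearMap), ← LinearMap.lTensor_comp,
      ← val_comp φ hφ, LinearMap.lTensor_comp, LinearMap.comp_apply, hv,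
      ← LinearMap.comp_apply (LinearMap.lTensor N φ.toLinearMap), ← LinearMap.lTensor_comp, mul_comp,
      LinearMap.lTensor_comp, LinearMap.comp_apply, hw, ← LinearMap.comp_apply, ← LinearMap.lTensor_comp,
      ← LinearMap.mulLeft_mul, ← LinearMap.comp_apply, ← LinearMap.lTensor_comp, ← LinearMap.mulLeft_mul]
    have : u.1 * (φ (h ^ J)) * φ h ^ m = 1 := by
      have := congrArg Subtype.val hu
      simpa [mul_assoc] using this
    rw [this, LinearMap.mulLeft_one, LinearMap.lTensor_id, LinearMap.id_apply]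

include hφ in
theorem loc_of_good (hloc : letI := φ.toRingHom.toAlgebra; IsLocalization.Away h L) (hh : h ∈ Fx R G C)
    (hL : Good R G L) : Loc R G C h hh := by
  have hF := fxMap_isLocalization φ h hφ hloc hh
  intro N _ _
  obtain ⟨hi, hs⟩ := hL N
  refine ⟨fun z hz => exists_torsion (fxMap φ hφ) ⟨h, hh⟩ hF z (hi ?_), fun z hz => ?_⟩
  · rw [map_zero, ← LinearMap.comp_apply, ← LinearMap.lTensor_comp, ← val_comp φ hφ, LinearMap.lTensor_comp,
      LinearMap.comp_apply, hz, map_zero]
  · obtain ⟨w, hw⟩ := hs (φ.toLinearMap.lTensor N z) fun g => by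
      rw [← LinearMap.comp_apply, ← LinearMap.lTensor_comp, ← act_comp φ hφ, LinearMap.lTensor_comp,
        LinearMap.comp_apply, hz]
    obtain ⟨m, v, hv⟩ := exists_num (fxMap φ hφ) ⟨h, hh⟩ hF w
    have h1 : φ.toLinearMap.lTensor N ((Fx R G C).val.toLinearMap.lTensor N v -
        (LinearMap.mulLeft R (h ^ m)).lTensor N z) = 0 := by
      rw [map_sub, sub_eq_zero, ← LinearMap.comp_apply, ← LinearMap.lTensor_comp, val_comp φ hφ,
        LinearMap.lTensor_comp, LinearMap.comp_apply, hv, ← LinearMap.comp_apply, ← LinearMap.lTensor_comp, val_mul,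
        LinearMap.lTensor_comp, LinearMap.comp_apply, hw, ← LinearMap.comp_apply (φ.toLinearMap.lTensor N),
        ← LinearMap.lTensor_comp, mul_comp, LinearMap.lTensor_comp, LinearMap.comp_apply]
      simp
    obtain ⟨j, hj⟩ := exists_torsion φ h hloc _ h1
    refine ⟨j + m, (LinearMap.mulLeft R ((⟨h, hh⟩ : Fx R G C) ^ j)).lTensor N v, ?_⟩
    rw [map_sub, sub_eq_zero] at hj
    rw [← LinearMap.comp_apply, ← LinearMap.lTensor_comp, val_mul, LinearMap.lTensor_comp, LinearMap.comp_apply,
      SubmonoidClass.coe_pow, hj, ← LinearMap.comp_apply, ← LinearMap.lTensor_comp, ← LinearMap.mulLeft_mul, ← pow_add]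

end Localization

section Transfer

variable {R : Type u} [CommRing R] {C : Type u} [CommRing C] [Algebra R C] {G : Type*} [Group G] [Finite G]
  [MulSemiringAction G C] [SMulCommClass G R C]

/-- Invariants commute with tensor products if they do so near each maximal ideal for its stabilizer. -/
theorem good_of_local (H : ∀ m : Ideal C, m.IsMaximal →
    ∃ (h : C) (hh : h ∈ Fx R (MulAction.stabilizer G m) C), h ∉ m ∧ Loc R (MulAction.stabilizer G m) C h hh) :
    Good R G C := by
  classical
  haveI : Algebra.IsInvariant (Fx R G C) C G := ⟨fun b hb => ⟨⟨b, hb⟩, rfl⟩⟩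
  haveI : Algebra.IsIntegral (Fx R G C) C := Algebra.IsInvariant.isIntegral (Fx R G C) C G
  intro N _ _
  have main : ∀ p : Ideal (Fx R G C), p.IsMaximal →
      (∀ z : N ⊗[R] Fx R G C, (Fx R G C).val.toLinearMap.lTensor N z = 0 →
        ∃ b, b ∉ p ∧ (LinearMap.mulLeft R b).lTensor N z = 0) ∧
      ∀ z : N ⊗[R] C, (∀ g : G, (act R C g).lTensor N z = z) →
        ∃ b, b ∉ p ∧ (LinearMap.mulLeft R (b : C)).lTensor N z ∈
          LinearMap.range ((Fx R G C).val.toLinearMap.lTensor N) := by
    intro p hp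
    obtain ⟨m, -, hm, hmp⟩ := Ideal.exists_ideal_over_prime_of_isIntegral p (⊥ : Ideal C) (by
      intro x hx
      have : x = 0 := Subtype.ext (Ideal.mem_comap.1 hx)
      rw [this]; exact p.zero_mem)
    haveI : m.IsMaximal := Ideal.isMaximal_of_isIntegral_of_isMaximal_comap m (by rwa [hmp])
    obtain ⟨h, hh, hhm, hloc⟩ := H m inferInstance
    set D := MulAction.stabilizer G m
    haveI := Fintype.ofFinite (G ⧸ D)
    haveI := Fintype.ofFinite D
    have hsep : ∀ g : G, g ∉ D → ∃ a, a ∈ g • m ∧ a ∉ m := fun g hg => by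
      by_contra hc
      push Not at hc
      haveI : (g • m).IsMaximal := by
        rw [Ideal.pointwise_smul_eq_comap]
        exact Ideal.comap_isMaximal_of_surjective _ (MulSemiringAction.toRingEquiv G C g⁻¹).surjective
      exact hg (MulAction.mem_stabilizer_iff.2 (Ideal.IsMaximal.eq_of_le inferInstance
        (Ideal.IsMaximal.ne_top inferInstance) hc))
    choose a ha ham using hsep
    haveI := Fintype.ofFinite G
    let e₀ : C := ∏ g : G, if hg : g ∈ D then 1 else a g hg
    have he₀ : e₀ ∉ m := fun hc => by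
      obtain ⟨g, -, hg⟩ := Ideal.IsPrime.prod_mem_iff.1 hc
      split_ifs at hg with hgD
      · exact Ideal.IsPrime.ne_top inferInstance ((Ideal.eq_top_iff_one _).2 hg)
      · exact ham g hgD hg
    let e : C := ∏ τ : D, τ • e₀
    have heF : e ∈ Fx R D C := fun τ => by
      show τ • e = e
      rw [Finset.smul_prod']
      exact Fintype.prod_equiv (Equiv.mulLeft τ) _ _ fun x => by simp [mul_smul]
    have hem : e ∉ m := fun hc => by
      obtain ⟨τ, -, hτ⟩ := Ideal.IsPrime.prod_mem_iff.1 hc
      have h1 : τ.1 • e₀ ∈ τ.1 • m := by rw [MulAction.mem_stabilizer_iff.1 τ.2]; exact hτ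
      exact he₀ (Ideal.smul_mem_pointwise_smul_iff.1 h1)
    have heg : ∀ g : G, g ∉ D → e ∈ g • m := fun g hg => by
      refine Ideal.mem_of_dvd _ ?_ (ha g hg)
      refine dvd_trans ?_ (Finset.dvd_prod_of_mem (fun τ : D => τ • e₀) (Finset.mem_univ 1))
      show a g hg ∣ (1 : D) • e₀
      rw [one_smul]
      refine (dvd_of_eq ?_).trans (Finset.dvd_prod_of_mem (fun g => if hg : g ∈ D then 1 else a g hg) (Finset.mem_univ g))
      rw [dif_neg hg]
    -- the transfer
    let T : C →ₗ[R] C := ∑ q : G ⧸ D, act R C q.out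
    have hT : ∀ x ∈ Fx R D C, T x ∈ Fx R G C := fun x hx g => by
      simp only [T, LinearMap.sum_apply, act_apply, Finset.smul_sum]
      refine Fintype.sum_equiv (MulAction.toPerm g) _ _ fun q => ?_
      show g • q.out • x = (g • q).out • x
      obtain ⟨d, hd⟩ := QuotientGroup.mk_out_eq_mul D (g * q.out)
      have : g • q = QuotientGroup.mk (g * q.out) := by
        conv_lhs => rw [← QuotientGroup.out_eq' q]
        rfl
      rw [this, hd, mul_smul, show (d : G) • x = x from hx d, mul_smul]
    let TD : Fx R D C →ₗ[R] Fx R G C :=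
      (T ∘ₗ (Fx R D C).val.toLinearMap).codRestrict (Fx R G C).toSubmodule fun x => hT _ x.2
    let incl : Fx R G C →ₗ[R] Fx R D C :=
      (Fx R G C).val.toLinearMap.codRestrict (Fx R D C).toSubmodule fun x τ => x.2 τ.1
    let eh : ℕ → Fx R D C := fun j => ⟨e, heF⟩ * ⟨h, hh⟩ ^ j
    have hout : ∀ j, TD (eh j) ∉ p := fun j hc => by
      rw [← hmp, Ideal.mem_comap] at hc
      change T (e * h ^ j) ∈ m at hc
      have hone : ((1 : G) : G ⧸ D).out • (e * h ^ j) ∉ m := by
        obtain ⟨d, hd⟩ := QuotientGroup.mk_out_eq_mul D (1 : G)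
        rw [hd, one_mul, show (d : G) • (e * h ^ j) = e * h ^ j from (mul_mem heF (pow_mem hh j) : e * h ^ j ∈ Fx R D C) d]
        exact fun h1 => ((Ideal.IsPrime.mem_or_mem inferInstance h1).elim hem
          fun h2 => hhm (Ideal.IsPrime.mem_of_pow_mem inferInstance j h2))
      refine hone ?_
      simp only [T, LinearMap.sum_apply, act_apply] at hc
      rw [← Finset.add_sum_erase _ _ (Finset.mem_univ ((1 : G) : G ⧸ D))] at hc
      refine (Submodule.add_mem_iff_left m (Submodule.sum_mem m fun q hq => ?_)).1 hc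
      have hq' : q.out⁻¹ ∉ D := fun h1 => (Finset.mem_erase.1 hq).1 (by
        rw [← QuotientGroup.out_eq' q]
        exact QuotientGroup.eq.2 (by simpa using h1))
      have h1 : e * h ^ j ∈ q.out⁻¹ • m := Ideal.mul_mem_right _ _ (heg _ hq')
      rwa [Ideal.mem_pointwise_smul_iff_inv_smul_mem, inv_inv] at h1
    obtain ⟨hA, hB⟩ := hloc N
    refine ⟨fun z hz => ?_, fun z hz => ?_⟩
    · obtain ⟨j, hj⟩ := hA (incl.lTensor N z) (by
        rw [← LinearMap.comp_apply, ← LinearMap.lTensor_comp,
          show (Fx R D C).val.toLinearMap ∘ₗ incl = (Fx R G C).val.toLinearMap from rfl, hz])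
      refine ⟨TD (eh j), hout j, ?_⟩
      have key : LinearMap.mulLeft R (TD (eh j)) =
          TD ∘ₗ LinearMap.mulLeft R (⟨e, heF⟩ : Fx R D C) ∘ₗ LinearMap.mulLeft R ((⟨h, hh⟩ : Fx R D C) ^ j) ∘ₗ incl :=
        LinearMap.ext fun b => Subtype.ext (by
          show T (e * h ^ j) * b.1 = T (e * (h ^ j * b.1))
          have hb : ∀ g : G, g • b.1 = b.1 := b.2
          simp only [T, LinearMap.sum_apply, act_apply, Finset.sum_mul, smul_mul', hb, mul_assoc])
      rw [key, LinearMap.lTensor_comp, LinearMap.lTensor_comp, LinearMap.lTensor_comp, LinearMap.comp_apply,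
        LinearMap.comp_apply, LinearMap.comp_apply, hj, map_zero, map_zero]
    · obtain ⟨j, w, hw⟩ := hB z fun τ => hz τ.1
      refine ⟨TD (eh j), hout j, (TD ∘ₗ LinearMap.mulLeft R (⟨e, heF⟩ : Fx R D C)).lTensor N w, ?_⟩
      rw [← LinearMap.comp_apply, ← LinearMap.lTensor_comp,
        show (Fx R G C).val.toLinearMap ∘ₗ TD ∘ₗ LinearMap.mulLeft R (⟨e, heF⟩ : Fx R D C) =
          T ∘ₗ LinearMap.mulLeft R e ∘ₗ (Fx R D C).val.toLinearMap from rfl,
        LinearMap.lTensor_comp, LinearMap.lTensor_comp, LinearMap.comp_apply, LinearMap.comp_apply, hw]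
      rw [show ((TD (eh j) : Fx R G C) : C) = T (e * h ^ j) from rfl, ← LinearMap.comp_apply (LinearMap.lTensor N (LinearMap.mulLeft R e)),
        ← LinearMap.lTensor_comp, ← LinearMap.mulLeft_mul, ← LinearMap.comp_apply, ← LinearMap.lTensor_comp]
      simp only [T, LinearMap.sum_apply, act_apply]
      rw [show (∑ q : G ⧸ D, act R C q.out) ∘ₗ LinearMap.mulLeft R (e * h ^ j) =
          ∑ q : G ⧸ D, act R C q.out ∘ₗ LinearMap.mulLeft R (e * h ^ j) from LinearMap.ext fun x => by simp]
      rw [show (∑ q : G ⧸ D, act R C q.out ∘ₗ LinearMap.mulLeft R (e * h ^ j)).lTensor N =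
          ∑ q : G ⧸ D, (act R C q.out ∘ₗ LinearMap.mulLeft R (e * h ^ j)).lTensor N from map_sum (LinearMap.lTensorHom N) _ _,
        show LinearMap.mulLeft R (∑ q : G ⧸ D, q.out • (e * h ^ j)) = ∑ q : G ⧸ D, LinearMap.mulLeft R (q.out • (e * h ^ j))
          from LinearMap.ext fun x => by simp [Finset.sum_mul, mul_assoc],
        show (∑ q : G ⧸ D, LinearMap.mulLeft R (q.out • (e * h ^ j))).lTensor N =
          ∑ q : G ⧸ D, (LinearMap.mulLeft R (q.out • (e * h ^ j))).lTensor N from map_sum (LinearMap.lTensorHom N) _ _,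
        LinearMap.sum_apply, LinearMap.sum_apply]
      refine Finset.sum_congr rfl fun q _ => ?_
      rw [act_comp_mul, LinearMap.lTensor_comp, LinearMap.comp_apply, hz]
  refine ⟨(injective_iff_map_eq_zero _).2 fun z hz => ?_, fun z hz => ?_⟩
  · let J : Ideal (Fx R G C) :=
      { carrier := {b | (LinearMap.mulLeft R b).lTensor N z = 0}
        zero_mem' := by simp
        add_mem' := fun {x y} hx hy => by
          show (LinearMap.mulLeft R (x + y)).lTensor N z = 0
          rw [show LinearMap.mulLeft R (x + y) = LinearMap.mulLeft R x + LinearMap.mulLeft R y from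
            LinearMap.ext fun c => add_mul x y c, LinearMap.lTensor_add, LinearMap.add_apply,
            (hx : (LinearMap.mulLeft R x).lTensor N z = 0), (hy : (LinearMap.mulLeft R y).lTensor N z = 0), add_zero]
        smul_mem' := fun r x hx => by
          show (LinearMap.mulLeft R (r * x)).lTensor N z = 0
          rw [LinearMap.mulLeft_mul, LinearMap.lTensor_comp, LinearMap.comp_apply, (hx : (LinearMap.mulLeft R x).lTensor N z = 0), map_zero] }
    have hJ : J = ⊤ := by
      by_contra hne
      obtain ⟨p, hp, hle⟩ := Ideal.exists_le_maximal J hne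
      obtain ⟨b, hb, hb'⟩ := (main p hp).1 z hz
      exact hb (hle hb')
    have h1 : (1 : Fx R G C) ∈ J := hJ ▸ trivial
    change (LinearMap.mulLeft R (1 : Fx R G C)).lTensor N z = 0 at h1
    rwa [LinearMap.mulLeft_one, LinearMap.lTensor_id] at h1
  · let J : Ideal (Fx R G C) :=
      { carrier := {b | (LinearMap.mulLeft R (b : C)).lTensor N z ∈ LinearMap.range ((Fx R G C).val.toLinearMap.lTensor N)}
        zero_mem' := ⟨0, by simp⟩
        add_mem' := fun {x y} hx hy => by
          show (LinearMap.mulLeft R (x.1 + y.1)).lTensor N z ∈ LinearMap.range ((Fx R G C).val.toLinearMap.lTensor N)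
          rw [show LinearMap.mulLeft R (x.1 + y.1) = LinearMap.mulLeft R x.1 + LinearMap.mulLeft R y.1 from
            LinearMap.ext fun c => add_mul x.1 y.1 c, LinearMap.lTensor_add, LinearMap.add_apply]
          exact Submodule.add_mem _ hx hy
        smul_mem' := fun r x hx => by
          obtain ⟨w, hw⟩ := hx
          refine ⟨(LinearMap.mulLeft R r).lTensor N w, ?_⟩
          rw [← LinearMap.comp_apply, ← LinearMap.lTensor_comp, val_mul, LinearMap.lTensor_comp, LinearMap.comp_apply, hw,
            ← LinearMap.comp_apply, ← LinearMap.lTensor_comp, ← LinearMap.mulLeft_mul]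
          rfl }
    have hJ : J = ⊤ := by
      by_contra hne
      obtain ⟨p, hp, hle⟩ := Ideal.exists_le_maximal J hne
      obtain ⟨b, hb, hb'⟩ := (main p hp).2 z hz
      exact hb (hle hb')
    obtain ⟨w, hw⟩ := (hJ ▸ trivial : (1 : Fx R G C) ∈ J)
    exact ⟨w, hw.trans (by rw [OneMemClass.coe_one, LinearMap.mulLeft_one, LinearMap.lTensor_id, LinearMap.id_apply])⟩

end Transfer

section Product

variable {R : Type u} [CommRing R] {C C' : Type u} [CommRing C] [Algebra R C] [CommRing C'] [Algebra R C']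
  {G G' : Type*} [Group G] [Group G'] [MulSemiringAction G C] [SMulCommClass G R C] [MulSemiringAction G' C']
  [SMulCommClass G' R C']

theorem prod_invariants (h : Good R G C) (h' : Good R G' C') :
    Function.Injective (TensorProduct.map (Fx R G C).val.toLinearMap (Fx R G' C').val.toLinearMap) ∧
      ∀ z : C ⊗[R] C', (∀ (g : G) (g' : G'), TensorProduct.map (act R C g) (act R C' g') z = z) →
        ∃ w, TensorProduct.map (Fx R G C).val.toLinearMap (Fx R G' C').val.toLinearMap w = z := by
  have hA := h C'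
  have hA' := h' (Fx R G C)
  have swap : ∀ {P Q : Type u} [AddCommGroup P] [Module R P] [AddCommGroup Q] [Module R Q] (f : P →ₗ[R] Q)
      (x : C' ⊗[R] P), TensorProduct.comm R C' Q (f.lTensor C' x) = f.rTensor C' (TensorProduct.comm R C' P x) :=
    fun f x => LinearMap.congr_fun (TensorProduct.ext' fun _ _ => rfl :
      (TensorProduct.comm R C' _).toLinearMap ∘ₗ f.lTensor C' = f.rTensor C' ∘ₗ (TensorProduct.comm R C' _).toLinearMap) x
  have hr : Function.Injective ((Fx R G C).val.toLinearMap.rTensor C') := fun x y hxy => by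
    obtain ⟨x, rfl⟩ := (TensorProduct.comm R C' _).surjective x
    obtain ⟨y, rfl⟩ := (TensorProduct.comm R C' _).surjective y
    rw [← swap, ← swap] at hxy
    rw [hA.1 ((TensorProduct.comm R C' _).injective hxy)]
  have hmap : TensorProduct.map (Fx R G C).val.toLinearMap (Fx R G' C').val.toLinearMap =
      (Fx R G C).val.toLinearMap.rTensor C' ∘ₗ (Fx R G' C').val.toLinearMap.lTensor (Fx R G C) := by
    rw [LinearMap.rTensor_comp_lTensor]
  refine ⟨by rw [hmap, LinearMap.coe_comp]; exact hr.comp hA'.1, fun z hz => ?_⟩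
  obtain ⟨z', rfl⟩ := (TensorProduct.comm R C' C).surjective z
  obtain ⟨w, hw⟩ := hA.2 z' fun g => (TensorProduct.comm R C' C).injective (by
    rw [swap]
    have := hz g 1
    rw [show act R C' (1 : G') = LinearMap.id from LinearMap.ext fun x => one_smul G' x] at this
    exact this)
  set w' := TensorProduct.comm R C' _ w
  have hw' : (Fx R G C).val.toLinearMap.rTensor C' w' = TensorProduct.comm R C' C z' := by rw [← swap, hw]
  obtain ⟨v, hv⟩ := hA'.2 w' fun g' => hr (by
    rw [← LinearMap.comp_apply, LinearMap.rTensor_comp_lTensor, hw']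
    have := hz 1 g'
    rw [show act R C (1 : G) = LinearMap.id from LinearMap.ext fun x => one_smul G x] at this
    rw [← hw', ← LinearMap.comp_apply, LinearMap.map_comp_rTensor, LinearMap.id_comp] at this
    rw [← hw']
    exact this)
  exact ⟨v, by rw [hmap, LinearMap.comp_apply, hv, hw']⟩

end Product

end Groth.Agent.AGFQuot23.InvBC
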