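import Groth.Agent.AGFQuot23.BorelFun

/-!
# Neutral subgroups of closed sets of rational points
-/

set_option autoImplicit false
set_option backward.isDefEq.respectTransparency false
set_option linter.style.haveILetI false

universe u

open CategoryTheory CategoryTheory.Limits MonoidalCategory CartesianMonoidalCategory MonObj GrpObj AlgebraicGeometry
open Groth.Agent.AlgGrpLib (ptOf)

namespace Groth.Agent.AGFQuot23

variable {k : Type u} [Field k] [IsAlgClosed k] {G : Over (Spec (CommRingCat.of k))} [GrpObj G]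
  [LocallyOfFiniteType G.hom]

/-- A reduced scheme whose rational points land in the range of a closed immersion factors through it. -/
theorem exists_lift_of_points {B H : Over (Spec (CommRingCat.of k))} [LocallyOfFiniteType B.hom] [IsReduced B.left]
    (j : B ⟶ G) (i : H ⟶ G) [IsClosedImmersion i.left]
    (h : ∀ b : 𝟙_ (Over (Spec (CommRingCat.of k))) ⟶ B, ptOf (b ≫ j) ∈ Set.range i.left) :
    ∃ f : B ⟶ H, f ≫ i = j := by
  have hr : Set.range j.left ⊆ Set.range i.left := by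
    rintro _ ⟨x, rfl⟩
    exact subset_of_forall_point (Z := B) isClosed_univ.isLocallyClosed
      (i.left.isClosedEmbedding.isClosed_range.preimage j.left.continuous) (fun b _ => h b) (Set.mem_univ x)
  obtain ⟨l, hl⟩ := RedSepLib.exists_lift_of_range_subset j.left i.left hr
  exact ⟨Over.homMk l (by rw [← Over.w i, ← Category.assoc, hl, Over.w]), Over.OverMorphism.ext hl⟩

/-- The reduced neutral component of a closed group of rational points. -/
theorem exists_neutral_subgroup (S : Subgroup (𝟙_ (Over (Spec (CommRingCat.of k))) ⟶ G))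
    (hS : ∀ g : 𝟙_ (Over (Spec (CommRingCat.of k))) ⟶ G, ptOf g ∈ closure (ptOf '' (S : Set _)) → g ∈ S) :
    ∃ (H : Over (Spec (CommRingCat.of k))) (_ : GrpObj H) (i : H ⟶ G), IsMonHom i ∧ IsClosedImmersion i.left ∧
      Smooth H.hom ∧ ConnectedSpace H.left ∧ (∀ h : 𝟙_ (Over (Spec (CommRingCat.of k))) ⟶ H, h ≫ i ∈ S) ∧
      ∀ (B : Over (Spec (CommRingCat.of k))) [GrpObj B] (j : B ⟶ G) [IsMonHom j] [Smooth B.hom]
        [ConnectedSpace B.left], (∀ b : 𝟙_ (Over (Spec (CommRingCat.of k))) ⟶ B, b ≫ j ∈ S) → ∃ f : B ⟶ H, f ≫ i = j := by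
  classical
  obtain ⟨P, _, iP, hiP, hclP, hredP, hrP, hliftP⟩ := AlgGrpLib.exists_closure_subgroup G S
  haveI := hiP
  haveI := hclP
  haveI := hredP
  haveI : LocallyOfFiniteType P.hom := by rw [← Over.w iP]; infer_instance
  let T : Subgroup (𝟙_ (Over (Spec (CommRingCat.of k))) ⟶ P) :=
    { carrier := {p | ptOf p ∈ connectedComponent (ptOf (1 : 𝟙_ _ ⟶ P))}
      one_mem' := mem_connectedComponent
      mul_mem' := fun {g h} hg hh => by
        let τ : P ⟶ P := (toUnit P ≫ g) * 𝟙 P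
        have hτ : ∀ t : 𝟙_ (Over (Spec (CommRingCat.of k))) ⟶ P, t ≫ τ = g * t := fun t => by
          simp only [τ, MonObj.comp_mul, Category.comp_id, ← Category.assoc,
            toUnit_unique (t ≫ toUnit P) (𝟙 _), Category.id_comp]
        have h1 := τ.left.continuous.image_connectedComponent_subset (ptOf (1 : 𝟙_ _ ⟶ P)) ⟨ptOf h, hh, rfl⟩
        change ptOf (h ≫ τ) ∈ connectedComponent (ptOf ((1 : 𝟙_ _ ⟶ P) ≫ τ)) at h1
        rw [hτ, hτ, _root_.mul_one, ← connectedComponent_eq hg] at h1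
        exact h1
      inv_mem' := fun {g} hg => by
        let τ : P ⟶ P := (toUnit P ≫ g⁻¹) * 𝟙 P
        have hτ : ∀ t : 𝟙_ (Over (Spec (CommRingCat.of k))) ⟶ P, t ≫ τ = g⁻¹ * t := fun t => by
          simp only [τ, MonObj.comp_mul, Category.comp_id, ← Category.assoc,
            toUnit_unique (t ≫ toUnit P) (𝟙 _), Category.id_comp]
        have h1 := τ.left.continuous.image_connectedComponent_subset (ptOf g)
          ⟨ptOf (1 : 𝟙_ _ ⟶ P), by rw [← connectedComponent_eq hg]; exact mem_connectedComponent, rfl⟩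
        change ptOf ((1 : 𝟙_ _ ⟶ P) ≫ τ) ∈ connectedComponent (ptOf (g ≫ τ)) at h1
        rwa [hτ, hτ, _root_.mul_one, inv_mul_cancel] at h1 }
  let φ : (𝟙_ (Over (Spec (CommRingCat.of k))) ⟶ P) →* (𝟙_ (Over (Spec (CommRingCat.of k))) ⟶ G) :=
    MonoidHom.mk' (fun p => p ≫ iP) fun p q => MonObj.mul_comp p q iP
  obtain ⟨H, _, i, hi, hcl, hred, hr, -⟩ := AlgGrpLib.exists_closure_subgroup G (T.map φ)
  haveI := hi
  haveI := hcl
  haveI := hred
  haveI : LocallyOfFiniteType H.hom := by rw [← Over.w i]; infer_instance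
  have hcomp : closure (ptOf '' (T.map φ : Set _)) = iP.left '' connectedComponent (ptOf (1 : 𝟙_ _ ⟶ P)) := by
    haveI : JacobsonSpace P.left := LocallyOfFiniteType.jacobsonSpace P.hom
    have hcc : IsClosed (connectedComponent (ptOf (1 : 𝟙_ _ ⟶ P))) := isClosed_connectedComponent
    conv_rhs => rw [← closure_inter_closedPoints hcc]
    rw [← iP.left.isClosedEmbedding.closure_image_eq]
    congr 1
    ext x
    constructor
    · rintro ⟨_, ⟨p, hp, rfl⟩, rfl⟩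
      exact ⟨ptOf p, ⟨hp, isClosed_ptOf p⟩, rfl⟩
    · rintro ⟨x, ⟨hx, hxc⟩, rfl⟩
      obtain ⟨p, rfl⟩ := closedPoint_eq_ptOf (Z := P) hxc
      exact ⟨φ p, ⟨p, hx, rfl⟩, rfl⟩
  refine ⟨H, inferInstance, i, hi, hcl, AbVarLib.smooth_of_geometricallyReduced H, ?_, fun h => ?_, ?_⟩
  · have h : _root_.IsConnected (Set.range i.left) := by
      rw [hr, hcomp]
      exact isConnected_connectedComponent.image _ iP.left.continuous.continuousOn
    rw [connectedSpace_iff_univ]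
    refine ⟨?_, i.left.isEmbedding.isInducing.isPreconnected_image.1 (by rw [Set.image_univ]; exact h.2)⟩
    obtain ⟨_, ⟨x, -⟩⟩ := h.1
    exact ⟨x, trivial⟩
  · refine hS _ ?_
    rw [← hrP]
    obtain ⟨x, -, hx⟩ : ptOf (h ≫ i) ∈ iP.left '' connectedComponent (ptOf (1 : 𝟙_ _ ⟶ P)) := by
      rw [← hcomp, ← hr]; exact ⟨ptOf h, rfl⟩
    exact ⟨x, hx⟩
  · intro B _ j _ _ _ hB
    haveI : IsReduced B.left := AbSchLib.isReduced_of_smooth B.hom
    obtain ⟨j', hj'⟩ := exists_lift_of_points j iP fun b => by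
      rw [hrP]; exact subset_closure ⟨_, hB b, rfl⟩
    have h1 : (1 : 𝟙_ (Over (Spec (CommRingCat.of k))) ⟶ B) ≫ j' = 1 := by
      haveI : Mono iP := Over.mono_of_mono_left _
      rw [← cancel_mono iP, Category.assoc, hj', MonObj.one_comp, MonObj.one_comp]
    refine exists_lift_of_points j i fun b => ?_
    rw [hr, hcomp]
    refine ⟨ptOf (b ≫ j'), ?_, ?_⟩
    · have h2 := j'.left.continuous.image_connectedComponent_subset (ptOf (1 : 𝟙_ _ ⟶ B))
        ⟨ptOf b, by rw [PreconnectedSpace.connectedComponent_eq_univ]; trivial, rfl⟩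
      change ptOf (b ≫ j') ∈ connectedComponent (ptOf ((1 : 𝟙_ _ ⟶ B) ≫ j')) at h2
      rwa [h1] at h2
    · show ptOf ((b ≫ j') ≫ iP) = _
      rw [Category.assoc, hj']

theorem isBorelOver_of_factor {H B : Over (Spec (CommRingCat.of k))} [GrpObj H] [GrpObj B] (i : H ⟶ G) [IsMonHom i]
    [IsClosedImmersion i.left] (f : B ⟶ H) {iB : B ⟶ G} (hf : f ≫ i = iB) (hB : Red.IsBorelOver k iB) :
    Red.IsBorelOver k f := by
  subst hf
  obtain ⟨hi, hcl, hsm, hconn, hsolv, hmax⟩ := hB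
  haveI := hi
  haveI : Mono i := Over.mono_of_mono_left _
  haveI : IsMonHom f :=
    { one_hom := by rw [← cancel_mono i, Category.assoc, IsMonHom.one_hom (f ≫ i), IsMonHom.one_hom i]
      mul_hom := by
        rw [← cancel_mono i, Category.assoc, IsMonHom.mul_hom (f ≫ i), Category.assoc, IsMonHom.mul_hom i,
          tensorHom_comp_tensorHom_assoc] }
  haveI : IsClosedImmersion (f.left ≫ i.left) := by rw [← Over.comp_left]; exact hcl
  refine ⟨inferInstance, IsClosedImmersion.of_comp f.left i.left, hsm, hconn, hsolv,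
    fun B' _ i' _ g hcl' hsm' hconn' hsolv' hg => ?_⟩
  haveI := hcl'
  exact hmax B' (i' ≫ i) g (by rw [Over.comp_left]; infer_instance) hsm' hconn' hsolv' (by rw [← Category.assoc, hg])

variable [IsAffine G.left] [Smooth G.hom] [ConnectedSpace G.left]

/-- A Borel subgroup is the only one in its normalizer. -/
theorem borel_unique_in_normalizer {B B' N : Over (Spec (CommRingCat.of k))} [GrpObj B] [GrpObj B'] [GrpObj N]
    {iB : B ⟶ G} {iB' : B' ⟶ G} (hB : Red.IsBorelOver k iB) (hB' : Red.IsBorelOver k iB') {n : N ⟶ G}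
    (hn : Red.IsNormalizerOf iB n) (j : B' ⟶ N) (hj : j ≫ n = iB') : ∃ f : B' ≅ B, f.hom ≫ iB = iB' := by
  classical
  obtain ⟨hi, hcl, hsm, hconn, -⟩ := id hB
  obtain ⟨hi', hcl', hsm', hconn', hsolv', hmax'⟩ := id hB'
  haveI := hi; haveI := hcl; haveI := hsm; haveI := hconn
  haveI := hi'; haveI := hcl'; haveI := hsm'; haveI := hconn'
  let R : (𝟙_ (Over (Spec (CommRingCat.of k))) ⟶ B) →* (𝟙_ (Over (Spec (CommRingCat.of k))) ⟶ G) :=
    MonoidHom.mk' (fun b => b ≫ iB) fun b b' => MonObj.mul_comp b b' iB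
  let S : Subgroup (𝟙_ (Over (Spec (CommRingCat.of k))) ⟶ G) :=
    { carrier := {g | ∀ x ∈ R.range, g * x * g⁻¹ ∈ R.range ∧ g⁻¹ * x * g ∈ R.range}
      one_mem' := fun x hx => by simpa using hx
      mul_mem' := fun {g h} hg hh x hx => by
        refine ⟨?_, ?_⟩
        · have := (hg _ (hh x hx).1).1
          simpa [_root_.mul_assoc] using this
        · have := (hh _ (hg x hx).2).2
          simpa [_root_.mul_assoc] using this
      inv_mem' := fun {g} hg x hx => by simpa [and_comm] using hg x hx }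
  have hSc : ∀ g : 𝟙_ (Over (Spec (CommRingCat.of k))) ⟶ G, ptOf g ∈ closure (ptOf '' (S : Set _)) → g ∈ S := by
    intro g hg x hx
    let c₁ : G ⟶ G := 𝟙 G * (toUnit G ≫ x) * (𝟙 G)⁻¹
    let c₂ : G ⟶ G := (𝟙 G)⁻¹ * (toUnit G ≫ x) * 𝟙 G
    have e₁ : ∀ t : 𝟙_ (Over (Spec (CommRingCat.of k))) ⟶ G, t ≫ c₁ = t * x * t⁻¹ := fun t => by
      simp only [c₁, MonObj.comp_mul, GrpObj.comp_inv, Category.comp_id, ← Category.assoc,
        toUnit_unique (t ≫ toUnit G) (𝟙 _), Category.id_comp]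
    have e₂ : ∀ t : 𝟙_ (Over (Spec (CommRingCat.of k))) ⟶ G, t ≫ c₂ = t⁻¹ * x * t := fun t => by
      simp only [c₂, MonObj.comp_mul, GrpObj.comp_inv, Category.comp_id, ← Category.assoc,
        toUnit_unique (t ≫ toUnit G) (𝟙 _), Category.id_comp]
    have key : ∀ c : G ⟶ G, (∀ s ∈ S, s ≫ c ∈ R.range) → g ≫ c ∈ R.range := by
      intro c hc
      obtain ⟨b, hb⟩ := exists_point_of_mem iB (g ≫ c) (closure_minimal (t := c.left ⁻¹' Set.range iB.left) (by
        rintro _ ⟨s, hs, rfl⟩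
        obtain ⟨b, hb⟩ := hc s hs
        exact ⟨ptOf b, congrArg ptOf hb⟩) (iB.left.isClosedEmbedding.isClosed_range.preimage c.left.continuous) hg)
      exact ⟨b, hb⟩
    exact ⟨e₁ g ▸ key c₁ fun s hs => e₁ s ▸ (hs x hx).1, e₂ g ▸ key c₂ fun s hs => e₂ s ▸ (hs x hx).2⟩
  obtain ⟨H, _, i, hiH, hclH, hsmH, hconnH, hHS, huniv⟩ := exists_neutral_subgroup S hSc
  haveI := hiH; haveI := hclH; haveI := hsmH; haveI := hconnH
  haveI : IsAffine H.left := isAffine_of_isAffineHom i.left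
  obtain ⟨f, hf⟩ := huniv B iB fun b x hx =>
    ⟨R.range.mul_mem (R.range.mul_mem ⟨b, rfl⟩ hx) (R.range.inv_mem ⟨b, rfl⟩),
      R.range.mul_mem (R.range.mul_mem (R.range.inv_mem ⟨b, rfl⟩) hx) ⟨b, rfl⟩⟩
  obtain ⟨f', hf'⟩ := huniv B' iB' fun b x hx => by
    obtain ⟨y, rfl⟩ := hx
    obtain ⟨⟨y₁, h₁⟩, ⟨y₂, h₂⟩⟩ := (hn.2.2 _ (b ≫ iB')).1 ⟨b ≫ j, by rw [Category.assoc, hj]⟩ _ (𝟙 _) y
    rw [Category.id_comp] at h₁ h₂
    exact ⟨⟨y₁, h₁.symm⟩, ⟨y₂, h₂.symm⟩⟩
  obtain ⟨g, e, he⟩ := borel_conj (isBorelOver_of_factor i f' hf' hB') (isBorelOver_of_factor i f hf hB)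
  haveI : IsReduced B'.left := AbSchLib.isReduced_of_smooth B'.hom
  obtain ⟨l, hl⟩ := exists_lift_of_points iB' iB fun b => by
    have h1 : (b ≫ e.hom) ≫ iB = (g ≫ i) * (b ≫ iB') * (g ≫ i)⁻¹ := by
      rw [← hf, ← hf', Category.assoc, reassoc_of% he]
      simp only [AGF.conjBy, MonObj.comp_mul, GrpObj.comp_inv, MonObj.mul_comp, GrpObj.inv_comp, Category.assoc]
      simp only [← Category.assoc, toUnit_unique (b ≫ toUnit B') (𝟙 _), Category.id_comp]
    have h2 := ((hHS g) _ ⟨b ≫ e.hom, rfl⟩).2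
    change (g ≫ i)⁻¹ * ((b ≫ e.hom) ≫ iB) * (g ≫ i) ∈ R.range at h2
    rw [h1] at h2
    obtain ⟨y, hy⟩ := h2
    refine ⟨ptOf y, congrArg ptOf ((show y ≫ iB = _ from hy).trans ?_)⟩
    group
  haveI : IsIso l := hmax' B iB l hcl hsm hconn hB.2.2.2.2.1 hl
  exact ⟨asIso l, hl⟩

/-- Borel subgroups with image in one Borel subgroup coincide, when the kernel is in a Borel subgroup. -/
theorem borel_eq_of_image_eq {G' B₀ B₁ B₂ B' : Over (Spec (CommRingCat.of k))} [GrpObj G']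
    [LocallyOfFiniteType G'.hom] [GrpObj B₀] [GrpObj B₁]
    [GrpObj B₂] [GrpObj B'] (φ : G ⟶ G') [IsMonHom φ] {i₀ : B₀ ⟶ G} (h₀ : Red.IsBorelOver k i₀)
    (hker : ∀ (X : Over (Spec (CommRingCat.of k))) (g : X ⟶ G), g ≫ φ = 1 → ∃ b : X ⟶ B₀, b ≫ i₀ = g)
    {i₁ : B₁ ⟶ G} {i₂ : B₂ ⟶ G} {i' : B' ⟶ G'} (h₁ : Red.IsBorelOver k i₁) (h₂ : Red.IsBorelOver k i₂)
    (h' : Red.IsBorelOver k i') (f₁ : B₁ ⟶ B') (f₂ : B₂ ⟶ B') (hf₁ : f₁ ≫ i' = i₁ ≫ φ) (hf₂ : f₂ ≫ i' = i₂ ≫ φ) :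
    ∃ e : B₁ ≅ B₂, e.hom ≫ i₂ = i₁ := by
  classical
  obtain ⟨hi₀, -, -, -, ⟨n₀, hn₀⟩, -⟩ := id h₀
  obtain ⟨hi', hcl', hsm', -, ⟨n', hn'⟩, -⟩ := id h'
  obtain ⟨hi₁, hcl₁, hsm₁, hconn₁, -, hmax₁⟩ := id h₁
  obtain ⟨hi₂, hcl₂, hsm₂, hconn₂, -, hmax₂⟩ := id h₂
  haveI := hi₀; haveI := hi'; haveI := hcl'; haveI := hsm'
  haveI := hi₁; haveI := hsm₁; haveI := hconn₁; haveI := hi₂; haveI := hsm₂; haveI := hconn₂
  haveI : Group.IsSolvable (𝟙_ (Over (Spec (CommRingCat.of k))) ⟶ B₀) := ⟨⟨n₀, hn₀ _⟩⟩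
  haveI : Group.IsSolvable (𝟙_ (Over (Spec (CommRingCat.of k))) ⟶ B') := ⟨⟨n', hn' _⟩⟩
  let R₀ : (𝟙_ (Over (Spec (CommRingCat.of k))) ⟶ B₀) →* (𝟙_ (Over (Spec (CommRingCat.of k))) ⟶ G) :=
    MonoidHom.mk' (fun b => b ≫ i₀) fun b b' => MonObj.mul_comp b b' i₀
  let R' : (𝟙_ (Over (Spec (CommRingCat.of k))) ⟶ B') →* (𝟙_ (Over (Spec (CommRingCat.of k))) ⟶ G') :=
    MonoidHom.mk' (fun b => b ≫ i') fun b b' => MonObj.mul_comp b b' i'
  let Φ : (𝟙_ (Over (Spec (CommRingCat.of k))) ⟶ G) →* (𝟙_ (Over (Spec (CommRingCat.of k))) ⟶ G') :=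
    MonoidHom.mk' (fun b => b ≫ φ) fun b b' => MonObj.mul_comp b b' φ
  let S : Subgroup (𝟙_ (Over (Spec (CommRingCat.of k))) ⟶ G) := R'.range.comap Φ
  haveI : LocallyOfFiniteType B'.hom := inferInstance
  haveI : Group.IsSolvable R₀.range := solvable_of_surjective (f := R₀.rangeRestrict) R₀.rangeRestrict_surjective
  haveI : Group.IsSolvable R'.range := solvable_of_surjective (f := R'.rangeRestrict) R'.rangeRestrict_surjective
  let ψ : S →* R'.range := (Φ.comp S.subtype).codRestrict R'.range fun s => s.2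
  let θ : ψ.ker →* R₀.range := (S.subtype.comp ψ.ker.subtype).codRestrict R₀.range fun s => by
    have hs : ((s : S) : 𝟙_ (Over (Spec (CommRingCat.of k))) ⟶ G) ≫ φ = 1 :=
      congrArg Subtype.val (MonoidHom.mem_ker.1 s.2)
    obtain ⟨b, hb⟩ := hker _ _ hs
    exact ⟨b, hb⟩
  haveI : Group.IsSolvable ψ.ker := solvable_of_solvable_injective (f := θ) fun s t e =>
    Subtype.ext (Subtype.ext (congrArg (fun r : R₀.range => (r : 𝟙_ (Over (Spec (CommRingCat.of k))) ⟶ G)) e))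
  haveI : Group.IsSolvable S := solvable_of_ker_le_range ψ.ker.subtype ψ (by rw [Subgroup.range_subtype])
  have hSc : ∀ g : 𝟙_ (Over (Spec (CommRingCat.of k))) ⟶ G, ptOf g ∈ closure (ptOf '' (S : Set _)) → g ∈ S := by
    intro g hg
    obtain ⟨b, hb⟩ := exists_point_of_mem i' (g ≫ φ) (closure_minimal (t := φ.left ⁻¹' Set.range i'.left) (by
      rintro _ ⟨s, ⟨b, hb⟩, rfl⟩
      exact ⟨ptOf b, congrArg ptOf hb⟩) (i'.left.isClosedEmbedding.isClosed_range.preimage φ.left.continuous) hg)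
    exact ⟨b, hb⟩
  obtain ⟨H, _, i, hiH, hclH, hsmH, hconnH, hHS, huniv⟩ := exists_neutral_subgroup S hSc
  haveI := hiH; haveI := hclH; haveI := hsmH; haveI := hconnH
  haveI : IsAffine H.left := isAffine_of_isAffineHom i.left
  haveI : QuasiCompact H.hom := (quasiCompact_iff_compactSpace H.hom).2 inferInstance
  haveI : Mono i := Over.mono_of_mono_left _
  let ρ : (𝟙_ (Over (Spec (CommRingCat.of k))) ⟶ H) →* S :=
    (MonoidHom.mk' (fun h => h ≫ i) fun h h' => MonObj.mul_comp h h' i).codRestrict S hHS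
  haveI : Group.IsSolvable (𝟙_ (Over (Spec (CommRingCat.of k))) ⟶ H) :=
    solvable_of_solvable_injective (f := ρ) fun h h' e => (cancel_mono i).1 (congrArg Subtype.val e)
  have hsolvH := isSolvableGrp_of_points H
  obtain ⟨e₁, he₁⟩ := huniv B₁ i₁ fun b => ⟨b ≫ f₁, by
    show (b ≫ f₁) ≫ i' = (b ≫ i₁) ≫ φ
    rw [Category.assoc, hf₁, Category.assoc]⟩
  obtain ⟨e₂, he₂⟩ := huniv B₂ i₂ fun b => ⟨b ≫ f₂, by
    show (b ≫ f₂) ≫ i' = (b ≫ i₂) ≫ φ
    rw [Category.assoc, hf₂, Category.assoc]⟩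
  haveI : IsIso e₁ := hmax₁ H i e₁ hclH hsmH hconnH hsolvH he₁
  haveI : IsIso e₂ := hmax₂ H i e₂ hclH hsmH hconnH hsolvH he₂
  exact ⟨asIso e₁ ≪≫ (asIso e₂).symm, by simp [← he₁, ← he₂]⟩

end Groth.Agent.AGFQuot23
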