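import Groth.Agent.AGFQuot23.NormIdeal
import Groth.Agent.AGFQuot23.FixedPoint
import Groth.Agent.AGFQuot23.CentreInBorel
import Groth.Agent.AGFQuot23.NeutralSub

/-!
# Borel subgroups are self-normalizing
-/

set_option autoImplicit false
set_option backward.isDefEq.respectTransparency false
set_option linter.style.haveILetI false
set_option maxHeartbeats 1000000

universe u

open CategoryTheory CategoryTheory.Limits MonoidalCategory CartesianMonoidalCategory MonObj GrpObj AlgebraicGeometry
open WithConv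

namespace Groth.Agent.AGFQuot23

/-- The point conjugates the subgroup into itself, universally. -/
abbrev NormsHom {S : Scheme.{u}} {G B : Over S} [GrpObj G] (iB : B ⟶ G) {T : Over S} (g : T ⟶ G) : Prop :=
  ∀ (W : Over S) (w : W ⟶ T) (h : W ⟶ B), ∃ h' : W ⟶ B, (w ≫ g)⁻¹ * (h ≫ iB) * (w ≫ g) = h' ≫ iB

section AlgClosed

variable {k : Type u} [Field k] [IsAlgClosed k] {G : Over (Spec (CommRingCat.of k))} [GrpObj G]
  [IsAffine G.left] [Smooth G.hom] [ConnectedSpace G.left]

theorem surjective_of_isClosedImmersion_spec {R S : CommRingCat.{u}} (f : R ⟶ S) [IsClosedImmersion (Spec.map f)] :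
    Function.Surjective f := by
  have h := ((HasAffineProperty.iff_of_isAffine (P := @IsClosedImmersion) (f := Spec.map f)).1 inferInstance).2
  intro y
  obtain ⟨x, hx⟩ := h ((Scheme.ΓSpecIso S).inv y)
  refine ⟨(Scheme.ΓSpecIso R).hom x, ?_⟩
  have hn := congrArg (fun q => q.hom x) (Scheme.ΓSpecIso_naturality f)
  change (Scheme.ΓSpecIso S).hom ((Spec.map f).appTop x) = f ((Scheme.ΓSpecIso R).hom x) at hn
  rw [← hn, hx]
  exact Iso.inv_hom_id_apply (Scheme.ΓSpecIso S) y

/-- A smooth connected closed subgroup as a prime Hopf ideal, described on affine points. -/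
theorem exists_ideal_of_closed {A : Type u} [CommRing A] [HopfAlgebra k A] (e : HopfQuot.spec (k := k) A ⟶ G)
    [IsIso e] [IsMonHom e] {P : Over (Spec (CommRingCat.of k))} [GrpObj P] (iP : P ⟶ G) [IsMonHom iP]
    [IsClosedImmersion iP.left] [Smooth P.hom] [ConnectedSpace P.left] :
    ∃ (Q : Ideal A) (_ : Q.IsHopfIdeal k), Q.IsPrime ∧ ∀ (R : CommAlgCat.{u} k) (g : GrassLib.pt R ⟶ G),
      (∃ p : GrassLib.pt R ⟶ P, p ≫ iP = g) ↔ In Q (GrpQLib.ptOf (g ≫ CategoryTheory.inv e)) := by
  haveI : IsMonHom (CategoryTheory.inv e) := inferInstanceAs (IsMonHom (asIso e).inv)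
  haveI : IsAffine P.left := isAffine_of_isAffineHom iP.left
  haveI : QuasiCompact P.hom := (quasiCompact_iff_compactSpace P.hom).2 inferInstance
  haveI : IsReduced P.left := AbSchLib.isReduced_of_smooth P.hom
  haveI : IrreducibleSpace P.left := SGA3cLib.irreducibleSpace_of_connected P
  obtain ⟨C, _, _, e', _, _⟩ := HopfQuot.exists_spec (k := k) P
  haveI : IsMonHom (CategoryTheory.inv e') := inferInstanceAs (IsMonHom (asIso e').inv)
  haveI : IsIso e'.left := inferInstanceAs (IsIso ((Over.forget _).map e'))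
  haveI : IsReduced (Spec (CommRingCat.of C)) := by
    haveI hoi : IsOpenImmersion e'.left := inferInstanceAs (IsOpenImmersion (asIso e'.left).hom)
    exact @isReduced_of_isOpenImmersion _ _ e'.left hoi ‹_›
  haveI : IsIntegral (Spec (CommRingCat.of C)) := by
    haveI : IrreducibleSpace (Spec (CommRingCat.of C)) :=
      (asIso e'.left).inv.homeomorph.surjective.irreducibleSpace (asIso e'.left).inv.continuous
    exact isIntegral_of_irreducibleSpace_of_isReduced _
  haveI : IsDomain C := (affine_isIntegral_iff (CommRingCat.of C)).1 inferInstance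
  let jC : HopfQuot.spec (k := k) C ⟶ HopfQuot.spec A := e' ≫ iP ≫ CategoryTheory.inv e
  obtain ⟨φ, hφ⟩ := HopfQuot.exists_specHom jC
  have hφsur : Function.Surjective φ := by
    haveI : IsIso (CategoryTheory.inv e).left := inferInstanceAs (IsIso ((Over.forget _).map (CategoryTheory.inv e)))
    haveI : IsClosedImmersion (Spec.map (CommRingCat.ofHom (φ : A →+* C))) := by
      rw [← HopfQuot.specHom_left, hφ, Over.comp_left, Over.comp_left]
      infer_instance
    exact surjective_of_isClosedImmersion_spec (CommRingCat.ofHom (φ : A →+* C))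
  let π' : A →ₐ[k] C := (φ : A →ₐ[k] C)
  let Q : Ideal A := RingHom.ker π'
  have hlift : ∀ (R : Type u) [CommRing R] [Algebra k R] (g : DynLib.Pt k A R), In Q g →
      ∃ c : DynLib.Pt k C R, DynLib.pull φ c = g := fun R _ _ g h => by
    refine ⟨toConv ((Ideal.Quotient.liftₐ (RingHom.ker π') g.ofConv h).comp
      (Ideal.quotientKerAlgEquivOfSurjective (f := π') hφsur).symm.toAlgHom),
      WithConv.ext (AlgHom.ext fun a => ?_)⟩
    have : (Ideal.quotientKerAlgEquivOfSurjective (f := π') hφsur).symm (π' a) = Ideal.Quotient.mk _ a :=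
      (Ideal.quotientKerAlgEquivOfSurjective (f := π') hφsur).symm_apply_eq.2 rfl
    show Ideal.Quotient.liftₐ (RingHom.ker π') g.ofConv h
      ((Ideal.quotientKerAlgEquivOfSurjective (f := π') hφsur).symm (π' a)) = _
    rw [this]
    rfl
  have hkill : ∀ (R : Type u) [CommRing R] [Algebra k R] (c : DynLib.Pt k C R), In Q (DynLib.pull φ c) :=
    fun R _ _ c a ha => by
      show c.ofConv (π' a) = 0
      rw [show π' a = 0 from ha, map_zero]
  haveI : Q.IsHopfIdeal k := DynLib.isHopfIdeal_of_subgroup Q (fun R _ _ => (DynLib.pull (R := R) φ).range)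
    fun R _ _ g => ⟨fun h => hlift R (toConv g) h, fun ⟨c, hc⟩ => by
      rw [show g = (DynLib.pull φ c).ofConv from (congrArg WithConv.ofConv hc).symm]
      exact hkill R c⟩
  haveI : Q.IsPrime := RingHom.ker_isPrime _
  refine ⟨Q, inferInstance, inferInstance, fun R g => ⟨?_, fun h => ?_⟩⟩
  · rintro ⟨p, rfl⟩
    let c : DynLib.Pt k C R := GrpQLib.ptOf (p ≫ CategoryTheory.inv e')
    have hc : HopfQuot.ptSpec (k := k) c = p ≫ CategoryTheory.inv e' :=
      (HopfQuot.ptSpec (k := k) (A := C) (T := R)).apply_symm_apply _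
    have e1 : GrpQLib.ptOf ((p ≫ iP) ≫ CategoryTheory.inv e) = DynLib.pull φ c := by
      refine (HopfQuot.ptSpec (k := k) (A := A) (T := R)).injective ?_
      refine ((HopfQuot.ptSpec (k := k) (A := A) (T := R)).apply_symm_apply _).trans ?_
      refine Eq.trans ?_ (HopfQuot.ptSpec_comp φ c)
      rw [hc, hφ]
      simp [jC]
    rw [e1]
    exact hkill R c
  · obtain ⟨c, hc⟩ := hlift R _ h
    refine ⟨HopfQuot.ptSpec (k := k) (A := C) (T := R) c ≫ e', ?_⟩
    have e2 : HopfQuot.ptSpec (k := k) (A := C) (T := R) c ≫ HopfQuot.specHom φ = g ≫ CategoryTheory.inv e := by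
      rw [HopfQuot.ptSpec_comp]
      show HopfQuot.ptSpec (k := k) (DynLib.pull φ c) = _
      rw [hc]
      exact (HopfQuot.ptSpec (k := k) (A := A) (T := R)).apply_symm_apply _
    rw [hφ] at e2
    rw [← cancel_mono (CategoryTheory.inv e)]
    simpa [jC] using e2

/-- A Borel subgroup such that every smooth connected subgroup containing it is its own normalizer. -/
theorem exists_borel_selfNormalizing :
    ∃ (B : Over (Spec (CommRingCat.of k))) (_ : GrpObj B) (iB : B ⟶ G), Red.IsBorelOver k iB ∧
      ∀ (P : Over (Spec (CommRingCat.of k))) [GrpObj P] (iP : P ⟶ G) [IsMonHom iP] (f : B ⟶ P),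
        IsClosedImmersion iP.left → Smooth P.hom → ConnectedSpace P.left → f ≫ iP = iB →
        ∀ (T : Over (Spec (CommRingCat.of k))) (g : T ⟶ G), NormsHom iP g → ∃ b : T ⟶ P, b ≫ iP = g := by
  haveI : QuasiCompact G.hom := (quasiCompact_iff_compactSpace G.hom).2 inferInstance
  haveI : IsReduced G.left := AbSchLib.isReduced_of_smooth G.hom
  haveI : IrreducibleSpace G.left := SGA3cLib.irreducibleSpace_of_connected G
  obtain ⟨A, _, _, e, _, _⟩ := HopfQuot.exists_spec (k := k) G
  haveI : IsIso e.left := inferInstanceAs (IsIso ((Over.forget _).map e))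
  haveI : IsMonHom (CategoryTheory.inv e) := inferInstanceAs (IsMonHom (asIso e).inv)
  haveI : LocallyOfFiniteType (HopfQuot.spec (k := k) A).hom := by rw [← Over.w e]; infer_instance
  haveI : Algebra.FiniteType k A :=
    RingHom.finiteType_algebraMap.1 ((HasRingHomProperty.Spec_iff (P := @LocallyOfFiniteType)
      (φ := CommRingCat.ofHom (algebraMap k A))).1 ‹LocallyOfFiniteType (HopfQuot.spec (k := k) A).hom›)
  haveI : IsReduced (Spec (CommRingCat.of A)) := by
    haveI hoi : IsOpenImmersion e.left := inferInstanceAs (IsOpenImmersion (asIso e.left).hom)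
    exact @isReduced_of_isOpenImmersion _ _ e.left hoi ‹_›
  haveI : IsIntegral (Spec (CommRingCat.of A)) := by
    haveI : IrreducibleSpace (Spec (CommRingCat.of A)) :=
      (asIso e.left).inv.homeomorph.surjective.irreducibleSpace (asIso e.left).inv.continuous
    exact isIntegral_of_irreducibleSpace_of_isReduced _
  haveI : IsDomain A := (affine_isIntegral_iff (CommRingCat.of A)).1 inferInstance
  obtain ⟨J, hJ, hJd, hJs, hJmax, hJn⟩ := exists_selfNormalizing (k := k) A
  haveI := hJ; haveI := hJd; haveI := hJs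
  let π := Bialgebra.Quotient.mkBialgHom (R := k) J
  let B := HopfQuot.spec (k := k) (A ⧸ J)
  let iB : B ⟶ G := HopfQuot.specHom π ≫ e
  haveI hcl : IsClosedImmersion iB.left := by
    haveI : IsClosedImmersion (HopfQuot.specHom (k := k) π).left := by
      rw [HopfQuot.specHom_left]
      exact IsClosedImmersion.spec_of_surjective _ Ideal.Quotient.mk_surjective
    rw [Over.comp_left]
    infer_instance
  haveI : IsAffine B.left := inferInstanceAs (IsAffine (Spec _))
  haveI : IsReduced B.left := inferInstanceAs (IsReduced (Spec (CommRingCat.of (A ⧸ J))))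
  haveI : LocallyOfFiniteType B.hom := by rw [← Over.w iB]; infer_instance
  haveI : QuasiCompact B.hom := (quasiCompact_iff_compactSpace B.hom).2 inferInstance
  haveI hsm : Smooth B.hom := by
    haveI : GeometricallyReduced B.hom := AbVarLib.geometricallyReduced_of_perfectField B.hom
    exact AbVarLib.smooth_of_geometricallyReduced B
  haveI hconn : ConnectedSpace B.left := inferInstanceAs (ConnectedSpace (PrimeSpectrum (A ⧸ J)))
  let K₀ : CommAlgCat.{u} k := CommAlgCat.of k k
  haveI : IsIso (toUnit (GrassLib.pt K₀)).left := by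
    have h : (toUnit (GrassLib.pt K₀)).left = (GrassLib.pt K₀).hom :=
      (Category.comp_id _).symm.trans (Over.w (toUnit (GrassLib.pt K₀)))
    rw [h]
    show IsIso (Spec.map (CommRingCat.ofHom (algebraMap k k)))
    rw [show CommRingCat.ofHom (algebraMap k k) = 𝟙 (CommRingCat.of k) from rfl, Spec.map_id]
    infer_instance
  haveI : IsIso (toUnit (GrassLib.pt K₀)) := (isIso_iff_of_reflects_iso _ (Over.forget _)).1 ‹_›
  haveI : Group.IsSolvable (𝟙_ (Over (Spec (CommRingCat.of k))) ⟶ B) := by
    let f : (𝟙_ (Over (Spec (CommRingCat.of k))) ⟶ B) →* ↥(subJ (k := k) J k) := MonoidHom.mk'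
      (fun g => ⟨DynLib.pull π (GrpQLib.ptOf (T := K₀) (toUnit (GrassLib.pt K₀) ≫ g)), ⟨_, rfl⟩⟩) fun g h => by
        refine Subtype.ext ?_
        show DynLib.pull π _ = DynLib.pull π _ * DynLib.pull π _
        rw [MonObj.comp_mul, AlgGrpLib.GrassAction.ptOf_mul]
        exact map_mul (DynLib.pull π) _ _
    exact solvable_of_solvable_injective (f := f) fun g h hgh =>
      (cancel_epi (toUnit (GrassLib.pt K₀))).1 ((HopfQuot.ptSpec (k := k) (A := A ⧸ J) (T := K₀)).symm.injective
        (DynLib.pull_injective π Ideal.Quotient.mk_surjective (congrArg Subtype.val hgh)))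
  have hB : Red.IsBorelOver k iB := by
    refine ⟨inferInstance, hcl, hsm, hconn, isSolvableGrp_of_points B,
      fun B' _ i' _ f hcl' hsm' hconn' hsolv' hf => ?_⟩
    haveI := hcl'; haveI := hsm'; haveI := hconn'
    haveI : IsAffine B'.left := isAffine_of_isAffineHom i'.left
    haveI : QuasiCompact B'.hom := (quasiCompact_iff_compactSpace B'.hom).2 inferInstance
    haveI : IsReduced B'.left := AbSchLib.isReduced_of_smooth B'.hom
    haveI : IrreducibleSpace B'.left := SGA3cLib.irreducibleSpace_of_connected B'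
    obtain ⟨C, _, _, e', _, _⟩ := HopfQuot.exists_spec (k := k) B'
    haveI : IsIso e'.left := inferInstanceAs (IsIso ((Over.forget _).map e'))
    haveI : IsReduced (Spec (CommRingCat.of C)) := by
      haveI hoi : IsOpenImmersion e'.left := inferInstanceAs (IsOpenImmersion (asIso e'.left).hom)
      exact @isReduced_of_isOpenImmersion _ _ e'.left hoi ‹_›
    haveI : IsIntegral (Spec (CommRingCat.of C)) := by
      haveI : IrreducibleSpace (Spec (CommRingCat.of C)) :=
        (asIso e'.left).inv.homeomorph.surjective.irreducibleSpace (asIso e'.left).inv.continuous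
      exact isIntegral_of_irreducibleSpace_of_isReduced _
    haveI : IsDomain C := (affine_isIntegral_iff (CommRingCat.of C)).1 inferInstance
    let jC : HopfQuot.spec (k := k) C ⟶ HopfQuot.spec A := e' ≫ i' ≫ CategoryTheory.inv e
    obtain ⟨φ, hφ⟩ := HopfQuot.exists_specHom jC
    have hφsur : Function.Surjective φ := by
      haveI : IsIso (CategoryTheory.inv e).left := inferInstanceAs (IsIso ((Over.forget _).map (CategoryTheory.inv e)))
      haveI : IsClosedImmersion (Spec.map (CommRingCat.ofHom (φ : A →+* C))) := by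
        rw [← HopfQuot.specHom_left, hφ, Over.comp_left, Over.comp_left]
        infer_instance
      exact surjective_of_isClosedImmersion_spec (CommRingCat.ofHom (φ : A →+* C))
    let f' : B ⟶ HopfQuot.spec (k := k) C := f ≫ CategoryTheory.inv e'
    have hf' : f' ≫ HopfQuot.specHom φ = HopfQuot.specHom π := by
      rw [hφ]
      simp [f', jC, reassoc_of% hf, iB]
    obtain ⟨ψ, hψ⟩ := Spec.map_surjective f'.left
    have hψ' : CommRingCat.ofHom (φ : A →+* C) ≫ ψ = CommRingCat.ofHom (π : A →+* A ⧸ J) := Spec.map_injective (by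
      rw [Spec.map_comp, hψ]
      exact congrArg CommaMorphism.left hf')
    have hψa : ∀ a, ψ.hom (φ a) = π a := fun a => congrArg (fun q => q.hom a) hψ'
    let J' : Ideal A := RingHom.ker (φ : A →+* C)
    haveI : J'.IsHopfIdeal k := DynLib.isHopfIdeal_of_subgroup J'
      (fun R _ _ => (DynLib.pull (R := R) φ).range) fun R _ _ g => by
        constructor
        · intro h
          let π' : A →ₐ[k] C := (φ : A →ₐ[k] C)
          refine ⟨toConv ((Ideal.Quotient.liftₐ (RingHom.ker π') g h).comp
            (Ideal.quotientKerAlgEquivOfSurjective (f := π') hφsur).symm.toAlgHom),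
            WithConv.ext (AlgHom.ext fun a => ?_)⟩
          have : (Ideal.quotientKerAlgEquivOfSurjective (f := π') hφsur).symm (π' a) = Ideal.Quotient.mk _ a :=
            (Ideal.quotientKerAlgEquivOfSurjective (f := π') hφsur).symm_apply_eq.2 rfl
          show Ideal.Quotient.liftₐ (RingHom.ker π') g h
            ((Ideal.quotientKerAlgEquivOfSurjective (f := π') hφsur).symm (π' a)) = _
          rw [this]
          rfl
        · rintro ⟨g', hg'⟩ a ha
          rw [show g = (DynLib.pull φ g').ofConv from (congrArg WithConv.ofConv hg').symm]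
          show g'.ofConv (φ a) = 0
          rw [show φ a = 0 from ha, map_zero]
    have hle : J' ≤ J := fun a ha => Ideal.Quotient.eq_zero_iff_mem.1 (by
      rw [show Ideal.Quotient.mk J a = π a from rfl, ← hψa, show φ a = 0 from ha, map_zero])
    haveI : IsDomain (A ⧸ J') := (RingHom.quotientKerEquivOfSurjective hφsur).toMulEquiv.isDomain C
    have hsJ' : Group.IsSolvable ↥(subJ (k := k) J' k) := by
      haveI : Group.IsSolvable (GrassLib.pt K₀ ⟶ B') := by
        obtain ⟨n, hn⟩ := hsolv'
        exact ⟨⟨n, hn _⟩⟩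
      let F : (GrassLib.pt K₀ ⟶ B') →* ↥(subJ (k := k) J' k) := MonoidHom.mk'
        (fun g => ⟨DynLib.pull φ (GrpQLib.ptOf (T := K₀) (g ≫ CategoryTheory.inv e')), mem_subJ.2 fun a ha => by
          show (GrpQLib.ptOf (T := K₀) (g ≫ CategoryTheory.inv e')).ofConv (φ a) = 0
          rw [show φ a = 0 from ha, map_zero]⟩) fun g h => by
          refine Subtype.ext ?_
          show DynLib.pull φ _ = DynLib.pull φ _ * DynLib.pull φ _
          haveI : IsMonHom (CategoryTheory.inv e') := inferInstanceAs (IsMonHom (asIso e').inv)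
          rw [MonObj.mul_comp, AlgGrpLib.GrassAction.ptOf_mul]
          exact map_mul (DynLib.pull φ) _ _
      refine solvable_of_surjective (f := F) fun w => ?_
      have hw := mem_subJ.1 w.2
      let π' : A →ₐ[k] C := (φ : A →ₐ[k] C)
      let c : C →ₐ[k] k := (Ideal.Quotient.liftₐ (RingHom.ker π') w.1.ofConv hw).comp
        (Ideal.quotientKerAlgEquivOfSurjective (f := π') hφsur).symm.toAlgHom
      refine ⟨HopfQuot.ptSpec (k := k) (A := C) (T := K₀) (toConv c) ≫ e', Subtype.ext ?_⟩
      show DynLib.pull φ (GrpQLib.ptOf (T := K₀) ((HopfQuot.ptSpec (k := k) (A := C) (T := K₀) (toConv c) ≫ e') ≫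
        CategoryTheory.inv e')) = w.1
      rw [Category.assoc, IsIso.hom_inv_id, Category.comp_id]
      refine Eq.trans (congrArg (DynLib.pull φ) (AlgGrpLib.GrassAction.ptOf_ptSpec (T := K₀) (toConv c))) ?_
      refine WithConv.ext (AlgHom.ext fun a => ?_)
      have : (Ideal.quotientKerAlgEquivOfSurjective (f := π') hφsur).symm (π' a) = Ideal.Quotient.mk _ a :=
        (Ideal.quotientKerAlgEquivOfSurjective (f := π') hφsur).symm_apply_eq.2 rfl
      show Ideal.Quotient.liftₐ (RingHom.ker π') w.1.ofConv hw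
        ((Ideal.quotientKerAlgEquivOfSurjective (f := π') hφsur).symm (π' a)) = _
      rw [this]
      rfl
    have heq : J' = J := hJmax J' hle inferInstance hsJ'
    have hbij : Function.Bijective ψ.hom := by
      refine ⟨(injective_iff_map_eq_zero _).2 fun c hc => ?_, fun y => ?_⟩
      · obtain ⟨a, rfl⟩ := hφsur c
        rw [hψa] at hc
        have ha : a ∈ J := Ideal.Quotient.eq_zero_iff_mem.1 hc
        rw [← heq] at ha
        exact ha
      · obtain ⟨a, rfl⟩ := Ideal.Quotient.mk_surjective y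
        exact ⟨φ a, hψa a⟩
    haveI : IsIso ψ := (ConcreteCategory.isIso_iff_bijective ψ).2 hbij
    haveI : IsIso f'.left := by rw [← hψ]; infer_instance
    haveI : IsIso f' := (isIso_iff_of_reflects_iso f' (Over.forget _)).1 ‹_›
    rw [show f = f' ≫ e' by simp [f']]
    infer_instance
  refine ⟨B, inferInstance, iB, hB, fun P _ iP _ f hPcl hPsm hPconn hf T g hg => ?_⟩
  haveI := hPcl; haveI := hPsm; haveI := hPconn
  haveI : Mono iP := Over.mono_of_mono_left _
  obtain ⟨Q, hQh, hQp, hQ⟩ := exists_ideal_of_closed e iP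
  haveI := hQh
  let R₀ : CommAlgCat.{u} k := CommAlgCat.of k (A ⧸ J)
  let c₀ : DynLib.Pt k (A ⧸ J) R₀ := toConv (AlgHom.id k (A ⧸ J))
  let b₀ : GrassLib.pt R₀ ⟶ B := HopfQuot.ptSpec (k := k) (A := A ⧸ J) c₀
  have hQJ : Q ≤ J := fun a ha => by
    have h0 := (hQ R₀ (b₀ ≫ iB)).1 ⟨b₀ ≫ f, by rw [Category.assoc, hf]⟩
    have e0 : GrpQLib.ptOf ((b₀ ≫ iB) ≫ CategoryTheory.inv e) = DynLib.pull π c₀ := by
      refine (HopfQuot.ptSpec (k := k) (A := A) (T := R₀)).injective ?_
      refine ((HopfQuot.ptSpec (k := k) (A := A) (T := R₀)).apply_symm_apply _).trans ?_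
      refine Eq.trans ?_ (HopfQuot.ptSpec_comp π c₀)
      simp [iB, b₀]
      rfl
    rw [e0] at h0
    exact Ideal.Quotient.eq_zero_iff_mem.1 (h0 a ha)
  have key : ∀ (R : CommAlgCat.{u} k) (p : GrassLib.pt R ⟶ T), ∃ b : GrassLib.pt R ⟶ P, b ≫ iP = p ≫ g := by
    intro R p
    let w : DynLib.Pt k A R := GrpQLib.ptOf ((p ≫ g) ≫ CategoryTheory.inv e)
    have hw : HopfQuot.ptSpec (k := k) w = (p ≫ g) ≫ CategoryTheory.inv e :=
      (HopfQuot.ptSpec (k := k) (A := A) (T := R)).apply_symm_apply _
    refine (hQ R (p ≫ g)).2 (hJn Q hQJ hQp R w fun R' _ _ φ b hb => ?_)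
    let T' : CommAlgCat.{u} k := CommAlgCat.of k R'
    let v : GrassLib.pt T' ⟶ GrassLib.pt R := Over.homMk (Spec.map (CommRingCat.ofHom φ.toRingHom)) (by
      show Spec.map _ ≫ Spec.map _ = Spec.map _
      rw [← Spec.map_comp]
      congr 1
      ext x
      exact φ.commutes x)
    let hG : GrassLib.pt T' ⟶ G := HopfQuot.ptSpec (k := k) (A := A) (T := T') b ≫ e
    have hG' : GrpQLib.ptOf (hG ≫ CategoryTheory.inv e) = b := by
      rw [Category.assoc, IsIso.hom_inv_id, Category.comp_id]
      exact AlgGrpLib.GrassAction.ptOf_ptSpec (T := T') b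
    obtain ⟨h, hh⟩ := (hQ T' hG).2 (by rw [hG']; exact hb)
    obtain ⟨h', hh'⟩ := hg _ (v ≫ p) h
    rw [Category.assoc v p g, hh] at hh'
    have h1 := (hQ T' _).1 ⟨h', hh'.symm⟩
    have hv : GrpQLib.ptOf ((v ≫ p ≫ g) ≫ CategoryTheory.inv e) = DynLib.push φ w := by
      refine (HopfQuot.ptSpec (k := k) (A := A) (T := T')).injective ?_
      refine ((HopfQuot.ptSpec (k := k) (A := A) (T := T')).apply_symm_apply _).trans ?_
      rw [Category.assoc, Category.assoc, ← Category.assoc p, ← hw]
      refine Over.OverMorphism.ext ?_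
      show Spec.map _ ≫ Spec.map _ = Spec.map _
      rw [← Spec.map_comp]
      rfl
    suffices heq : GrpQLib.ptOf (((v ≫ p ≫ g)⁻¹ * hG * (v ≫ p ≫ g)) ≫ CategoryTheory.inv e) =
        (DynLib.push φ w)⁻¹ * b * DynLib.push φ w by
      rw [← heq]
      exact h1
    rw [MonObj.mul_comp, MonObj.mul_comp, GrpObj.inv_comp, AlgGrpLib.GrassAction.ptOf_mul,
      AlgGrpLib.GrassAction.ptOf_mul, hG', ← hv]
    congr 2
    exact eq_inv_of_mul_eq_one_left (by
      rw [← AlgGrpLib.GrassAction.ptOf_mul, inv_mul_cancel, AlgGrpLib.GrassAction.ptOf_one])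
  choose Φ hΦ using key
  obtain ⟨b, hb⟩ := GrassLib.exists_hom (X := T) (Y := P) Φ fun R R' φ p p' hp => by
    rw [← cancel_mono iP.left, Category.assoc, ← Over.comp_left, hΦ, ← Over.comp_left, hΦ, Over.comp_left,
      Over.comp_left, hp, Category.assoc]
  exact ⟨b, GrassLib.hom_ext_points fun R p => by rw [← Category.assoc, hb, hΦ]⟩

/-- A point conjugating a smooth connected parabolic subgroup into itself lies in it. -/
theorem exists_factor_of_norms_parabolic {B P : Over (Spec (CommRingCat.of k))} [GrpObj B] [GrpObj P] {iB : B ⟶ G}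
    (hB : Red.IsBorelOver k iB) {iP : P ⟶ G} [IsMonHom iP] [IsClosedImmersion iP.left] [Smooth P.hom]
    [ConnectedSpace P.left] (f : B ⟶ P) (hf : f ≫ iP = iB) {T : Over (Spec (CommRingCat.of k))} (g : T ⟶ G)
    (hg : NormsHom iP g) : ∃ b : T ⟶ P, b ≫ iP = g := by
  obtain ⟨B₀, _, i₀, hB₀, h₀⟩ := exists_borel_selfNormalizing (G := G)
  obtain ⟨t, φ, hφ⟩ := borel_conj hB₀ hB
  have hcj : AGF.conjBy t i₀ = i₀ ≫ cj t⁻¹ := by
    rw [comp_cj]
    simp only [cst, AGF.conjBy, GrpObj.comp_inv, _root_.inv_inv]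
  rw [hcj] at hφ
  haveI : IsIso (cj t).left := inferInstanceAs (IsIso ((Over.forget _).map (cj t)))
  haveI : IsClosedImmersion (iP ≫ cj t).left := by rw [Over.comp_left]; infer_instance
  obtain ⟨b, hb⟩ := h₀ P (iP ≫ cj t) (φ.hom ≫ f) inferInstance inferInstance inferInstance (by
      rw [Category.assoc, reassoc_of% hf, reassoc_of% hφ, cj_comp, inv_mul_cancel, cj_one, Category.comp_id])
    T (g ≫ cj t) fun W w h => by
      obtain ⟨h', hh'⟩ := hg W w h
      refine ⟨h', ?_⟩
      rw [← reassoc_of% hh', MonObj.mul_comp, MonObj.mul_comp, GrpObj.inv_comp]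
      simp only [Category.assoc]
  exact ⟨b, by rw [← cancel_mono (cj t), Category.assoc, hb]⟩

/-- A point conjugating a Borel subgroup into itself lies in it. -/
theorem exists_factor_of_norms {B : Over (Spec (CommRingCat.of k))} [GrpObj B] {iB : B ⟶ G}
    (hB : Red.IsBorelOver k iB) {T : Over (Spec (CommRingCat.of k))} (g : T ⟶ G) (hg : NormsHom iB g) :
    ∃ b : T ⟶ B, b ≫ iB = g := by
  obtain ⟨hi, hcl, hsm, hconn, -⟩ := id hB
  haveI := hi; haveI := hcl; haveI := hsm; haveI := hconn
  exact exists_factor_of_norms_parabolic hB (𝟙 B) (Category.id_comp iB) g hg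

/-- A parabolic subgroup is connected. -/
theorem connectedSpace_of_isParabolicOver {P : Over (Spec (CommRingCat.of k))} [GrpObj P] {iP : P ⟶ G}
    (hP : Red.IsParabolicOver k iP) : ConnectedSpace P.left := by
  haveI : QuasiCompact G.hom := (quasiCompact_iff_compactSpace G.hom).2 inferInstance
  obtain ⟨hiP, hclP, hsmP, B, _, b, hB⟩ := hP
  haveI := hiP; haveI := hclP; haveI := hsmP
  haveI : IsAffine P.left := isAffine_of_isAffineHom iP.left
  haveI : QuasiCompact P.hom := (quasiCompact_iff_compactSpace P.hom).2 inferInstance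
  haveI : IsReduced P.left := AbSchLib.isReduced_of_smooth P.hom
  haveI : Mono iP := Over.mono_of_mono_left _
  let R : (𝟙_ (Over (Spec (CommRingCat.of k))) ⟶ P) →* (𝟙_ (Over (Spec (CommRingCat.of k))) ⟶ G) :=
    MonoidHom.mk' (fun p => p ≫ iP) fun p q => MonObj.mul_comp p q iP
  obtain ⟨H, _, i, hi, hcl, hsm, hconn, hpts, hlift⟩ := exists_neutral_subgroup R.range fun g hg => by
    have h1 : AlgGrpLib.ptOf g ∈ Set.range iP.left := closure_minimal (by
      rintro _ ⟨_, ⟨p, rfl⟩, rfl⟩
      exact ⟨AlgGrpLib.ptOf p, rfl⟩) iP.left.isClosedEmbedding.isClosed_range hg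
    obtain ⟨p, hp⟩ := exists_point_of_mem iP g h1
    exact ⟨p, hp⟩
  haveI := hi; haveI := hcl; haveI := hsm; haveI := hconn
  haveI : IsAffine H.left := isAffine_of_isAffineHom i.left
  haveI : QuasiCompact H.hom := (quasiCompact_iff_compactSpace H.hom).2 inferInstance
  haveI : IsReduced H.left := AbSchLib.isReduced_of_smooth H.hom
  haveI : Mono i := Over.mono_of_mono_left _
  obtain ⟨hib, -, hsmB, hconnB, -⟩ := id hB
  haveI := hib; haveI := hsmB; haveI := hconnB
  have hall : ∀ p : 𝟙_ (Over (Spec (CommRingCat.of k))) ⟶ P, ∃ h : 𝟙_ (Over (Spec (CommRingCat.of k))) ⟶ H,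
      h ≫ i = p ≫ iP := by
    intro p
    obtain ⟨f₀, hf₀⟩ := hlift B (b ≫ iP) fun c => ⟨c ≫ b, by simp [R]⟩
    obtain ⟨f₁, hf₁⟩ := hlift B ((b ≫ iP) ≫ cj (p ≫ iP)) fun c => ⟨p⁻¹ * (c ≫ b) * p, by
      show (p⁻¹ * (c ≫ b) * p) ≫ iP = c ≫ (b ≫ iP) ≫ cj (p ≫ iP)
      rw [← Category.assoc, comp_cj, MonObj.mul_comp, MonObj.mul_comp, GrpObj.inv_comp]
      simp [cst, toUnit_unique (toUnit (𝟙_ (Over (Spec (CommRingCat.of k))))) (𝟙 _)]⟩
    have hB₀ := isBorelOver_of_factor i f₀ hf₀ hB
    have hB₁ := isBorelOver_of_factor i f₁ hf₁ (isBorelOver_comp_cj hB (p ≫ iP))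
    obtain ⟨q, φ, hφ⟩ := borel_conj hB₀ hB₁
    have hcq : AGF.conjBy q f₀ = f₀ ≫ cj q⁻¹ := by
      rw [comp_cj]
      simp only [cst, AGF.conjBy, GrpObj.comp_inv, _root_.inv_inv]
    have hφ' := congrArg (fun m => m ≫ i) hφ
    simp only [Category.assoc, hf₁, hcq] at hφ'
    have hcji : cj q⁻¹ ≫ i = i ≫ cj (q ≫ i)⁻¹ := by
      rw [comp_cj]
      simp only [cj, cst, MonObj.mul_comp, GrpObj.inv_comp, Category.id_comp, Category.assoc]
    rw [hcji, reassoc_of% hf₀] at hφ'
    obtain ⟨c, hc⟩ := exists_factor_of_norms hB ((p ≫ iP) * (q ≫ i)) fun W w h => by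
      refine ⟨h ≫ φ.inv, ?_⟩
      have h2 := congrArg (fun m => (h ≫ φ.inv) ≫ m ≫ cj (q ≫ i)) hφ'
      simp only [Category.assoc, Iso.inv_hom_id_assoc, cj_comp, inv_mul_cancel, cj_one, Category.comp_id] at h2
      rw [Category.assoc, ← h2]
      simp only [← Category.assoc]
      rw [comp_cj]
      simp only [cst, Category.assoc]
      rw [toUnit_unique w (toUnit W)]
    obtain ⟨c', hc'⟩ : ∃ c' : 𝟙_ (Over (Spec (CommRingCat.of k))) ⟶ H, c' ≫ i = (p ≫ iP) * (q ≫ i) :=
      ⟨c ≫ f₀, by rw [Category.assoc, hf₀, hc]⟩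
    exact ⟨c' * q⁻¹, by rw [MonObj.mul_comp, GrpObj.inv_comp, hc', mul_inv_cancel_right]⟩
  obtain ⟨l, hl⟩ := exists_lift_of_points iP i fun p => by
    obtain ⟨h, hh⟩ := hall p
    rw [← hh]
    exact ⟨AlgGrpLib.ptOf h, rfl⟩
  obtain ⟨j, hj⟩ := exists_lift_of_points i iP fun h => by
    obtain ⟨p, hp⟩ := hpts h
    rw [← hp]
    exact ⟨AlgGrpLib.ptOf p, rfl⟩
  have e : l ≫ j = 𝟙 P := by rw [← cancel_mono iP, Category.assoc, hj, hl, Category.id_comp]
  refine Function.Surjective.connectedSpace (f := j.left) (fun x => ⟨l.left x, ?_⟩) j.left.continuous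
  exact congrArg (fun m => m.left x) e

end AlgClosed

section Field

variable {k : Type u} [Field k] {G B : Over (Spec (CommRingCat.of k))} [GrpObj G] [GrpObj B] [IsAffine G.left]
  [Smooth G.hom] [ConnectedSpace G.left]

/-- A point conjugating a Borel subgroup into itself lies in it, over any field. -/
theorem exists_factor_of_norms' {iB : B ⟶ G} (hB : Red.IsBorel iB) {T : Over (Spec (CommRingCat.of k))}
    (g : T ⟶ G) (h : NormsHom iB g) : ∃ b : T ⟶ B, b ≫ iB = g := by
  let s : Spec (CommRingCat.of k) := IsLocalRing.closedPoint k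
  haveI : Subsingleton ↥(Spec (CommRingCat.of k)) := inferInstanceAs (Subsingleton (PrimeSpectrum k))
  let q := Red.geomPt s
  haveI : Surjective q := ⟨fun y => ⟨IsLocalRing.closedPoint _, Subsingleton.elim _ _⟩⟩
  let F := Over.pullback q
  haveI : (Over.pullback q).IsRightAdjoint := (Over.mapPullbackAdj q).isRightAdjoint
  haveI : IsAffine (F.obj G).left := inferInstanceAs (IsAffine (pullback G.hom q))
  haveI : Smooth (F.obj G).hom := MorphismProperty.pullback_snd (P := @Smooth) G.hom q inferInstance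
  haveI : ConnectedSpace (F.obj G).left := by
    haveI : GeometricallyConnected G.hom :=
      AbSchLib.geometricallyConnected_of_section G.hom η[G].left (Over.w η[G]) fun y => by
        have hsurj : Function.Surjective (G.hom.fiberι y) := fun a => by
          have ha : a ∈ Set.range (G.hom.fiberι y) := by
            rw [Scheme.Hom.range_fiberι]
            exact Subsingleton.elim (α := PrimeSpectrum k) _ _
          exact ha
        let e := (G.hom.fiberι y).isEmbedding.toHomeomorphOfSurjective hsurj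
        exact e.symm.surjective.connectedSpace e.symm.continuous
    exact inferInstanceAs (ConnectedSpace ↥(pullback G.hom q))
  obtain ⟨b, hb⟩ := exists_factor_of_norms (hB.2.2.2 s) (F.map g) fun W w x => by
    obtain ⟨x, rfl⟩ := (SGA3cLib.BCPoints.pt q B W).surjective x
    obtain ⟨v, rfl⟩ := (SGA3cLib.BCPoints.pt q T W).surjective w
    obtain ⟨x', hx'⟩ := h _ v x
    refine ⟨SGA3cLib.BCPoints.pt q B W x', ?_⟩
    rw [← SGA3cLib.BCPoints.pt_comp, ← SGA3cLib.BCPoints.pt_comp, ← SGA3cLib.BCPoints.pt_inv,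
      ← SGA3cLib.BCPoints.pt_mul, ← SGA3cLib.BCPoints.pt_mul, hx', SGA3cLib.BCPoints.pt_comp]
  haveI : IsClosedImmersion iB.left := hB.2.1
  haveI : QuasiCompact (pullback.fst T.hom q) := inferInstance
  haveI : EffectiveEpi (pullback.fst T.hom q) := inferInstance
  have hb' : b.left ≫ pullback.fst B.hom q ≫ iB.left = pullback.fst T.hom q ≫ g.left := by
    have := congrArg (fun m => m.left ≫ pullback.fst G.hom q) hb
    simp only [q]
    simpa [F, q, Category.assoc] using this
  let d : T.left ⟶ B.left := EffectiveEpi.desc (pullback.fst T.hom q) (b.left ≫ pullback.fst B.hom q)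
    fun {W} x y hxy => by
      rw [← cancel_mono iB.left]
      simp only [Category.assoc, hb']
      rw [reassoc_of% hxy]
  have hd : d ≫ iB.left = g.left := by
    rw [← cancel_epi (pullback.fst T.hom q), EffectiveEpi.fac_assoc, Category.assoc, hb']
  exact ⟨Over.homMk d (by rw [← Over.w iB, ← Category.assoc, hd, Over.w]), Over.OverMorphism.ext hd⟩

/-- A point conjugating a parabolic subgroup into itself lies in it, over any field. -/
theorem exists_factor_of_norms_parabolic' {iB : B ⟶ G} (hB : Red.IsParabolic iB) {T : Over (Spec (CommRingCat.of k))}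
    (g : T ⟶ G) (h : NormsHom iB g) : ∃ b : T ⟶ B, b ≫ iB = g := by
  let s : Spec (CommRingCat.of k) := IsLocalRing.closedPoint k
  haveI : Subsingleton ↥(Spec (CommRingCat.of k)) := inferInstanceAs (Subsingleton (PrimeSpectrum k))
  let q := Red.geomPt s
  haveI : Surjective q := ⟨fun y => ⟨IsLocalRing.closedPoint _, Subsingleton.elim _ _⟩⟩
  let F := Over.pullback q
  haveI : (Over.pullback q).IsRightAdjoint := (Over.mapPullbackAdj q).isRightAdjoint
  haveI : IsAffine (F.obj G).left := inferInstanceAs (IsAffine (pullback G.hom q))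
  haveI : Smooth (F.obj G).hom := MorphismProperty.pullback_snd (P := @Smooth) G.hom q inferInstance
  haveI : ConnectedSpace (F.obj G).left := by
    haveI : GeometricallyConnected G.hom :=
      AbSchLib.geometricallyConnected_of_section G.hom η[G].left (Over.w η[G]) fun y => by
        have hsurj : Function.Surjective (G.hom.fiberι y) := fun a => by
          have ha : a ∈ Set.range (G.hom.fiberι y) := by
            rw [Scheme.Hom.range_fiberι]
            exact Subsingleton.elim (α := PrimeSpectrum k) _ _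
          exact ha
        let e := (G.hom.fiberι y).isEmbedding.toHomeomorphOfSurjective hsurj
        exact e.symm.surjective.connectedSpace e.symm.continuous
    exact inferInstanceAs (ConnectedSpace ↥(pullback G.hom q))
  haveI : ConnectedSpace (F.obj B).left := connectedSpace_of_isParabolicOver (hB.2.2.2 s)
  obtain ⟨hiF, hclF, hsmF, B₀, _, b₀, hB₀⟩ := hB.2.2.2 s
  haveI := hiF; haveI := hclF; haveI := hsmF
  obtain ⟨b, hb⟩ := exists_factor_of_norms_parabolic hB₀ b₀ rfl (F.map g) fun W w x => by
    obtain ⟨x, rfl⟩ := (SGA3cLib.BCPoints.pt q B W).surjective x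
    obtain ⟨v, rfl⟩ := (SGA3cLib.BCPoints.pt q T W).surjective w
    obtain ⟨x', hx'⟩ := h _ v x
    refine ⟨SGA3cLib.BCPoints.pt q B W x', ?_⟩
    rw [← SGA3cLib.BCPoints.pt_comp, ← SGA3cLib.BCPoints.pt_comp, ← SGA3cLib.BCPoints.pt_inv,
      ← SGA3cLib.BCPoints.pt_mul, ← SGA3cLib.BCPoints.pt_mul, hx', SGA3cLib.BCPoints.pt_comp]
  haveI : IsClosedImmersion iB.left := hB.2.1
  haveI : QuasiCompact (pullback.fst T.hom q) := inferInstance
  haveI : EffectiveEpi (pullback.fst T.hom q) := inferInstance
  have hb' : b.left ≫ pullback.fst B.hom q ≫ iB.left = pullback.fst T.hom q ≫ g.left := by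
    have := congrArg (fun m => m.left ≫ pullback.fst G.hom q) hb
    simp only [q]
    simpa [F, q, Category.assoc] using this
  let d : T.left ⟶ B.left := EffectiveEpi.desc (pullback.fst T.hom q) (b.left ≫ pullback.fst B.hom q)
    fun {W} x y hxy => by
      rw [← cancel_mono iB.left]
      simp only [Category.assoc, hb']
      rw [reassoc_of% hxy]
  have hd : d ≫ iB.left = g.left := by
    rw [← cancel_epi (pullback.fst T.hom q), EffectiveEpi.fac_assoc, Category.assoc, hb']
  exact ⟨Over.homMk d (by rw [← Over.w iB, ← Category.assoc, hd, Over.w]), Over.OverMorphism.ext hd⟩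

/-- A parabolic subgroup is connected and its own normalizer. -/
theorem parabolic_isNormalizerOf_self {iB : B ⟶ G} (hB : Red.IsParabolic iB) :
    ConnectedSpace B.left ∧ Red.IsNormalizerOf iB iB := by
  haveI := hB.1
  haveI := hB.2.1
  haveI : Mono iB := Over.mono_of_mono_left _
  refine ⟨?_, inferInstance, inferInstance, fun X g => ⟨?_, fun hg => exists_factor_of_norms_parabolic' hB g fun W w h =>
    (hg W w h).2⟩⟩
  · let s : Spec (CommRingCat.of k) := IsLocalRing.closedPoint k
    haveI : Subsingleton ↥(Spec (CommRingCat.of k)) := inferInstanceAs (Subsingleton (PrimeSpectrum k))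
    let q := Red.geomPt s
    haveI : Surjective q := ⟨fun y => ⟨IsLocalRing.closedPoint _, Subsingleton.elim _ _⟩⟩
    let F := Over.pullback q
    haveI : IsAffine (F.obj G).left := inferInstanceAs (IsAffine (pullback G.hom q))
    haveI : Smooth (F.obj G).hom := MorphismProperty.pullback_snd (P := @Smooth) G.hom q inferInstance
    haveI : ConnectedSpace (F.obj G).left := by
      haveI : GeometricallyConnected G.hom :=
        AbSchLib.geometricallyConnected_of_section G.hom η[G].left (Over.w η[G]) fun y => by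
          have hsurj : Function.Surjective (G.hom.fiberι y) := fun a => by
            have ha : a ∈ Set.range (G.hom.fiberι y) := by
              rw [Scheme.Hom.range_fiberι]
              exact Subsingleton.elim (α := PrimeSpectrum k) _ _
            exact ha
          let e := (G.hom.fiberι y).isEmbedding.toHomeomorphOfSurjective hsurj
          exact e.symm.surjective.connectedSpace e.symm.continuous
      exact inferInstanceAs (ConnectedSpace ↥(pullback G.hom q))
    haveI : ConnectedSpace ↥(pullback B.hom q) := connectedSpace_of_isParabolicOver (hB.2.2.2 s)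
    exact (pullback.fst B.hom q).surjective.connectedSpace (pullback.fst B.hom q).continuous
  rintro ⟨z, rfl⟩ X' x h
  constructor
  · exact ⟨(x ≫ z) * h * (x ≫ z)⁻¹, by simp [MonObj.mul_comp, GrpObj.inv_comp]⟩
  · exact ⟨(x ≫ z)⁻¹ * h * (x ≫ z), by simp [MonObj.mul_comp, GrpObj.inv_comp]⟩

/-- A Borel subgroup is its own normalizer. -/
theorem borel_isNormalizerOf_self {iB : B ⟶ G} (hB : Red.IsBorel iB) : Red.IsNormalizerOf iB iB := by
  haveI := hB.1
  haveI := hB.2.1
  haveI : Mono iB := Over.mono_of_mono_left _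
  refine ⟨inferInstance, inferInstance, fun X g => ⟨?_, fun hg => exists_factor_of_norms' hB g fun W w h =>
    (hg W w h).2⟩⟩
  rintro ⟨z, rfl⟩ X' x h
  constructor
  · exact ⟨(x ≫ z) * h * (x ≫ z)⁻¹, by simp [MonObj.mul_comp, GrpObj.inv_comp]⟩
  · exact ⟨(x ≫ z)⁻¹ * h * (x ≫ z), by simp [MonObj.mul_comp, GrpObj.inv_comp]⟩

end Field

end Groth.Agent.AGFQuot23
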