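import Groth.Agent.AGFQuot23.FlagConj
import Groth.Agent.AGFQuot23.BorelFun
import Groth.Agent.MaxTorus26.Basic
import Groth.Agent.AlgGrpLib.NoTorusScheme
import Groth.Agent.S3267

/-!
# Normal solvable subgroups lie in every Borel subgroup
-/

set_option autoImplicit false
set_option backward.isDefEq.respectTransparency false
set_option linter.style.haveILetI false

universe u

open CategoryTheory CategoryTheory.Limits MonoidalCategory CartesianMonoidalCategory MonObj GrpObj AlgebraicGeometry
open HopfRep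
open scoped TensorProduct

namespace Groth.Agent.AGFQuot23

variable {k : Type u} [Field k]

theorem isTrigonalizable_of_isUnipotent {A : Type u} [CommRing A] [HopfAlgebra k A] (h : IsUnipotent k A) :
    IsTrigonalizable k A := by
  intro V _ _ _ hfin hs
  haveI := hs.1
  obtain ⟨v, hv, hv0⟩ := Submodule.exists_mem_ne_zero_of_ne_bot (h V hfin inferInstance)
  have hsub : IsSubcomod (k := k) (A := A) (Submodule.span k {v}) := by
    intro y hy
    obtain ⟨c, rfl⟩ := Submodule.mem_span_singleton.1 hy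
    refine ⟨c • ((⟨v, Submodule.mem_span_singleton_self v⟩ : Submodule.span k {v}) ⊗ₜ (1 : A)), ?_⟩
    rw [map_smul, map_smul, LinearMap.rTensor_tmul, show Comod.coact (k := k) (A := A) v = v ⊗ₜ[k] (1 : A) from hv]
    rfl
  rcases hs.2 _ hsub with h0 | h0
  · exact absurd ((Submodule.span_singleton_eq_bot).1 h0) hv0
  · rw [← finrank_top k V, ← h0, finrank_span_singleton hv0]

variable [IsAlgClosed k]

theorem hasNoSubtorus_of_geomFibre {U : Over (Spec (CommRingCat.of k))} [GrpObj U] (s : Spec (CommRingCat.of k))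
    (h : Red.HasNoSubtorus (AlgebraicClosure ((Spec (CommRingCat.of k)).residueField s)) (Red.geomFibre s U)) :
    Red.HasNoSubtorus k U := by
  intro T _ j _ _ hT
  haveI := MaxTorus26.isIso_geomPt s
  haveI : (Over.pullback (Red.geomPt s)).IsRightAdjoint := (Over.mapPullbackAdj _).isRightAdjoint
  haveI : IsMonHom ((Over.pullback (Red.geomPt s)).map j) := inferInstance
  haveI : IsIso (pullback.snd T.hom (Red.geomPt s)) :=
    h (Red.geomFibre s T) ((Over.pullback (Red.geomPt s)).map j) (TorusAb27.isTorus_bc _ T hT)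
  show IsIso T.hom
  rw [← IsIso.inv_hom_id_assoc (pullback.fst T.hom (Red.geomPt s)) T.hom, pullback.condition]
  infer_instance

theorem isSolvableGrp_of_hasNoSubtorus (U : Over (Spec (CommRingCat.of k))) [GrpObj U] [IsAffine U.left]
    [Smooth U.hom] [ConnectedSpace U.left] (h : Red.HasNoSubtorus k U) : Red.IsSolvableGrp U := by
  haveI : QuasiCompact U.hom := (quasiCompact_iff_compactSpace U.hom).2 inferInstance
  obtain ⟨A, _, _, e, _, _⟩ := HopfQuot.exists_spec (k := k) U
  haveI : IsIso e.left := inferInstanceAs (IsIso ((Over.forget _).map e))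
  haveI : IsMonHom (CategoryTheory.inv e) := inferInstanceAs (IsMonHom (asIso e).inv)
  haveI : LocallyOfFiniteType (HopfQuot.spec (k := k) A).hom := by rw [← Over.w e]; infer_instance
  haveI : Algebra.FiniteType k A :=
    RingHom.finiteType_algebraMap.1 ((HasRingHomProperty.Spec_iff (P := @LocallyOfFiniteType)
      (φ := CommRingCat.ofHom (algebraMap k A))).1 ‹LocallyOfFiniteType (HopfQuot.spec (k := k) A).hom›)
  haveI : Group.IsSolvable (HopfQuot.Pt k A k) :=
    S3267.result k A (isTrigonalizable_of_isUnipotent (AlgGrpLib.NoTorus.isUnipotent_of_hasNoSubtorus h e))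
  let K₀ : CommAlgCat.{u} k := CommAlgCat.of k k
  let f : (GrassLib.pt K₀ ⟶ U) →* HopfQuot.Pt k A K₀ :=
    MonoidHom.mk' (fun g => GrpQLib.ptOf (g ≫ CategoryTheory.inv e)) fun g h => by
      rw [MonObj.mul_comp, AlgGrpLib.GrassAction.ptOf_mul]
  haveI : Group.IsSolvable (GrassLib.pt K₀ ⟶ U) := solvable_of_solvable_injective (f := f) fun g h hgh => by
    exact (cancel_mono (CategoryTheory.inv e)).1
      ((HopfQuot.ptSpec (k := k) (A := A) (T := K₀)).symm.injective hgh)
  obtain ⟨n, hn⟩ := (inferInstance : Group.IsSolvable (GrassLib.pt K₀ ⟶ U)).solvable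
  exact ⟨n, ((S5366.result k U k n).1).2 hn⟩

variable {G : Over (Spec (CommRingCat.of k))} [GrpObj G] [IsAffine G.left] [Smooth G.hom] [ConnectedSpace G.left]

/-- A normal smooth connected solvable subgroup lies in every Borel subgroup. -/
theorem exists_factor_of_normal {U B : Over (Spec (CommRingCat.of k))} [GrpObj U] [GrpObj B] (u : U ⟶ G) [IsMonHom u]
    [IsClosedImmersion u.left] [Smooth U.hom] [ConnectedSpace U.left] (hN : AlgGrp.IsNormalHom u)
    (hs : Red.IsSolvableGrp U) {iB : B ⟶ G} (hB : Red.IsBorelOver k iB) : ∃ f : U ⟶ B, f ≫ iB = u := by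
  haveI : QuasiCompact G.hom := (quasiCompact_iff_compactSpace G.hom).2 inferInstance
  obtain ⟨hi, hcl, hsm, hconn, -⟩ := id hB
  haveI := hi; haveI := hcl; haveI := hsm
  haveI : QuasiCompact B.hom := by rw [← Over.w iB]; infer_instance
  haveI : Mono iB := Over.mono_of_mono_left _
  obtain ⟨X, a, o, -, hLX, -, hfl, hsX, hpb⟩ := AlgGrpLib.HomogQuotProj.exists_quotient_projMono G B iB
  obtain ⟨g, h, hh⟩ := exists_factor_of_isProper u hs (a := a) (o := o) (iH := iB) ⟨hLX, hfl, hsX, hpb⟩
    (isProper_of_isBorelOver hB ⟨hLX, hfl, hsX, hpb⟩)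
  obtain ⟨c, hc⟩ := hN U (cst U g) (𝟙 U)
  refine ⟨c ≫ h, ?_⟩
  rw [Category.assoc, hh, ← Category.assoc, comp_cj, ← hc, Category.id_comp]
  group

theorem unipotentRadical_le {U B V : Over (Spec (CommRingCat.of k))} [GrpObj U] [GrpObj B] [GrpObj V] {u : U ⟶ G}
    (hU : Par.IsUnipotentRadical u) {iB : B ⟶ G} (hB : Red.IsBorelOver k iB) {v : V ⟶ B}
    (hV : Par.IsUnipotentRadical v) : ∃ f : U ⟶ V, f ≫ v ≫ iB = u := by
  obtain ⟨hu, hucl, huN, husm, huqc, hfib, -⟩ := hU
  obtain ⟨hiB, hcl, -⟩ := id hB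
  haveI := hu; haveI := hucl; haveI := husm; haveI := hiB; haveI := hcl
  let s : Spec (CommRingCat.of k) := IsLocalRing.closedPoint k
  haveI := MaxTorus26.isIso_geomPt s
  haveI : ConnectedSpace ↥(pullback U.hom (Red.geomPt s)) := (hfib s).1
  haveI : ConnectedSpace U.left :=
    (pullback.fst U.hom (Red.geomPt s)).surjective.connectedSpace (pullback.fst U.hom (Red.geomPt s)).continuous
  haveI : IsAffine U.left := isAffine_of_isAffineHom u.left
  obtain ⟨f, hf⟩ := exists_factor_of_normal u huN
    (isSolvableGrp_of_hasNoSubtorus U (hasNoSubtorus_of_geomFibre s (hfib s).2)) hB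
  haveI : Mono iB := Over.mono_of_mono_left _
  haveI : IsMonHom f :=
    { one_hom := by rw [← cancel_mono iB, Category.assoc, hf, IsMonHom.one_hom u, IsMonHom.one_hom iB]
      mul_hom := by
        rw [← cancel_mono iB, Category.assoc, hf, IsMonHom.mul_hom u, Category.assoc, IsMonHom.mul_hom iB,
          ← hf, tensorHom_comp_tensorHom_assoc] }
  haveI : IsClosedImmersion (f.left ≫ iB.left) := by rw [← Over.comp_left, hf]; exact hucl
  obtain ⟨f', hf'⟩ := hV.2.2.2.2.2.2 U f (IsClosedImmersion.of_comp f.left iB.left) (fun T g n => by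
    obtain ⟨n', hn'⟩ := huN T (g ≫ iB) n
    refine ⟨n', ?_⟩
    rw [← cancel_mono iB]
    simpa only [MonObj.mul_comp, GrpObj.inv_comp, Category.assoc, hf] using hn') husm huqc hfib
  exact ⟨f', by rw [← Category.assoc, hf', hf]⟩

end Groth.Agent.AGFQuot23
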