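import Groth.Agent.AGFQuot23.CellConj
import Groth.Agent.AGFQuot23.UnipRadical
import Groth.Agent.AlgGrpLib.CentreSolvable
import Groth.Agent.VarietyLib.GeomField

/-!
# A self-normalizing solvable subgroup

By induction along centralisers of cocharacters: a connected group has a maximal connected solvable subgroup `J` such
that every point, over any ring, conjugating `J` into itself lies in `J`.
-/

set_option autoImplicit false
set_option linter.style.haveILetI false
set_option backward.isDefEq.respectTransparency.types false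
set_option maxHeartbeats 1000000

noncomputable section

open LaurentPolynomial TensorProduct WithConv AlgebraicGeometry CategoryTheory
open Groth.Agent.DynLib

universe u

namespace Groth.Agent.AGFQuot23

variable {k : Type u} [Field k] {D : Type u} [CommRing D] [HopfAlgebra k D]

/-- A point killing an ideal. -/
abbrev In (J : Ideal D) {R : Type u} [CommRing R] [Algebra k R] (g : Pt k D R) : Prop :=
  ∀ a ∈ J, g.ofConv a = 0

/-- The points of the subgroup of a Hopf ideal. -/
def subJ (J : Ideal D) [J.IsHopfIdeal k] (R : Type u) [CommRing R] [Algebra k R] : Subgroup (Pt k D R) :=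
  (pull (R := R) (Bialgebra.Quotient.mkBialgHom (R := k) J)).range

theorem mem_subJ {J : Ideal D} [J.IsHopfIdeal k] {R : Type u} [CommRing R] [Algebra k R] {g : Pt k D R} :
    g ∈ subJ J R ↔ In J g := by
  constructor
  · rintro ⟨g', rfl⟩ a ha
    show g'.ofConv (Ideal.Quotient.mk J a) = 0
    rw [Ideal.Quotient.eq_zero_iff_mem.2 ha, map_zero]
  · intro h
    exact ⟨toConv (Ideal.Quotient.liftₐ J g.ofConv h), rfl⟩

/-- A point conjugating the subgroup of `J` into itself. -/
def Norms (J : Ideal D) {R : Type u} [CommRing R] [Algebra k R] (x : Pt k D R) : Prop :=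
  ∀ (R' : Type u) [CommRing R'] [Algebra k R'] (φ : R →ₐ[k] R') (b : Pt k D R'),
    In J b → In J ((push φ x)⁻¹ * b * push φ x)

section Norms

variable {J : Ideal D} [J.IsHopfIdeal k] {R : Type u} [CommRing R] [Algebra k R] {x : Pt k D R}

theorem In.pushPt {R' : Type u} [CommRing R'] [Algebra k R'] {g : Pt k D R} (hg : In J g) (φ : R →ₐ[k] R') :
    In J (DynLib.push φ g) := fun a ha => by rw [push_apply, hg a ha, map_zero]

theorem Norms.pushPt {R' : Type u} [CommRing R'] [Algebra k R'] (hx : Norms J x) (φ : R →ₐ[k] R') :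
    Norms J (DynLib.push φ x) := fun R'' _ _ ψ b hb => by
  rw [push_push]
  exact hx R'' _ b hb

theorem Norms.mul_right (hx : Norms J x) {b : Pt k D R} (hb : In J b) : Norms J (x * b) := fun R' _ _ φ c hc => by
  refine mem_subJ.1 ?_
  rw [map_mul, _root_.mul_inv_rev, show ((push φ b)⁻¹ * (push φ x)⁻¹) * c * (push φ x * push φ b) =
    (push φ b)⁻¹ * ((push φ x)⁻¹ * c * push φ x) * push φ b from by group]
  exact mul_mem (mul_mem (inv_mem (mem_subJ.2 (hb.pushPt φ))) (mem_subJ.2 (hx R' φ c hc))) (mem_subJ.2 (hb.pushPt φ))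

theorem Norms.mul_left (hx : Norms J x) {b : Pt k D R} (hb : In J b) : Norms J (b * x) := fun R' _ _ φ c hc => by
  rw [map_mul, _root_.mul_inv_rev, show ((push φ x)⁻¹ * (push φ b)⁻¹) * c * (push φ b * push φ x) =
    (push φ x)⁻¹ * ((push φ b)⁻¹ * c * push φ b) * push φ x from by group]
  exact hx R' φ _ (mem_subJ.1 (mul_mem (mul_mem (inv_mem (mem_subJ.2 (hb.pushPt φ))) (mem_subJ.2 hc))
    (mem_subJ.2 (hb.pushPt φ))))

/-- The conjugators of `J` are cut out by an ideal. -/
theorem exists_norm_ideal (J : Ideal D) :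
    ∃ N : Ideal D, ∀ (R : Type u) [CommRing R] [Algebra k R] (x : Pt k D R), In N x ↔ Norms J x := by
  let B := D ⧸ J
  let il : D →ₐ[k] D ⊗[k] B := Algebra.TensorProduct.includeLeft
  let ir : B →ₐ[k] D ⊗[k] B := Algebra.TensorProduct.includeRight
  let πB : Pt k D B := toConv (Ideal.Quotient.mkₐ k J)
  let Φ : Pt k D (D ⊗[k] B) := (push il (toConv (AlgHom.id k D)))⁻¹ * push ir πB * push il (toConv (AlgHom.id k D))
  let bs := Algebra.TensorProduct.basis D (Module.Free.chooseBasis k B)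
  refine ⟨Ideal.span {c | ∃ a ∈ J, ∃ i, bs.repr (Φ.ofConv a) i = c}, fun R _ _ x => ⟨fun hx R' _ _ φ b hb => ?_, fun hx => ?_⟩⟩
  · let ψ : B →ₐ[k] R' := Ideal.Quotient.liftₐ J b.ofConv hb
    let L : D ⊗[k] B →ₐ[k] R' := Algebra.TensorProduct.lift (φ.comp x.ofConv) ψ fun _ _ => .all _ _
    have e1 : push L (push il (toConv (AlgHom.id k D))) = push φ x := by
      rw [push_push]
      exact WithConv.ext (AlgHom.ext fun a => by simp [L, il])
    have e2 : push L (push ir πB) = b := by
      rw [push_push]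
      refine WithConv.ext (AlgHom.ext fun a => ?_)
      show L (1 ⊗ₜ Ideal.Quotient.mk J a) = _
      refine (Algebra.TensorProduct.lift_tmul _ _ _ _ _).trans ?_
      rw [map_one, one_mul]
      rfl
    intro a ha
    rw [← e1, ← e2, ← map_inv, ← map_mul, ← map_mul, push_apply]
    show L (Φ.ofConv a) = 0
    conv_lhs => rw [← bs.linearCombination_repr (Φ.ofConv a)]
    rw [Finsupp.linearCombination_apply, Finsupp.sum, map_sum]
    refine Finset.sum_eq_zero fun i _ => ?_
    show L ((bs.repr (Φ.ofConv a) i) • bs i) = 0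
    rw [Algebra.smul_def (A := D ⊗[k] B), map_mul, show L (algebraMap D (D ⊗[k] B) (bs.repr (Φ.ofConv a) i)) =
      φ (x.ofConv (bs.repr (Φ.ofConv a) i)) from by
        refine (Algebra.TensorProduct.lift_tmul _ _ _ _ _).trans ?_
        rw [map_one, _root_.mul_one]
        rfl,
      hx _ (Ideal.subset_span ⟨a, ha, i, rfl⟩), map_zero, zero_mul]
  · show ∀ a ∈ Ideal.span _, x.ofConv a = 0
    rw [kills_span_iff]
    rintro _ ⟨a, ha, i, rfl⟩
    let il' : R →ₐ[k] R ⊗[k] B := Algebra.TensorProduct.includeLeft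
    let ir' : B →ₐ[k] R ⊗[k] B := Algebra.TensorProduct.includeRight
    let L : D ⊗[k] B →ₐ[k] R ⊗[k] B := Algebra.TensorProduct.map x.ofConv (AlgHom.id k B)
    have hb : In J (push ir' πB) := fun c hc => by
      show ir' (Ideal.Quotient.mk J c) = 0
      rw [Ideal.Quotient.eq_zero_iff_mem.2 hc, map_zero]
    have h := hx _ il' _ hb a ha
    have e1 : push L (push il (toConv (AlgHom.id k D))) = push il' x := by
      rw [push_push]
      exact WithConv.ext (AlgHom.ext fun a => by simp [L, il, il'])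
    have e2 : push L (push ir πB) = push ir' πB := by
      rw [push_push]
      exact congrArg (fun f => push f πB) (AlgHom.ext fun a => by simp [L, ir, ir'])
    rw [← e1, ← e2, ← map_inv, ← map_mul, ← map_mul, push_apply] at h
    change L (Φ.ofConv a) = 0 at h
    let bc := Module.Free.chooseBasis k B
    have hr : ∀ t : D ⊗[k] B, (Algebra.TensorProduct.basis R bc).repr (L t) i = x.ofConv (bs.repr t i) := by
      intro t
      induction t using TensorProduct.induction_on with
      | zero => simp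
      | add p q hp hq => simp only [map_add, Finsupp.add_apply, hp, hq]
      | tmul p q => simp [L, bs, bc, Algebra.TensorProduct.basis_repr_tmul]
    rw [← hr, h, map_zero, Finsupp.zero_apply]

end Norms

theorem pre_comm (lam : D →ₐc[k] k[T;T⁻¹]) {R : Type u} [CommRing R] [Algebra k R] (u v : k[T;T⁻¹] →ₐ[k] R) :
    pre lam u * pre lam v = pre lam v * pre lam u := by
  rw [pre_mul lam u v (toConv u * toConv v).ofConv (by
      show _ = (toConv u * toConv v) (T 1)
      rw [AlgHom.convMul_apply, LaurentPolynomial.comul_T, Algebra.TensorProduct.lift_tmul]),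
    pre_mul lam v u (toConv u * toConv v).ofConv (by
      show _ = (toConv u * toConv v) (T 1)
      rw [AlgHom.convMul_apply, LaurentPolynomial.comul_T, Algebra.TensorProduct.lift_tmul]
      exact mul_comm _ _)]

theorem conj_pre (lam : D →ₐc[k] k[T;T⁻¹]) {R : Type u} [CommRing R] [Algebra k R] (u : k[T;T⁻¹] →ₐ[k] R) :
    conj R lam (pre lam u) = push (DynLib.cst k R) (pre lam u) := by
  rw [conj_apply, push_pre, pre_comm, mul_inv_cancel_right]

theorem isDomain_oneIdeal [Algebra.FiniteType k D] [IsDomain D] (lam : D →ₐc[k] k[T;T⁻¹]) :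
    IsDomain (D ⧸ oneIdeal lam) := by
  let mu := (invertHom k).comp lam
  have hneg : (lam : D →ₐ[k] k[T;T⁻¹]) = Dyn.negParam k D mu := by
    rw [← invertHom_comp_eq mu]
    refine AlgHom.ext fun a => ?_
    show lam a = (invertHom k : k[T;T⁻¹] →ₐ[k] k[T;T⁻¹]) ((invertHom k : k[T;T⁻¹] →ₐ[k] k[T;T⁻¹]) (lam a))
    have e : ((invertHom k : k[T;T⁻¹] →ₐ[k] k[T;T⁻¹]).comp (invertHom k : k[T;T⁻¹] →ₐ[k] k[T;T⁻¹])) =
        AlgHom.id k _ := Lext' (by simp [invertHom])
    exact (DFunLike.congr_fun e (lam a)).symm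
  let Jm := oneIdeal lam
  let Jp := limIdeal mu
  have hopen := isOpenImmersion_cell_field (k := k) (A := D) (lam := mu) (lamNeg := lam) hneg (Jm := Jm) (Jp := Jp)
    (fun R _ _ g => (kills_limIdeal_iff mu g).trans (limExists_iff mu g).symm)
    fun R _ _ g => (kills_oneIdeal_iff lam g).trans (limIsOne_iff lam g).symm
  have hem : ∀ a ∈ Jm, Bialgebra.counitAlgHom k D a = 0 := (kills_oneIdeal_iff lam (Bialgebra.counitAlgHom k D)).2
    (show (1 : Pt k D k) ∈ oneSub k lam from one_mem _)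
  have hep : ∀ a ∈ Jp, Bialgebra.counitAlgHom k D a = 0 := (kills_limIdeal_iff mu (Bialgebra.counitAlgHom k D)).2
    (show (1 : Pt k D k) ∈ limSub k mu from one_mem _)
  let em : D ⧸ Jm →ₐ[k] k := Ideal.Quotient.liftₐ Jm _ hem
  let ep : D ⧸ Jp →ₐ[k] k := Ideal.Quotient.liftₐ Jp _ hep
  haveI : Nonempty ↥(Spec (CommRingCat.of ((D ⧸ Jm) ⊗[k] (D ⧸ Jp)))) := by
    let e : (D ⧸ Jm) ⊗[k] (D ⧸ Jp) →ₐ[k] k := Algebra.TensorProduct.lift em ep fun _ _ => .all _ _
    exact ⟨⟨RingHom.ker e, RingHom.ker_isPrime e⟩⟩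
  haveI := hopen
  haveI : IsIntegral (Spec (CommRingCat.of D)) := inferInstance
  haveI : IsIntegral (Spec (CommRingCat.of ((D ⧸ Jm) ⊗[k] (D ⧸ Jp)))) :=
    isIntegral_of_isOpenImmersion (Spec.map (CommRingCat.ofHom (DynLib.cellHom k Jm Jp).toRingHom))
  haveI : IsDomain ((D ⧸ Jm) ⊗[k] (D ⧸ Jp)) := (affine_isIntegral_iff (R := CommRingCat.of _)).1 ‹_›
  have hinj : Function.Injective
      (Algebra.TensorProduct.includeLeft : D ⧸ Jm →ₐ[k] (D ⧸ Jm) ⊗[k] (D ⧸ Jp)) := fun x y h => by
    have := congrArg (Algebra.TensorProduct.lift (AlgHom.id k (D ⧸ Jm)) ((Algebra.ofId k (D ⧸ Jm)).comp ep)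
      fun _ _ => .all _ _) h
    simpa using this
  exact Function.Injective.isDomain
    (Algebra.TensorProduct.includeLeft : D ⧸ Jm →ₐ[k] (D ⧸ Jm) ⊗[k] (D ⧸ Jp)).toRingHom hinj

/-- The centraliser of a cocharacter in a closed connected subgroup containing it is integral. -/
theorem isDomain_sup_centralizer [Algebra.FiniteType k D] (lam : D →ₐc[k] k[T;T⁻¹]) (J : Ideal D) [J.IsHopfIdeal k]
    [IsDomain (D ⧸ J)] (hJ : ∀ a ∈ J, lam a = 0) {Z : Ideal D}
    (hZ : ∀ (R : Type u) [CommRing R] [Algebra k R] (g : Pt k D R), In Z g ↔ conj R lam g = push (DynLib.cst k R) g) :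
    IsDomain (D ⧸ (J ⊔ Z)) := by
  let π := Bialgebra.Quotient.mkBialgHom (R := k) J
  have hπ : Function.Surjective π := Ideal.Quotient.mk_surjective
  let f : D ⧸ J →ₐ[k] k[T;T⁻¹] := Ideal.Quotient.liftₐ J (lam : D →ₐ[k] k[T;T⁻¹]) hJ
  have hf : ∀ x, f (π x) = lam x := fun x => rfl
  let lam' : D ⧸ J →ₐc[k] k[T;T⁻¹] := BialgHom.ofAlgHom f (AlgHom.ext fun y => by
      obtain ⟨x, rfl⟩ := hπ y
      simp only [AlgHom.comp_apply, Bialgebra.counitAlgHom_apply, hf, CoalgHomClass.counit_comp_apply])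
    (AlgHom.ext fun y => by
      obtain ⟨x, rfl⟩ := hπ y
      simp only [AlgHom.comp_apply, Bialgebra.comulAlgHom_apply, hf]
      rw [← CoalgHomClass.map_comp_comul_apply π x, ← CoalgHomClass.map_comp_comul_apply lam x]
      generalize CoalgebraStruct.comul (R := k) x = t
      induction t using TensorProduct.induction_on with
      | zero => simp
      | add p q hp hq => simp only [map_add, hp, hq]
      | tmul p q => rfl)
  have hlam : lam'.comp π = lam := DFunLike.ext _ _ hf
  let Z' := limIdeal lam' ⊔ limIdeal ((invertHom k).comp lam')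
  haveI := AlgGrpLib.CentreSolvable.isDomain_centralizer lam'
  haveI := isHopfIdeal_limIdeal lam'
  haveI := isHopfIdeal_limIdeal ((invertHom k).comp lam')
  have hZ' : ∀ (R : Type u) [CommRing R] [Algebra k R] (g : Pt k (D ⧸ J) R),
      In Z' g ↔ conj R lam (pull π g) = push (DynLib.cst k R) (pull π g) := fun R _ _ g => by
    have h := S3309.result k (D ⧸ J) lam' ((invertHom k).comp lam') (invertHom_comp_eq lam') (limIdeal lam')
      (limIdeal ((invertHom k).comp lam'))
      (fun R _ _ g => (kills_limIdeal_iff lam' g).trans (limExists_iff lam' g).symm)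
      (fun R _ _ g => (kills_limIdeal_iff _ g).trans (limExists_iff _ g).symm) R g.ofConv
    beta_reduce at h
    rw [conjOrbit_eq, toConv_ofConv] at h
    refine h.trans ?_
    rw [← hlam, conj_pull]
    constructor
    · intro e
      rw [WithConv.ext e]
      rfl
    · intro e
      exact congrArg WithConv.ofConv (pull_injective π hπ (e.trans rfl))
  let K := J ⊔ Z
  let g₁ : Pt k (D ⧸ J) (D ⧸ K) := toConv (Ideal.Quotient.factorₐ k (le_sup_left : J ≤ K))
  have h1 : In Z' g₁ := (hZ' _ g₁).2 ((hZ _ _).1 fun a ha =>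
    Ideal.Quotient.eq_zero_iff_mem.2 (Submodule.mem_sup_right ha))
  let φ₁ : (D ⧸ J) ⧸ Z' →ₐ[k] D ⧸ K := Ideal.Quotient.liftₐ Z' g₁.ofConv h1
  let g₂ : Pt k D ((D ⧸ J) ⧸ Z') := pull π (toConv (Ideal.Quotient.mkₐ k Z'))
  have h2 : In K g₂ := fun a ha => by
    obtain ⟨p, hp, q, hq, rfl⟩ := Submodule.mem_sup.1 ha
    rw [map_add, show g₂.ofConv p = 0 from (by
      show Ideal.Quotient.mk Z' (π p) = 0
      rw [show π p = 0 from Ideal.Quotient.eq_zero_iff_mem.2 hp, map_zero]),
      (hZ _ g₂).2 ((hZ' _ _).1 fun c hc => Ideal.Quotient.eq_zero_iff_mem.2 hc) q hq, add_zero]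
  let φ₂ : D ⧸ K →ₐ[k] (D ⧸ J) ⧸ Z' := Ideal.Quotient.liftₐ K g₂.ofConv h2
  have h12 : ∀ y, φ₁ (φ₂ y) = y := fun y => by
    obtain ⟨x, rfl⟩ := Ideal.Quotient.mk_surjective y
    rfl
  exact Function.Injective.isDomain φ₂.toRingHom (Function.LeftInverse.injective h12)

section Cell

variable [IsAlgClosed k] [Algebra.FiniteType k D] [IsDomain D]

/-- A point near `J` normalising `J` lies in `J`, once this is known on the big cell. -/
theorem in_of_norms (lam : D →ₐc[k] k[T;T⁻¹]) (J : Ideal D) [J.IsHopfIdeal k] [J.IsPrime]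
    (hU : ∀ (R : Type u) [CommRing R] [Algebra k R] (g : Pt k D R), g ∈ oneSub R lam → In J g)
    (hlam : ∀ (R : Type u) [CommRing R] [Algebra k R] (u : k[T;T⁻¹] →ₐ[k] R), In J (pre lam u))
    (hZ : ∀ (R : Type u) [CommRing R] [Algebra k R] (l : Pt k D R),
      conj R lam l = push (DynLib.cst k R) l → Norms J l → In J l) :
    ∀ (R : Type u) [CommRing R] [Algebra k R] (x : Pt k D R), Norms J x → In J x := by
  let lamN := (invertHom k).comp lam
  -- the big cell
  have claim1 : ∀ (R : Type u) [CommRing R] [Algebra k R] (v p : Pt k D R), v ∈ oneSub R lamN → p ∈ limSub R lam →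
      Norms J (v * p) → In J (v * p) := by
    intro R _ _ v p hv hp hn
    obtain ⟨hp', hhp⟩ := hp
    let l : Pt k D R := push (ev0 k R) hp'
    have hl : conj R lam l = push (DynLib.cst k R) l := conj_limit lam p hp' hhp
    let c := push ((Polynomial.CAlgHom (R := R)).restrictScalars k) l
    have hc : push (jay k R) c = conj R lam l := by
      rw [hl, push_push]
      refine congrArg (fun φ => push φ l) (AlgHom.ext fun x => ?_)
      rw [cst_apply]
      exact Polynomial.toLaurent_C x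
    have hu : In J (l⁻¹ * p) := hU R _ ⟨c⁻¹ * hp', by
      show push (ev0 k R) (c⁻¹ * hp') = 1
      rw [map_mul, map_inv, lim_eq_self hl hc]
      exact inv_mul_cancel l, by rw [map_mul, map_inv, hc, hhp, map_mul, map_inv]⟩
    have hn' : Norms J (v * l) := by
      have := hn.mul_right (mem_subJ.1 (inv_mem (mem_subJ.2 hu)))
      rwa [show v * p * (l⁻¹ * p)⁻¹ = v * l from by group] at this
    obtain ⟨hv', hv0, hhv⟩ := hv
    replace hv0 : push (ev0 k R) hv' = 1 := hv0
    let t : Pt k D R[T;T⁻¹] := pre lamN (tee k R)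
    have ht : In J t := fun a ha => by
      show tee k R ((invertHom k : k[T;T⁻¹] →ₐ[k] k[T;T⁻¹]) (lam a)) = 0
      exact hlam _ ((tee k R).comp (invertHom k : k[T;T⁻¹] →ₐ[k] k[T;T⁻¹])) a ha
    have hlN : conj R lamN l = push (DynLib.cst k R) l := conj_invert_eq_cst l hl
    have htl : t * push (DynLib.cst k R) l = push (DynLib.cst k R) l * t := by
      rw [conj_apply] at hlN
      exact mul_inv_eq_iff_eq_mul.1 hlN
    have key : In J (push (DynLib.cst k R) l⁻¹ * push (DynLib.cst k R) v⁻¹ * conj R lamN v * push (DynLib.cst k R) l) := by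
      refine mem_subJ.1 ?_
      have h1 := mem_subJ.2 (hn' _ (DynLib.cst k R) t ht)
      have h2 := inv_mem (mem_subJ.2 ht)
      have h3 := mul_mem h1 h2
      convert h3 using 1
      rw [map_mul, conj_apply, map_inv, map_inv]
      show _ = (push (DynLib.cst k R) v * push (DynLib.cst k R) l)⁻¹ * t * (push (DynLib.cst k R) v * push (DynLib.cst k R) l) * t⁻¹
      calc (push (DynLib.cst k R) l)⁻¹ * (push (DynLib.cst k R) v)⁻¹ * (t * push (DynLib.cst k R) v * t⁻¹) * push (DynLib.cst k R) l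
          = (push (DynLib.cst k R) v * push (DynLib.cst k R) l)⁻¹ * t * push (DynLib.cst k R) v *
              (t⁻¹ * push (DynLib.cst k R) l) := by group
        _ = (push (DynLib.cst k R) v * push (DynLib.cst k R) l)⁻¹ * t * push (DynLib.cst k R) v *
              (push (DynLib.cst k R) l * t⁻¹) := by
            congr 1
            rw [inv_mul_eq_iff_eq_mul, ← _root_.mul_assoc, htl, mul_inv_cancel_right]
        _ = _ := by group
    let C : Pt k D R →* Pt k D (Polynomial R) := push ((Polynomial.CAlgHom (R := R)).restrictScalars k)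
    have hC : ∀ g : Pt k D R, push (jay k R) (C g) = push (DynLib.cst k R) g := fun g => by
      rw [push_push]
      refine congrArg (fun φ => push φ g) (AlgHom.ext fun x => ?_)
      rw [cst_apply]
      exact Polynomial.toLaurent_C x
    have h0 : In J (C l⁻¹ * C v⁻¹ * hv' * C l) := fun a ha => jay_injective (k := k) (R := R) (by
      rw [map_zero, ← push_apply, map_mul, map_mul, map_mul, hC, hC, hC, hhv]
      exact key a ha)
    have h1 := In.pushPt h0 (ev0 k R)
    have hev : ∀ g : Pt k D R, push (ev0 k R) (C g) = g := fun g => by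
      rw [push_push]
      exact WithConv.ext (AlgHom.ext fun x => by simp [ev0_apply])
    rw [map_mul, map_mul, map_mul, hev, hev, hev, hv0, _root_.mul_one] at h1
    have h2 : In J (l⁻¹ * v * l) := by
      have := mem_subJ.1 (inv_mem (mem_subJ.2 h1))
      rwa [show (l⁻¹ * v⁻¹ * l)⁻¹ = l⁻¹ * v * l from by group] at this
    have h3 : In J l := hZ R l hl (by
      have := hn'.mul_right (mem_subJ.1 (inv_mem (mem_subJ.2 h2)))
      rwa [show v * l * (l⁻¹ * v * l)⁻¹ = l from by group] at this)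
    refine mem_subJ.1 ?_
    rw [show v * p = l * (l⁻¹ * v * l) * (l⁻¹ * p) from by group]
    exact mul_mem (mul_mem (mem_subJ.2 h3) (mem_subJ.2 h2)) (mem_subJ.2 hu)
  let Jm := oneIdeal lamN
  let Jp := limIdeal lam
  haveI hci := isOpenImmersion_cell_field (k := k) (A := D) (lam := lam) (lamNeg := lamN) (invertHom_comp_eq lam)
    (Jm := Jm) (Jp := Jp) (fun R _ _ g => (kills_limIdeal_iff lam g).trans (limExists_iff lam g).symm)
    fun R _ _ g => (kills_oneIdeal_iff lamN g).trans (limIsOne_iff lamN g).symm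
  let ci := Spec.map (CommRingCat.ofHom (cellHom k Jm Jp).toRingHom)
  have hΩ : IsOpen (Set.range ci : Set (PrimeSpectrum D)) := ci.isOpenEmbedding.isOpen_range
  have hfact : ∀ (R : Type u) [CommRing R] [IsLocalRing R] [Algebra k R] (x : Pt k D R),
      PrimeSpectrum.comap x.ofConv.toRingHom (IsLocalRing.closedPoint R) ∈ Set.range ci →
        ∃ v p, v ∈ oneSub R lamN ∧ p ∈ limSub R lam ∧ x = v * p := by
    intro R _ _ _ x hx
    let f : Spec (CommRingCat.of R) ⟶ Spec (CommRingCat.of D) := Spec.map (CommRingCat.ofHom x.ofConv.toRingHom)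
    have hr : Set.range f ⊆ Set.range ci := by
      rintro _ ⟨y, rfl⟩
      exact ((IsLocalRing.specializes_closedPoint y).map f.continuous).mem_open hΩ hx
    obtain ⟨ψ, hψ⟩ := Spec.map_surjective (IsOpenImmersion.lift ci f hr)
    have hψ' : CommRingCat.ofHom (cellHom k Jm Jp).toRingHom ≫ ψ = CommRingCat.ofHom x.ofConv.toRingHom :=
      Spec.map_injective (by rw [Spec.map_comp, hψ, IsOpenImmersion.lift_fac])
    let φ : (D ⧸ Jm) ⊗[k] (D ⧸ Jp) →ₐ[k] R :=
      { ψ.hom with
        commutes' := fun c => by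
          have h := congrArg (fun q => q.hom (algebraMap k D c)) hψ'
          change ψ.hom (cellHom k Jm Jp (algebraMap k D c)) = x.ofConv (algebraMap k D c) at h
          rw [AlgHom.commutes, AlgHom.commutes] at h
          exact h }
    refine ⟨toConv ((φ.comp Algebra.TensorProduct.includeLeft).comp (Ideal.Quotient.mkₐ k Jm)),
      toConv ((φ.comp Algebra.TensorProduct.includeRight).comp (Ideal.Quotient.mkₐ k Jp)), ?_, ?_, ?_⟩
    · exact (kills_oneIdeal_iff lamN ((φ.comp Algebra.TensorProduct.includeLeft).comp (Ideal.Quotient.mkₐ k Jm))).1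
        fun a ha => by
          rw [AlgHom.comp_apply, Ideal.Quotient.mkₐ_eq_mk, Ideal.Quotient.eq_zero_iff_mem.2 ha, map_zero]
    · exact (kills_limIdeal_iff lam ((φ.comp Algebra.TensorProduct.includeRight).comp (Ideal.Quotient.mkₐ k Jp))).1
        fun a ha => by
          rw [AlgHom.comp_apply, Ideal.Quotient.mkₐ_eq_mk, Ideal.Quotient.eq_zero_iff_mem.2 ha, map_zero]
    · rw [← cellHom_point]
      exact WithConv.ext (AlgHom.ext fun a => (congrArg (fun q => q.hom a) hψ').symm)
  let tr : Pt k D k → (D →ₐ[k] D) := fun b => (toConv (AlgHom.id k D) * push (Algebra.ofId k D) b).ofConv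
  have htr : ∀ (b : Pt k D k) {R : Type u} [CommRing R] [Algebra k R] (g : Pt k D R),
      toConv (g.ofConv.comp (tr b)) = g * push (Algebra.ofId k R) b := by
    intro b R _ _ g
    show push g.ofConv (toConv (AlgHom.id k D) * push (Algebra.ofId k D) b) = _
    rw [map_mul, push_push]
    exact congrArg (fun f => g * push f b) (Subsingleton.elim _ _)
  haveI : IsJacobsonRing D := isJacobsonRing_of_finiteType (A := k)
  have hofId : ∀ b : Pt k D k, push (Algebra.ofId k k) b = b := fun b =>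
    WithConv.ext (AlgHom.ext fun a => rfl)
  have hone : PrimeSpectrum.comap (1 : Pt k D k).ofConv.toRingHom (IsLocalRing.closedPoint k) ∈
      (Set.range ci : Set (PrimeSpectrum D)) := by
    have h1 : (1 : Pt k D k) ∈ oneSub k lamN := one_mem _
    have h2 : (1 : Pt k D k) ∈ limSub k lam := one_mem _
    let φ : (D ⧸ Jm) ⊗[k] (D ⧸ Jp) →ₐ[k] k := Algebra.TensorProduct.lift
      (Ideal.Quotient.liftₐ Jm (1 : Pt k D k).ofConv ((kills_oneIdeal_iff lamN _).2 h1))
      (Ideal.Quotient.liftₐ Jp (1 : Pt k D k).ofConv ((kills_limIdeal_iff lam _).2 h2)) fun _ _ => .all _ _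
    refine ⟨(PrimeSpectrum.comap φ.toRingHom (IsLocalRing.closedPoint k) :
      PrimeSpectrum ((D ⧸ Jm) ⊗[k] (D ⧸ Jp))), ?_⟩
    have e : toConv (φ.comp (cellHom k Jm Jp)) = (1 : Pt k D k) := by
      rw [cellHom_point]
      refine Eq.trans (congrArg₂ (· * ·) ?_ ?_) (_root_.mul_one (1 : Pt k D k))
      · refine WithConv.ext (AlgHom.ext fun a => ?_)
        show φ (Ideal.Quotient.mk Jm a ⊗ₜ 1) = _
        refine (Algebra.TensorProduct.lift_tmul _ _ _ _ _).trans ?_
        rw [map_one, _root_.mul_one]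
        rfl
      · refine WithConv.ext (AlgHom.ext fun a => ?_)
        show φ (1 ⊗ₜ Ideal.Quotient.mk Jp a) = _
        refine (Algebra.TensorProduct.lift_tmul _ _ _ _ _).trans ?_
        rw [map_one, _root_.one_mul]
        rfl
    conv_rhs => rw [← e]
    rfl
  -- rational points
  have claim2 : ∀ x : Pt k D k, Norms J x → In J x := by
    intro x hx
    have hb : ∀ b : Pt k D k, PrimeSpectrum.comap (tr b).toRingHom
        (PrimeSpectrum.comap b⁻¹.ofConv.toRingHom (IsLocalRing.closedPoint k)) ∈ Set.range ci := by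
      intro b
      rw [← PrimeSpectrum.comap_comp_apply]
      have e : toConv (b⁻¹.ofConv.comp (tr b)) = (1 : Pt k D k) := by rw [htr, hofId, inv_mul_cancel]
      rw [← e] at hone
      exact hone
    obtain ⟨y, hy1, hy2⟩ := nonempty_preirreducible_inter hΩ (hΩ.preimage (PrimeSpectrum.continuous_comap (tr x).toRingHom))
      ⟨_, hone⟩ ⟨_, hb x⟩
    obtain ⟨m, hm, hmc⟩ := nonempty_inter_closedPoints (X := PrimeSpectrum D) (Z := Set.range ci ∩
      PrimeSpectrum.comap (tr x).toRingHom ⁻¹' Set.range ci) ⟨y, hy1, hy2⟩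
      (hΩ.inter (hΩ.preimage (PrimeSpectrum.continuous_comap (tr x).toRingHom))).isLocallyClosed
    haveI : m.asIdeal.IsMaximal := (PrimeSpectrum.isClosed_singleton_iff_isMaximal m).1 hmc
    obtain ⟨φ, hφ⟩ := exists_point_of_isMaximal (k := k) m.asIdeal
    have hm' : PrimeSpectrum.comap φ.toRingHom (IsLocalRing.closedPoint k) = m := PrimeSpectrum.ext (by
      show (IsLocalRing.maximalIdeal k).comap φ.toRingHom = _
      rw [IsLocalRing.maximalIdeal_eq_bot, ← hφ]
      rfl)
    obtain ⟨v₂, p₂, hv₂, hp₂, e₂⟩ := hfact k (toConv φ) (by rw [ofConv_toConv, hm']; exact hm.1)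
    obtain ⟨v₁, p₁, hv₁, hp₁, e₁⟩ := hfact k (toConv φ * x) (by
      have h := hm.2
      rw [Set.mem_preimage, ← hm', ← PrimeSpectrum.comap_comp_apply] at h
      have e : toConv (φ.comp (tr x)) = toConv φ * x := by rw [show φ = (toConv φ).ofConv from rfl, htr, hofId]
      rw [← e]
      exact h)
    obtain ⟨h₁, hh₁⟩ := id hp₁
    obtain ⟨h₂, hh₂⟩ := id hp₂
    let z₁ := push (ev0 k k) h₁
    let z₂ := push (ev0 k k) h₂
    have hz₁ : conj k lam z₁ = push (DynLib.cst k k) z₁ := conj_limit lam p₁ h₁ hh₁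
    have hz₂ : conj k lam z₂ = push (DynLib.cst k k) z₂ := conj_limit lam p₂ h₂ hh₂
    have hu : ∀ (p z : Pt k D k) (h : Pt k D (Polynomial k)), push (jay k k) h = conj k lam p →
        push (ev0 k k) h = z → conj k lam z = push (DynLib.cst k k) z → In J (z⁻¹ * p) := by
      intro p z h hh hz hzf
      obtain ⟨c, hc⟩ := mem_limSub_of_fixed hzf
      refine hU k _ ⟨c⁻¹ * h, ?_, by rw [map_mul, map_inv, hc, hh, map_mul, map_inv]⟩
      show push (ev0 k k) (c⁻¹ * h) = 1
      rw [map_mul, map_inv, lim_eq_self hzf hc, hz, inv_mul_cancel]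
    have hu₁ := hu p₁ z₁ h₁ hh₁ rfl hz₁
    have hu₂ := hu p₂ z₂ h₂ hh₂ rfl hz₂
    let w := z₂⁻¹ * (v₂⁻¹ * v₁) * z₂ * (z₂⁻¹ * z₁)
    have hw : (z₂⁻¹ * p₂) * x * (z₁⁻¹ * p₁)⁻¹ = w := by
      have hx' : x = (v₂ * p₂)⁻¹ * (v₁ * p₁) := by rw [← e₁, ← e₂]; group
      rw [hx']
      simp only [w]
      group
    have hwn : Norms J w := by
      rw [← hw]
      exact (hx.mul_left hu₂).mul_right (mem_subJ.1 (inv_mem (mem_subJ.2 hu₁)))
    have hwi := claim1 k _ _ (conj_oneSub (mul_mem (inv_mem hv₂) hv₁) (conj_invert_eq_cst z₂ hz₂))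
      (mul_mem (inv_mem (mem_limSub_of_fixed hz₂)) (mem_limSub_of_fixed hz₁)) hwn
    refine mem_subJ.1 ?_
    rw [show x = (z₂⁻¹ * p₂)⁻¹ * w * (z₁⁻¹ * p₁) from by rw [← hw]; group]
    exact mul_mem (mul_mem (inv_mem (mem_subJ.2 hu₂)) (mem_subJ.2 hwi)) (mem_subJ.2 hu₁)
  obtain ⟨N, hN⟩ := exists_norm_ideal (k := k) J
  have hrad : J ≤ N.radical := by
    rw [Ideal.radical_eq_jacobson, Ideal.jacobson]
    refine le_sInf fun M hM => ?_
    haveI := hM.2
    obtain ⟨φ, hφ⟩ := exists_point_of_isMaximal (k := k) M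
    have hn : In N (toConv φ) := fun a ha => by
      rw [ofConv_toConv, ← RingHom.mem_ker, hφ]
      exact hM.1 ha
    intro a ha
    rw [← hφ, RingHom.mem_ker]
    exact claim2 _ ((hN k _).1 hn) a ha
  have claim3 : ∀ (R : Type u) [CommRing R] [IsLocalRing R] [Algebra k R] (x : Pt k D R), Norms J x → In J x := by
    intro R _ _ _ x hx
    let p₀ := PrimeSpectrum.comap x.ofConv.toRingHom (IsLocalRing.closedPoint R)
    have hJp : J ≤ p₀.asIdeal := fun a ha => by
      obtain ⟨n, hn⟩ := hrad ha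
      have h0 : x.ofConv a ^ n = 0 := by rw [← map_pow]; exact (hN R x).2 hx _ hn
      show x.ofConv a ∈ IsLocalRing.maximalIdeal R
      exact Ideal.IsPrime.mem_of_pow_mem inferInstance n (h0 ▸ zero_mem _)
    obtain ⟨M, hM, hpM⟩ := Ideal.exists_le_maximal p₀.asIdeal p₀.isPrime.ne_top
    obtain ⟨β, hβ⟩ := exists_point_of_isMaximal (k := k) M
    let b : Pt k D k := toConv β
    have hbJ : In J b := fun a ha => by
      show β a = 0
      rw [← RingHom.mem_ker, hβ]
      exact hpM (hJp ha)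
    have hmem : PrimeSpectrum.comap (tr b⁻¹).toRingHom p₀ ∈ Set.range ci := by
      have hs : p₀ ⤳ (⟨M, hM.isPrime⟩ : PrimeSpectrum D) := (PrimeSpectrum.le_iff_specializes _ _).1 hpM
      refine (hs.map (PrimeSpectrum.continuous_comap _)).mem_open hΩ ?_
      have hM' : (⟨M, hM.isPrime⟩ : PrimeSpectrum D) = PrimeSpectrum.comap β.toRingHom (IsLocalRing.closedPoint k) :=
        PrimeSpectrum.ext (by
          show M = (IsLocalRing.maximalIdeal k).comap β.toRingHom
          rw [IsLocalRing.maximalIdeal_eq_bot, ← hβ]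
          rfl)
      rw [hM', ← PrimeSpectrum.comap_comp_apply]
      have e : toConv (β.comp (tr b⁻¹)) = (1 : Pt k D k) := by
        rw [show β = b.ofConv from rfl, htr, hofId, mul_inv_cancel]
      rw [← e] at hone
      exact hone
    obtain ⟨v, p, hv, hp, e⟩ := hfact R (x * push (Algebra.ofId k R) b⁻¹) (by
      rw [← htr b⁻¹ x]
      rw [← PrimeSpectrum.comap_comp_apply] at hmem
      exact hmem)
    have hbR : In J (push (Algebra.ofId k R) b⁻¹) := (mem_subJ.1 (inv_mem (mem_subJ.2 hbJ))).pushPt _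
    have hvp := claim1 R v p hv hp (e ▸ hx.mul_right hbR)
    refine mem_subJ.1 ?_
    rw [show x = v * p * (push (Algebra.ofId k R) b⁻¹)⁻¹ from by rw [← e, mul_inv_cancel_right]]
    exact mul_mem (mem_subJ.2 hvp) (inv_mem (mem_subJ.2 hbR))
  intro R _ _ x hx a ha
  by_contra hne
  let I : Ideal R := (Ideal.span {x.ofConv a}).annihilator
  obtain ⟨M, hM, hIM⟩ := Ideal.exists_le_maximal I (fun h => hne (by
    have h1 : (1 : R) ∈ I := h ▸ Submodule.mem_top
    have := Submodule.mem_annihilator.1 h1 _ (Ideal.mem_span_singleton_self _)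
    rwa [one_smul] at this))
  haveI := hM.isPrime
  let φ : R →ₐ[k] Localization.AtPrime M := IsScalarTower.toAlgHom k R _
  have h0 := claim3 _ (push φ x) (hx.pushPt φ) a ha
  rw [push_apply] at h0
  obtain ⟨⟨s, hs⟩, hs'⟩ := (IsLocalization.map_eq_zero_iff M.primeCompl (Localization.AtPrime M) _).1 h0
  refine hs (hIM ?_)
  rw [Submodule.mem_annihilator]
  intro z hz
  obtain ⟨w, rfl⟩ := Ideal.mem_span_singleton'.1 hz
  rw [smul_eq_mul, mul_left_comm, hs', mul_zero]

end Cell

/-- A connected group has a maximal connected solvable self-normalizing subgroup. -/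
theorem exists_selfNormalizing [IsAlgClosed k] (A : Type u) [CommRing A] [HopfAlgebra k A] [Algebra.FiniteType k A]
    [IsDomain A] :
    ∃ (J : Ideal A) (_ : J.IsHopfIdeal k), IsDomain (A ⧸ J) ∧ Group.IsSolvable ↥(subJ (k := k) J k) ∧
      (∀ (J' : Ideal A) [J'.IsHopfIdeal k], J' ≤ J → IsDomain (A ⧸ J') → Group.IsSolvable ↥(subJ (k := k) J' k) → J' = J) ∧
      ∀ (Q : Ideal A) [Q.IsHopfIdeal k], Q ≤ J → Q.IsPrime →
        ∀ (R : Type u) [CommRing R] [Algebra k R] (x : Pt k A R), Norms Q x → In Q x := by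
  haveI : IsNoetherianRing A := Algebra.FiniteType.isNoetherianRing k A
  suffices key : ∀ P : Ideal A, ∀ (D : Type u) (_ : CommRing D) (_ : HopfAlgebra k D) (π : A →ₐc[k] D),
      RingHom.ker (π : A →+* D) = P → IsDomain D → Function.Surjective π →
      ∃ (J : Ideal D) (_ : J.IsHopfIdeal k), IsDomain (D ⧸ J) ∧ Group.IsSolvable ↥(subJ (k := k) J k) ∧
        (∀ (J' : Ideal D) [J'.IsHopfIdeal k], J' ≤ J → IsDomain (D ⧸ J') → Group.IsSolvable ↥(subJ (k := k) J' k) → J' = J) ∧
        ∀ (Q : Ideal D) [Q.IsHopfIdeal k], Q ≤ J → Q.IsPrime →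
          ∀ (R : Type u) [CommRing R] [Algebra k R] (x : Pt k D R), Norms Q x → In Q x from
    key _ A _ _ (BialgHom.id k A) rfl inferInstance Function.surjective_id
  intro P
  induction P using WellFoundedGT.induction with
  | ind P ih =>
  intro D _ _ π hP hD hπ
  haveI := hD
  haveI : Algebra.FiniteType k D := Algebra.FiniteType.of_surjective (π : A →ₐ[k] D) hπ
  haveI : IsNoetherianRing D := Algebra.FiniteType.isNoetherianRing k D
  by_cases hc : ∀ lam : D →ₐc[k] k[T;T⁻¹], AlgGrpLib.CentralTorus.IsCentralCochar lam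
  · haveI hb : (⊥ : Ideal D).IsHopfIdeal k := isHopfIdeal_of_subgroup ⊥ (fun R _ _ => ⊤) fun R _ _ g =>
      ⟨fun _ => trivial, fun _ a ha => by rw [(Submodule.mem_bot D).1 ha, map_zero]⟩
    haveI : Group.IsSolvable (Pt k D k) := AlgGrpLib.CentralTorus.isSolvable_of_central hc
    refine ⟨⊥, hb, Ideal.Quotient.isDomain_iff_prime _ |>.2 Ideal.isPrime_bot, inferInstance,
      fun J' _ h _ _ => le_bot_iff.1 h, fun Q _ hQ _ R _ _ x _ a ha => by rw [(Submodule.mem_bot D).1 (hQ ha), map_zero]⟩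
  push Not at hc
  obtain ⟨lam, hlam⟩ := hc
  let lamN := (invertHom k).comp lam
  let Z := limIdeal lam ⊔ limIdeal lamN
  haveI : (limIdeal lam).IsHopfIdeal k := isHopfIdeal_limIdeal lam
  haveI : (limIdeal lamN).IsHopfIdeal k := isHopfIdeal_limIdeal lamN
  have hZ : ∀ (R : Type u) [CommRing R] [Algebra k R] (g : Pt k D R),
      In Z g ↔ conj R lam g = push (DynLib.cst k R) g := fun R _ _ g => by
    have h := S3309.result k D lam lamN (invertHom_comp_eq lam) (limIdeal lam) (limIdeal lamN)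
      (fun R _ _ g => (kills_limIdeal_iff lam g).trans (limExists_iff lam g).symm)
      (fun R _ _ g => (kills_limIdeal_iff lamN g).trans (limExists_iff lamN g).symm) R g.ofConv
    beta_reduce at h
    rw [conjOrbit_eq, toConv_ofConv] at h
    exact h.trans ⟨fun e => WithConv.ext e, fun e => congrArg WithConv.ofConv e⟩
  haveI : Z.IsHopfIdeal k := isHopfIdeal_of_subgroup Z
    (fun R _ _ => MonoidHom.eqLocus (conj R lam) (push (DynLib.cst k R))) fun R _ _ g => hZ R (toConv g)
  haveI : IsDomain (D ⧸ Z) := AlgGrpLib.CentreSolvable.isDomain_centralizer lam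
  let π' : D →ₐc[k] D ⧸ Z := Bialgebra.Quotient.mkBialgHom (R := k) Z
  have hπ' : Function.Surjective π' := Ideal.Quotient.mk_surjective
  have hlt : P < RingHom.ker ((π'.comp π : A →ₐc[k] D ⧸ Z) : A →+* D ⧸ Z) := by
    refine lt_of_le_of_ne (fun z hz => ?_) fun heq => hlam ?_
    · rw [← hP] at hz
      show π' (π z) = 0
      rw [show π z = 0 from hz, map_zero]
    · have hbot : ∀ d ∈ Z, d = 0 := fun d hd => by
        obtain ⟨b, rfl⟩ := hπ d
        have hb : b ∈ RingHom.ker ((π'.comp π : A →ₐc[k] D ⧸ Z) : A →+* D ⧸ Z) :=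
          Ideal.Quotient.eq_zero_iff_mem.2 hd
        rw [← heq, ← hP] at hb
        exact hb
      have h2 := (hZ D (toConv (AlgHom.id k D))).1 fun d hd => by rw [hbot d hd, map_zero]
      rw [conj_apply, mul_inv_eq_iff_eq_mul] at h2
      exact h2
  obtain ⟨I', hI', hI'd, hI's, hI'max, hI'n⟩ := ih _ hlt (D ⧸ Z) _ _ (π'.comp π) rfl inferInstance
    (hπ'.comp hπ)
  haveI := hI'; haveI := hI'd; haveI := hI's
  -- the subgroup `I` of the centraliser, in `D`
  let I : Ideal D := I'.comap (Ideal.Quotient.mk Z)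
  have hIiff : ∀ (R : Type u) [CommRing R] [Algebra k R] (g : Pt k D R),
      In I g ↔ ∃ g' : Pt k (D ⧸ Z) R, In I' g' ∧ pull π' g' = g := by
    intro R _ _ g
    constructor
    · intro h
      have hgZ : In Z g := fun a ha => h a (by
        rw [Ideal.mem_comap, Ideal.Quotient.eq_zero_iff_mem.2 ha]
        exact zero_mem _)
      refine ⟨toConv (Ideal.Quotient.liftₐ Z g.ofConv hgZ), fun a ha => ?_, rfl⟩
      obtain ⟨b, rfl⟩ := Ideal.Quotient.mk_surjective a
      exact h b ha
    · rintro ⟨g', hg', rfl⟩ a ha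
      exact hg' _ ha
  haveI hIhopf : I.IsHopfIdeal k := isHopfIdeal_of_subgroup I (fun R _ _ => (subJ I' R).map (pull π')) fun R _ _ g =>
    (hIiff R (toConv g)).trans ⟨fun ⟨g', h1, h2⟩ => ⟨g', mem_subJ.2 h1, h2⟩, fun ⟨g', h1, h2⟩ => ⟨g', mem_subJ.1 h1, h2⟩⟩
  haveI : I'.IsPrime := (Ideal.Quotient.isDomain_iff_prime _).1 hI'd
  haveI : I.IsPrime := Ideal.comap_isPrime _ _
  haveI : IsDomain (D ⧸ I) := (Ideal.Quotient.isDomain_iff_prime _).2 inferInstance
  haveI hIs : Group.IsSolvable ↥(subJ (k := k) I k) := by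
    refine solvable_of_surjective (f := ((pull π').comp (subJ (k := k) I' k).subtype).codRestrict (subJ (k := k) I k)
      fun g' => mem_subJ.2 ((hIiff k _).2 ⟨g'.1, mem_subJ.1 g'.2, rfl⟩)) fun g => ?_
    obtain ⟨g', h1, h2⟩ := (hIiff k g.1).1 (mem_subJ.1 g.2)
    exact ⟨⟨g', mem_subJ.2 h1⟩, Subtype.ext h2⟩
  -- `I'` contains the cocharacter
  have hlamI : ∀ (R : Type u) [CommRing R] [Algebra k R] (u : k[T;T⁻¹] →ₐ[k] R), In I (pre lam u) := by
    intro R _ _ u
    have hz : In Z (pre lam u) := (hZ R _).2 (conj_pre lam u)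
    let g' : Pt k (D ⧸ Z) R := toConv (Ideal.Quotient.liftₐ Z (pre lam u).ofConv hz)
    refine (hIiff R _).2 ⟨g', hI'n I' le_rfl inferInstance R g' fun R' _ _ φ b hb => ?_, rfl⟩
    have hcomm : (push φ g') * b = b * push φ g' := by
      refine pull_injective π' hπ' ?_
      rw [map_mul, map_mul, show pull π' (push φ g') = pre lam (φ.comp u) from push_pre lam u φ]
      have hb' : conj R' lam (pull π' b) = push (DynLib.cst k R') (pull π' b) := (hZ R' _).1 fun a ha => by
        show b.ofConv (Ideal.Quotient.mk Z a) = 0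
        rw [Ideal.Quotient.eq_zero_iff_mem.2 ha, map_zero]
      rw [conj_apply] at hb'
      have h := congrArg (push ((AlgHom.id k R').comp (Algebra.TensorProduct.lid k R').toAlgHom |>.comp
        (Algebra.TensorProduct.includeRight : R' →ₐ[k] k ⊗[k] R'))) (rfl : pull π' b = pull π' b)
      let ev : R'[T;T⁻¹] →ₐ[k] R' :=
        { LaurentPolynomial.eval₂ (RingHom.id R') (Units.mkOfMulEqOne (φ (u (T 1))) (φ (u (T (-1))))
            (by rw [← map_mul, ← map_mul, ← T_add]; simp)) with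
          commutes' := fun c => by
            show LaurentPolynomial.eval₂ _ _ (algebraMap k R'[T;T⁻¹] c) = algebraMap k R' c
            rw [IsScalarTower.algebraMap_apply k R' R'[T;T⁻¹], ← C_eq_algebraMap, eval₂_C]
            rfl }
      have hev1 : push ev (pre lam (tee k R')) = pre lam (φ.comp u) := by
        rw [push_pre]
        refine congrArg (pre lam) (Lext' ?_)
        show ev (tee k R' (T 1)) = φ (u (T 1))
        rw [tee_T]
        show LaurentPolynomial.eval₂ _ _ (T 1) = _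
        rw [eval₂_T, zpow_one]
        rfl
      have hev2 : push ev (push (DynLib.cst k R') (pull π' b)) = pull π' b := by
        rw [push_push]
        refine WithConv.ext (AlgHom.ext fun a => ?_)
        show ev (DynLib.cst k R' _) = _
        rw [cst_apply]
        exact eval₂_C _ _ _
      have h2 := congrArg (push ev) hb'
      rw [map_mul, map_mul, map_inv, hev1, hev2] at h2
      exact mul_inv_eq_iff_eq_mul.1 h2
    rw [_root_.mul_assoc, ← hcomm, inv_mul_cancel_left]
    exact hb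
  have hlam0 : ∀ a ∈ I, lam a = 0 := fun a ha => hlamI _ (AlgHom.id k k[T;T⁻¹]) a ha
  -- the subgroup `U ⋊ I`
  let Jp := limIdeal lam
  let πp : Pt k D (D ⧸ Jp) := toConv (Ideal.Quotient.mkₐ k Jp)
  obtain ⟨hh, hhh⟩ : πp ∈ limSub _ lam :=
    (kills_limIdeal_iff lam πp.ofConv).1 fun a ha => Ideal.Quotient.eq_zero_iff_mem.2 ha
  let z : Pt k D (D ⧸ Jp) := push (ev0 k _) hh
  let H : Ideal D := (I.map z.ofConv.toRingHom).comap (Ideal.Quotient.mk Jp)
  have hHiff : ∀ (R : Type u) [CommRing R] [Algebra k R] (g : Pt k D R), In H g ↔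
      ∃ h : Pt k D (Polynomial R), push (jay k R) h = conj R lam g ∧ In I (push (ev0 k R) h) := by
    intro R _ _ g
    have hlim : ∀ φ : D ⧸ Jp →ₐ[k] R, push φ πp = g → ∀ h : Pt k D (Polynomial R),
        push (jay k R) h = conj R lam g → push (ev0 k R) h = push φ z := by
      intro φ hφ h hh'
      have e : h = push (Pmap φ) hh := by
        refine push_injective (jay k R) jay_injective ?_
        rw [hh', push_push, ← Lmap_jay, ← push_push, hhh, push_conj, hφ]
      rw [e, push_push, push_push]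
      refine congrArg (fun f => push f hh) (AlgHom.ext fun x => ?_)
      simp [ev0_apply, Pmap_coeff]
    constructor
    · intro hg
      have hgp : In Jp g := fun a ha => hg a (by
        rw [Ideal.mem_comap, Ideal.Quotient.eq_zero_iff_mem.2 ha]; exact zero_mem _)
      obtain ⟨h, hh'⟩ := (kills_limIdeal_iff lam g.ofConv).1 hgp
      refine ⟨h, hh', ?_⟩
      rw [hlim (Ideal.Quotient.liftₐ Jp g.ofConv hgp) rfl h hh']
      intro a ha
      obtain ⟨b, hb⟩ := Ideal.Quotient.mk_surjective (z.ofConv a)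
      show Ideal.Quotient.liftₐ Jp g.ofConv hgp (z.ofConv a) = 0
      rw [← hb]
      exact hg b (show Ideal.Quotient.mk Jp b ∈ _ by rw [hb]; exact Ideal.mem_map_of_mem _ ha)
    · rintro ⟨h, hh', hI⟩ a ha
      have hgp : In Jp g := (kills_limIdeal_iff lam g.ofConv).2 ⟨h, hh'⟩
      let φ := Ideal.Quotient.liftₐ Jp g.ofConv hgp
      rw [hlim φ rfl h hh'] at hI
      show φ (Ideal.Quotient.mk Jp a) = 0
      have hmap : I.map z.ofConv.toRingHom ≤ RingHom.ker φ := Ideal.map_le_iff_le_comap.2 fun c hc => hI c hc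
      exact hmap ha
  clear_value H
  haveI hHhopf : H.IsHopfIdeal k := isHopfIdeal_of_subgroup H
    (fun R _ _ => (((subJ I R).comap (push (ev0 k R))).map (push (jay k R))).comap (conj R lam)) fun R _ _ g =>
      (hHiff R (toConv g)).trans ⟨fun ⟨h, h1, h2⟩ => ⟨h, mem_subJ.2 h2, h1⟩, fun ⟨h, h2, h1⟩ => ⟨h, h1, mem_subJ.1 h2⟩⟩
  have hI1 : ∀ (R : Type u) [CommRing R] [Algebra k R], In I (1 : Pt k D R) := fun R _ _ => mem_subJ.1 (one_mem _)
  have hUH : ∀ (R : Type u) [CommRing R] [Algebra k R] (g : Pt k D R), g ∈ oneSub R lam → In H g := by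
    rintro R _ _ g ⟨h, h0, h1⟩
    refine (hHiff R g).2 ⟨h, h1, ?_⟩
    rw [show push (ev0 k R) h = 1 from h0]
    exact hI1 R
  have hIH : ∀ (R : Type u) [CommRing R] [Algebra k R] (g : Pt k D R), In I g → In H g := by
    intro R _ _ g hg
    obtain ⟨g', -, rfl⟩ := (hIiff R g).1 hg
    have hf : conj R lam (pull π' g') = push (DynLib.cst k R) (pull π' g') := (hZ R _).1 fun a ha => by
      show g'.ofConv (Ideal.Quotient.mk Z a) = 0
      rw [Ideal.Quotient.eq_zero_iff_mem.2 ha, map_zero]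
    obtain ⟨h, hh'⟩ := mem_limSub_of_fixed hf
    exact (hHiff R _).2 ⟨h, hh', by rw [lim_eq_self hf hh']; exact hg⟩
  haveI : (oneIdeal lam).IsHopfIdeal k := isHopfIdeal_oneIdeal lam
  haveI hHd : IsDomain (D ⧸ H) := by
    let Jn := oneIdeal lam
    haveI : IsDomain (D ⧸ Jn) := isDomain_oneIdeal lam
    haveI : IsDomain ((D ⧸ Jn) ⊗[k] (D ⧸ I)) := VarietyLib.isDomain_tensor_of_isAlgClosed k _ _
    let il : D ⧸ Jn →ₐ[k] (D ⧸ Jn) ⊗[k] (D ⧸ I) := Algebra.TensorProduct.includeLeft
    let ir : D ⧸ I →ₐ[k] (D ⧸ Jn) ⊗[k] (D ⧸ I) := Algebra.TensorProduct.includeRight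
    let uu : Pt k D (D ⧸ Jn) := toConv (Ideal.Quotient.mkₐ k Jn)
    let bb : Pt k D (D ⧸ I) := toConv (Ideal.Quotient.mkₐ k I)
    have hu : In H (push il uu) := In.pushPt (hUH _ uu ((kills_oneIdeal_iff lam uu.ofConv).1 fun a ha =>
      Ideal.Quotient.eq_zero_iff_mem.2 ha)) il
    have hb : In H (push ir bb) := In.pushPt (hIH _ bb fun a ha => Ideal.Quotient.eq_zero_iff_mem.2 ha) ir
    have hp : In H (push il uu * push ir bb) := mem_subJ.1 (mul_mem (mem_subJ.2 hu) (mem_subJ.2 hb))
    let ι : D ⧸ H →ₐ[k] (D ⧸ Jn) ⊗[k] (D ⧸ I) := Ideal.Quotient.liftₐ H (push il uu * push ir bb).ofConv hp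
    let πH : Pt k D (D ⧸ H) := toConv (Ideal.Quotient.mkₐ k H)
    obtain ⟨h, hh', hI⟩ := (hHiff _ πH).1 fun a ha => Ideal.Quotient.eq_zero_iff_mem.2 ha
    have hf : conj _ lam (push (ev0 k _) h) = push (DynLib.cst k _) (push (ev0 k _) h) := conj_limit lam πH h hh'
    obtain ⟨c, hc⟩ := mem_limSub_of_fixed hf
    let Q := push (ev0 k (D ⧸ H)) h
    have hmem : toConv (πH * Q⁻¹).ofConv ∈ oneSub (D ⧸ H) lam := by
      rw [toConv_ofConv]
      refine ⟨h * c⁻¹, ?_, ?_⟩
      · have e0 : push (ev0 k (D ⧸ H)) (h * c⁻¹) = 1 := by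
          rw [map_mul, map_inv, lim_eq_self hf hc, mul_inv_cancel]
        exact e0
      · rw [map_mul, map_inv, hc, hh', map_mul, map_inv]
    have hu' : In Jn (πH * Q⁻¹) := (kills_oneIdeal_iff lam (πH * Q⁻¹).ofConv).2 hmem
    let ρ : (D ⧸ Jn) ⊗[k] (D ⧸ I) →ₐ[k] D ⧸ H := Algebra.TensorProduct.lift
      (Ideal.Quotient.liftₐ Jn _ hu') (Ideal.Quotient.liftₐ I _ hI) fun _ _ => .all _ _
    have e : push ρ (push il uu * push ir bb) = πH := by
      rw [map_mul, push_push, push_push]
      refine Eq.trans (congrArg₂ (· * ·) ?_ ?_) (inv_mul_cancel_right πH (push (ev0 k _) h))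
      · refine WithConv.ext (AlgHom.ext fun a => ?_)
        show ρ (Ideal.Quotient.mk Jn a ⊗ₜ 1) = _
        refine (Algebra.TensorProduct.lift_tmul _ _ _ _ _).trans ?_
        rw [map_one, _root_.mul_one]
        rfl
      · refine WithConv.ext (AlgHom.ext fun a => ?_)
        show ρ (1 ⊗ₜ Ideal.Quotient.mk I a) = _
        refine (Algebra.TensorProduct.lift_tmul _ _ _ _ _).trans ?_
        rw [map_one, _root_.one_mul]
        rfl
    refine Function.Injective.isDomain ι.toRingHom (Function.LeftInverse.injective (g := ρ) fun y => ?_)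
    obtain ⟨a, rfl⟩ := Ideal.Quotient.mk_surjective y
    exact congrArg (fun q : Pt k D (D ⧸ H) => q.ofConv a) e
  haveI hHs : Group.IsSolvable ↥(subJ (k := k) H k) := by
    haveI : Algebra.FiniteType k (D ⧸ oneIdeal lam) :=
      Algebra.FiniteType.of_surjective (Ideal.Quotient.mkₐ k _) Ideal.Quotient.mk_surjective
    obtain ⟨gr, hgr⟩ := exists_grading lam (oneIdeal lam)
      fun R _ _ g => (kills_oneIdeal_iff lam g).trans (limIsOne_iff lam g).symm
    haveI : Group.IsSolvable (Pt k (D ⧸ oneIdeal lam) k) :=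
      S3267.result k _ (isTrigonalizable_of_isUnipotent (isUnipotent_of_grading hgr))
    have hU : Group.IsSolvable ↥(subJ (k := k) (oneIdeal lam) k) :=
      solvable_of_surjective (MonoidHom.rangeRestrict_surjective
        (pull (R := k) (Bialgebra.Quotient.mkBialgHom (R := k) (oneIdeal lam))))
    have hH' : ∀ g : ↥(subJ (k := k) H k), ∃ h : Pt k D (Polynomial k), push (jay k k) h = conj k lam g.1 ∧
        In I (push (ev0 k k) h) := fun g => (hHiff k g.1).1 (mem_subJ.1 g.2)
    choose hl hl1 hl2 using hH'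
    let L : ↥(subJ (k := k) H k) →* ↥(subJ (k := k) I k) := MonoidHom.mk' (fun g => ⟨push (ev0 k k) (hl g), mem_subJ.2 (hl2 g)⟩)
      fun a b => by
        refine Subtype.ext ?_
        show push (ev0 k k) (hl (a * b)) = push (ev0 k k) (hl a) * push (ev0 k k) (hl b)
        rw [← map_mul]
        congr 1
        refine DynLib.push_injective (A := D) (jay k k) jay_injective ?_
        rw [hl1, map_mul, hl1, hl1, Subgroup.coe_mul, map_mul]
    refine solvable_of_ker_le_range (f := Subgroup.inclusion (K := subJ (k := k) H k) (H := subJ (k := k) (oneIdeal lam) k)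
      fun g hg => mem_subJ.2 (hUH k g ((kills_oneIdeal_iff lam g.ofConv).1 (mem_subJ.1 hg)))) L ?_
    intro g hg
    refine ⟨⟨g.1, mem_subJ.2 ((kills_oneIdeal_iff lam g.1.ofConv).2 ⟨hl g, ?_, hl1 g⟩)⟩, rfl⟩
    exact congrArg Subtype.val (MonoidHom.mem_ker.1 hg)
  -- a maximal solvable subgroup containing it
  classical
  let S : Set (Ideal D) := {J | J ≤ H ∧ ∃ _h : J.IsHopfIdeal k, IsDomain (D ⧸ J) ∧ Group.IsSolvable ↥(subJ (k := k) J k)}
  obtain ⟨_, ⟨J, ⟨hJH, hJh, hJd, hJs⟩, rfl⟩, hJmin⟩ := wellFounded_lt.has_min ((fun J : Ideal D => J.height) '' S)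
    ⟨_, H, ⟨le_rfl, hHhopf, hHd, hHs⟩, rfl⟩
  haveI := hJh; haveI := hJd
  haveI : J.IsPrime := (Ideal.Quotient.isDomain_iff_prime _).1 hJd
  have hHJ : ∀ (R : Type u) [CommRing R] [Algebra k R] (g : Pt k D R), In H g → In J g := fun R _ _ g hg a ha =>
    hg a (hJH ha)
  have hmax : ∀ (J' : Ideal D) [J'.IsHopfIdeal k], J' ≤ J → IsDomain (D ⧸ J') → Group.IsSolvable ↥(subJ (k := k) J' k) →
      J' = J := by
    intro J' h hle hd hs
    haveI : J'.IsPrime := (Ideal.Quotient.isDomain_iff_prime _).1 hd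
    by_contra hne
    exact hJmin _ ⟨J', ⟨hle.trans hJH, h, hd, hs⟩, rfl⟩
      (Ideal.height_strict_mono_of_isPrime_of_isPrime (lt_of_le_of_ne hle hne))
  refine ⟨J, hJh, hJd, hJs, hmax, fun Q _ hQJ hQp => ?_⟩
  haveI := hQp
  have hJQ : ∀ (R : Type u) [CommRing R] [Algebra k R] (g : Pt k D R), In J g → In Q g := fun R _ _ g hg a ha =>
    hg a (hQJ ha)
  refine in_of_norms lam Q (fun R _ _ g hg => hJQ R g (hHJ R g (hUH R g hg)))
    (fun R _ _ u => hJQ R _ (hHJ R _ (hIH R _ (hlamI R u)))) ?_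
  -- the centraliser of the cocharacter in `J`
  let K := Q ⊔ Z
  have hlamJ : ∀ a ∈ Q, lam a = 0 := fun a ha => hHJ _ _ (hIH _ _ (hlamI _ (AlgHom.id k k[T;T⁻¹]))) a (hQJ ha)
  haveI : IsDomain (D ⧸ Q) := (Ideal.Quotient.isDomain_iff_prime _).2 inferInstance
  haveI : IsDomain (D ⧸ K) := isDomain_sup_centralizer lam Q hlamJ hZ
  have hKiff : ∀ (R : Type u) [CommRing R] [Algebra k R] (g : Pt k D R), In K g ↔ In Q g ∧ In Z g := by
    intro R _ _ g
    refine ⟨fun h => ⟨fun a ha => h a (Submodule.mem_sup_left ha), fun a ha => h a (Submodule.mem_sup_right ha)⟩, ?_⟩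
    rintro ⟨h1, h2⟩ a ha
    obtain ⟨p, hp, q, hq, rfl⟩ := Submodule.mem_sup.1 ha
    rw [map_add, h1 p hp, h2 q hq, add_zero]
  haveI : K.IsPrime := (Ideal.Quotient.isDomain_iff_prime _).1 ‹_›
  let K' : Ideal (D ⧸ Z) := K.map (Ideal.Quotient.mk Z)
  have hK'c : K'.comap (Ideal.Quotient.mk Z) = K := by
    rw [Ideal.comap_map_of_surjective _ Ideal.Quotient.mk_surjective, ← RingHom.ker_eq_comap_bot, Ideal.mk_ker]
    exact sup_eq_left.2 le_sup_right
  haveI : K'.IsPrime := Ideal.map_isPrime_of_surjective Ideal.Quotient.mk_surjective (by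
    rw [Ideal.mk_ker]; exact le_sup_right)
  have hK'iff : ∀ (R : Type u) [CommRing R] [Algebra k R] (g : Pt k (D ⧸ Z) R), In K' g ↔ In Q (pull π' g) := by
    intro R _ _ g
    refine ⟨fun h a ha => h _ (Ideal.mem_map_of_mem _ (Submodule.mem_sup_left ha)), fun h a ha => ?_⟩
    obtain ⟨b, rfl⟩ := Ideal.Quotient.mk_surjective a
    have hb : b ∈ K := by rw [← hK'c]; exact ha
    obtain ⟨p, hp, q, hq, rfl⟩ := Submodule.mem_sup.1 hb
    rw [map_add, map_add, Ideal.Quotient.eq_zero_iff_mem.2 hq, map_zero, add_zero]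
    exact h p hp
  haveI : K'.IsHopfIdeal k := isHopfIdeal_of_subgroup K' (fun R _ _ => (subJ Q R).comap (pull π')) fun R _ _ g =>
    (hK'iff R (toConv g)).trans mem_subJ.symm
  haveI : IsDomain ((D ⧸ Z) ⧸ K') := (Ideal.Quotient.isDomain_iff_prime _).2 inferInstance
  have hle : K' ≤ I' := by
    refine Ideal.map_le_iff_le_comap.2 fun a ha => ?_
    have hbb : In I (toConv (Ideal.Quotient.mkₐ k I) : Pt k D (D ⧸ I)) := fun c hc => Ideal.Quotient.eq_zero_iff_mem.2 hc
    have hK : In K (toConv (Ideal.Quotient.mkₐ k I) : Pt k D (D ⧸ I)) := (hKiff _ _).2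
      ⟨hJQ _ _ (hHJ _ _ (hIH _ _ hbb)), fun c hc => hbb c (by
        rw [Ideal.mem_comap, Ideal.Quotient.eq_zero_iff_mem.2 hc]; exact zero_mem _)⟩
    exact Ideal.Quotient.eq_zero_iff_mem.1 (hK a ha) |> id
  intro R _ _ l hl hn
  have hlZ : In Z l := (hZ R l).2 hl
  let l' : Pt k (D ⧸ Z) R := toConv (Ideal.Quotient.liftₐ Z l.ofConv hlZ)
  have h := hI'n K' hle inferInstance R l' fun R' _ _ φ b hb => by
    refine (hK'iff R' _).2 ?_
    rw [map_mul, map_mul, map_inv]
    exact hn R' φ (pull π' b) ((hK'iff R' b).1 hb)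
  exact (hK'iff R l').1 h

end Groth.Agent.AGFQuot23
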