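import Groth.Agent.AGFQuot23.NeutralSub

/-!
# Parabolic subgroups of a quotient group
-/

set_option autoImplicit false
set_option backward.isDefEq.respectTransparency false
set_option linter.style.haveILetI false

universe u

open CategoryTheory CategoryTheory.Limits MonoidalCategory CartesianMonoidalCategory MonObj GrpObj AlgebraicGeometry
open Groth.Agent.AlgGrpLib (ptOf)

namespace Groth.Agent.AGFQuot23

variable {k : Type u} [Field k] [IsAlgClosed k]

theorem exists_parabolic_mapping_onto {G Q P' : Over (Spec (CommRingCat.of k))} [GrpObj G] [GrpObj Q] [GrpObj P']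
    [IsAffine G.left] [Smooth G.hom] [ConnectedSpace G.left] [IsAffine Q.left] [Smooth Q.hom] [ConnectedSpace Q.left]
    (q : G ⟶ Q) [IsMonHom q] [Surjective q.left] {iP' : P' ⟶ Q} (hP' : Red.IsParabolicOver k iP') :
    ∃ (P : Over (Spec (CommRingCat.of k))) (_ : GrpObj P) (iP : P ⟶ G) (p : P ⟶ P'),
      Red.IsParabolicOver k iP ∧ Surjective p.left ∧ p ≫ iP' = iP ≫ q := by
  classical
  haveI : QuasiCompact G.hom := (quasiCompact_iff_compactSpace G.hom).2 inferInstance
  haveI : QuasiCompact Q.hom := (quasiCompact_iff_compactSpace Q.hom).2 inferInstance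
  obtain ⟨hi', hcl', hsm', B', _, b', hB'⟩ := hP'
  haveI := hi'; haveI := hcl'; haveI := hsm'
  haveI : QuasiCompact P'.hom := by rw [← Over.w iP']; infer_instance
  haveI : Mono iP' := Over.mono_of_mono_left _
  obtain ⟨B, _, iB, p₀, hB, -, hp₀⟩ := exists_borel_mapping_onto q hB'
  obtain ⟨hi, hcl, hsm, hconn, -⟩ := id hB
  haveI := hi; haveI := hcl; haveI := hsm
  let R' : (𝟙_ (Over (Spec (CommRingCat.of k))) ⟶ P') →* (𝟙_ (Over (Spec (CommRingCat.of k))) ⟶ Q) :=
    MonoidHom.mk' (fun b => b ≫ iP') fun b b' => MonObj.mul_comp b b' iP'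
  let Φ : (𝟙_ (Over (Spec (CommRingCat.of k))) ⟶ G) →* (𝟙_ (Over (Spec (CommRingCat.of k))) ⟶ Q) :=
    MonoidHom.mk' (fun b => b ≫ q) fun b b' => MonObj.mul_comp b b' q
  let S : Subgroup (𝟙_ (Over (Spec (CommRingCat.of k))) ⟶ G) := R'.range.comap Φ
  obtain ⟨P, _, iP, hiP, hclP, hredP, hrP, hliftP⟩ := AlgGrpLib.exists_closure_subgroup G S
  haveI := hiP; haveI := hclP; haveI := hredP
  haveI : LocallyOfFiniteType P.hom := by rw [← Over.w iP]; infer_instance
  haveI : Smooth P.hom := AbVarLib.smooth_of_geometricallyReduced P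
  haveI : IsReduced P.left := AbSchLib.isReduced_of_smooth P.hom
  haveI : IsReduced B.left := AbSchLib.isReduced_of_smooth B.hom
  haveI : QuasiCompact P.hom := by rw [← Over.w iP]; infer_instance
  obtain ⟨p, hp⟩ := exists_lift_of_points (iP ≫ q) iP' fun x => by
    refine closure_minimal (t := q.left ⁻¹' Set.range iP'.left) ?_
      (iP'.left.isClosedEmbedding.isClosed_range.preimage q.left.continuous)
      (show ptOf (x ≫ iP) ∈ closure (ptOf '' (S : Set _)) from hrP ▸ ⟨ptOf x, rfl⟩)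
    rintro _ ⟨s, ⟨b, hb⟩, rfl⟩
    exact ⟨ptOf b, congrArg ptOf hb⟩
  obtain ⟨b, hb⟩ := exists_lift_of_points iB iP fun x => by
    rw [hrP]
    refine subset_closure ⟨x ≫ iB, ⟨x ≫ p₀ ≫ b', ?_⟩, rfl⟩
    show (x ≫ p₀ ≫ b') ≫ iP' = (x ≫ iB) ≫ q
    simp only [Category.assoc, hp₀]
  haveI : IsMonHom p :=
    { one_hom := by rw [← cancel_mono iP', Category.assoc, hp, IsMonHom.one_hom (iP ≫ q), IsMonHom.one_hom iP']
      mul_hom := by
        rw [← cancel_mono iP', Category.assoc, hp, IsMonHom.mul_hom (iP ≫ q), Category.assoc, IsMonHom.mul_hom iP',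
          ← hp, tensorHom_comp_tensorHom_assoc] }
  refine ⟨P, inferInstance, iP, p, ⟨hiP, hclP, inferInstance, B, inferInstance, b, hb ▸ hB⟩, ?_, hp⟩
  obtain ⟨M, _, iM, g, -, -, hclM, hgM, hsg, -, -, -, -⟩ := AlgGrpLib.ImageSubgroup.exists_image p
  haveI := hclM; haveI := hsg
  have hsur : ∀ x : 𝟙_ (Over (Spec (CommRingCat.of k))) ⟶ P', ptOf x ∈ Set.range iM.left := fun x => by
    obtain ⟨g₀, hg₀⟩ := exists_ratPoint_lift q (x ≫ iP')
    obtain ⟨y, hy⟩ := hliftP g₀ ⟨x, hg₀.symm⟩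
    have : y ≫ p = x := by rw [← cancel_mono iP', Category.assoc, hp, reassoc_of% hy, hg₀]
    refine ⟨ptOf (y ≫ g), ?_⟩
    show ptOf ((y ≫ g) ≫ iM) = _
    rw [Category.assoc, hgM, this]
  haveI : Surjective iM.left := ⟨fun z => subset_of_forall_point (Z := P') isClosed_univ.isLocallyClosed
    iM.left.isClosedEmbedding.isClosed_range (fun x _ => hsur x) (Set.mem_univ z)⟩
  rw [← hgM, Over.comp_left]
  infer_instance

end Groth.Agent.AGFQuot23
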