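import Groth.Agent.AGFQuot23.Basic
import Groth.Agent.AGFQuot23.Borel
import Groth.Agent.AlgGrpLib.BorelFixed
import Groth.Agent.AlgGrpLib.OrbitDim

/-!
# Solvable subgroups with proper quotient
-/

set_option autoImplicit false
set_option backward.isDefEq.respectTransparency false
set_option linter.style.haveILetI false

universe u

open CategoryTheory Limits MonoidalCategory CartesianMonoidalCategory MonObj GrpObj AlgebraicGeometry

namespace Groth.Agent.AGFQuot23

variable {k : Type u} [Field k] [IsAlgClosed k]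

/-- A rational point is determined by its image. -/
theorem ratPoint_ext {X : Over (Spec (CommRingCat.of k))} [LocallyOfFiniteType X.hom]
    (x y : 𝟙_ (Over (Spec (CommRingCat.of k))) ⟶ X)
    (h : x.left (IsLocalRing.closedPoint k) = y.left (IsLocalRing.closedPoint k)) : x = y := by
  refine Over.OverMorphism.ext ?_
  exact congrArg Subtype.val ((pointEquivClosedPoint X.hom).injective
    (a₁ := ⟨x.left, Over.w x⟩) (a₂ := ⟨y.left, Over.w y⟩) (Subtype.ext h))

/-- Rational points lift along surjections. -/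
theorem exists_ratPoint_lift {G X : Over (Spec (CommRingCat.of k))} [LocallyOfFiniteType G.hom]
    [LocallyOfFiniteType X.hom] (f : G ⟶ X) [Surjective f.left]
    (x : 𝟙_ (Over (Spec (CommRingCat.of k))) ⟶ X) :
    ∃ g : 𝟙_ (Over (Spec (CommRingCat.of k))) ⟶ G, g ≫ f = x := by
  let z := x.left (IsLocalRing.closedPoint k)
  have hz : IsClosed ({z} : Set X.left) :=
    ((pointEquivClosedPoint X.hom) ⟨x.left, Over.w x⟩).2
  obtain ⟨w, hw⟩ := f.left.surjective z
  obtain ⟨g, hg⟩ := AlgGrpLib.OrbitDim.exists_ratPoint_mem (X := G) (S := f.left ⁻¹' {z})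
    (hz.preimage f.left.continuous).isLocallyClosed ⟨w, hw⟩
  exact ⟨g, ratPoint_ext _ _ (hg (IsLocalRing.closedPoint k))⟩

/-- Restriction of an action. -/
noncomputable def restrictAction {S : Scheme.{u}} {G B X : Over S} [GrpObj G] [GrpObj B] (a : AlgGrp.Action G X)
    (i : B ⟶ G) [IsMonHom i] : AlgGrp.Action B X where
  act := (i ▷ X) ≫ a.act
  one_act := by rw [← comp_whiskerRight_assoc, IsMonHom.one_hom, a.one_act]
  mul_act := by
    let T := (B ⊗ B) ⊗ X
    let b₁ : T ⟶ B := fst _ _ ≫ fst B B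
    let b₂ : T ⟶ B := fst _ _ ≫ snd B B
    let x : T ⟶ X := snd _ _
    have hl : (μ[B] ▷ X) ≫ (i ▷ X) = lift ((b₁ * b₂) ≫ i) x := by
      refine CartesianMonoidalCategory.hom_ext _ _ ?_ (by simp [x, T])
      simp only [b₁, b₂, Hom.mul_def, ← comp_lift, lift_fst_snd, Category.comp_id, lift_fst, Category.assoc,
        whiskerRight_fst, whiskerRight_fst_assoc, T]
    have hr : (α_ B B X).hom ≫ (B ◁ ((i ▷ X) ≫ a.act)) ≫ (i ▷ X) =
        lift (b₁ ≫ i) (lift (b₂ ≫ i) x ≫ a.act) := by
      refine CartesianMonoidalCategory.hom_ext _ _ (by simp [b₁, T]) ?_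
      simp only [Category.assoc, whiskerRight_snd, whiskerLeft_snd, lift_snd]
      simp only [← Category.assoc]
      congr 1
      refine CartesianMonoidalCategory.hom_ext _ _ ?_ ?_ <;> simp [b₂, x, T]
    rw [← Category.assoc, hl, MonObj.mul_comp, act_mul, ← hr]
    simp only [Category.assoc]

/-- An injective closed endomorphism of a noetherian space is surjective. -/
theorem surjective_of_isClosedEmbedding {T : Type*} [TopologicalSpace T] [TopologicalSpace.NoetherianSpace T]
    {φ : T → T} (hφ : Topology.IsClosedEmbedding φ) : Function.Surjective φ := by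
  have hc : ∀ n : ℕ, IsClosed (Set.range (φ^[n])) := by
    intro n
    induction n with
    | zero => simp
    | succ n ih =>
      rw [Function.iterate_succ', Set.range_comp]
      exact hφ.isClosedMap _ ih
  obtain ⟨_, ⟨n, rfl⟩, hmin⟩ := wellFounded_lt.has_min
    (Set.range fun n : ℕ => (⟨Set.range (φ^[n]), hc n⟩ : TopologicalSpace.Closeds T)) ⟨_, 0, rfl⟩
  intro y
  have h1 : Set.range (φ^[n + 1]) = Set.range (φ^[n]) := by
    by_contra hne
    exact hmin _ ⟨n + 1, rfl⟩ (lt_of_le_of_ne (by
      show Set.range (φ^[n + 1]) ⊆ Set.range (φ^[n])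
      rw [Function.iterate_succ]; exact Set.range_comp_subset_range _ _) fun e => hne (congrArg (·.carrier) e))
  obtain ⟨x, hx⟩ : φ^[n] y ∈ Set.range (φ^[n + 1]) := h1 ▸ ⟨y, rfl⟩
  rw [Function.iterate_succ_apply] at hx
  exact ⟨x, (hφ.injective.iterate n) hx⟩

variable {G H : Over (Spec (CommRingCat.of k))} [GrpObj G] [GrpObj H] [IsAffine G.left] [Smooth G.hom]

/-- A solvable subgroup with proper quotient is a Borel subgroup. -/
theorem isBorelOver_of_isProper (iH : H ⟶ G) [IsMonHom iH] (hcl : IsClosedImmersion iH.left)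
    [Smooth H.hom] [ConnectedSpace H.left] (hsolv : Red.IsSolvableGrp H)
    (X : Over (Spec (CommRingCat.of k))) (a : AlgGrp.Action G X) (o : 𝟙_ (Over (Spec (CommRingCat.of k))) ⟶ X)
    (hX : AGF.IsQuotient iH X a o) (hp : IsProper X.hom) : Red.IsBorelOver k iH := by
  obtain ⟨hLX, hflat, hsur, hpb⟩ := hX
  haveI := hp; haveI := hsur
  refine ⟨inferInstance, hcl, inferInstance, inferInstance, hsolv, fun B _ i' _ f hcl' hsm hconn hsolv' hf => ?_⟩
  haveI := hcl'; haveI := hsm; haveI := hconn
  haveI : IsAffine B.left := isAffine_of_isAffineHom i'.left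
  haveI : Group.IsSolvable (𝟙_ (Over (Spec (CommRingCat.of k))) ⟶ B) := by
    obtain ⟨n, hn⟩ := hsolv'
    exact ⟨⟨n, hn _⟩⟩
  haveI : Nonempty X.left := ⟨o.left (IsLocalRing.closedPoint k)⟩
  obtain ⟨x, hx⟩ := AlgGrpLib.BorelFixed.exists_isFixedPt B X (restrictAction a i')
  obtain ⟨g, rfl⟩ := exists_ratPoint_lift (a.orbitMap o) x
  let gB : B ⟶ G := toUnit B ≫ g
  have hfix : gB ≫ a.orbitMap o = (i' * gB) ≫ a.orbitMap o := by
    have h := hx B (𝟙 B)
    rw [mul_comp_orbitMap, Category.assoc]
    refine h.symm.trans ?_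
    show lift (𝟙 B) (toUnit B ≫ g ≫ a.orbitMap o) ≫ (i' ▷ X) ≫ a.act = _
    rw [lift_whiskerRight_assoc, Category.id_comp]
  obtain ⟨t, ht₁, ht₂⟩ := hpb.exists_lift _ _ hfix
  let h : B ⟶ H := t ≫ snd G H
  have hh : h ≫ iH = gB⁻¹ * i' * gB := by
    rw [RedQuotLib.act_eq, ht₁] at ht₂
    rw [_root_.mul_assoc, ← ht₂, inv_mul_cancel_left]
  let gG : G ⟶ G := toUnit G ≫ g
  let c : G ≅ G :=
    { hom := gG⁻¹ * 𝟙 G * gG
      inv := gG * 𝟙 G * gG⁻¹
      hom_inv_id := by
        simp only [MonObj.comp_mul, GrpObj.comp_inv, Category.comp_id]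
        simp only [gG, ← Category.assoc, comp_toUnit]
        group
      inv_hom_id := by
        simp only [MonObj.comp_mul, GrpObj.comp_inv, Category.comp_id]
        simp only [gG, ← Category.assoc, comp_toUnit]
        group }
  have hc : h ≫ iH = i' ≫ c.hom := by
    rw [hh]
    simp only [c, gG, gB, MonObj.comp_mul, GrpObj.comp_inv, Category.comp_id]
    simp only [← Category.assoc, comp_toUnit]
  haveI := hcl
  haveI : IsIso c.hom := Iso.isIso_hom c
  haveI : IsIso c.hom.left := inferInstanceAs (IsIso ((Over.forget _).map c.hom))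
  haveI : IsClosedImmersion (h.left ≫ iH.left) := by rw [← Over.comp_left, hc, Over.comp_left]; infer_instance
  haveI : IsClosedImmersion h.left := IsClosedImmersion.of_comp _ iH.left
  haveI : IsClosedImmersion (f.left ≫ i'.left) := by rw [← Over.comp_left, hf]; exact hcl
  haveI : IsClosedImmersion f.left := IsClosedImmersion.of_comp f.left i'.left
  haveI : IsClosedImmersion (f ≫ h).left := by rw [Over.comp_left]; infer_instance
  haveI : IsReduced H.left := Groth.Agent.AbSchLib.isReduced_of_smooth H.hom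
  haveI : IsLocallyNoetherian G.left := LocallyOfFiniteType.isLocallyNoetherian G.hom
  haveI : IsAffine H.left := isAffine_of_isAffineHom iH.left
  haveI : IsLocallyNoetherian H.left := LocallyOfFiniteType.isLocallyNoetherian H.hom
  haveI : IsNoetherian H.left := {}
  haveI : Surjective (f ≫ h).left := ⟨surjective_of_isClosedEmbedding (f ≫ h).left.isClosedEmbedding⟩
  haveI : IsIso (f ≫ h).left := isIso_of_isClosedImmersion_of_surjective _
  haveI : IsIso (f ≫ h) := (isIso_iff_of_reflects_iso (f ≫ h) (Over.forget _)).1 ‹_›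
  haveI : IsSplitEpi h := IsSplitEpi.mk' ⟨inv (f ≫ h) ≫ f, by rw [Category.assoc, IsIso.inv_hom_id]⟩
  haveI : Mono h := (Over.forget _).mono_of_mono_map (f := h) (inferInstanceAs (Mono h.left))
  haveI := isIso_of_mono_of_isSplitEpi h
  exact IsIso.of_isIso_comp_right f h

end Groth.Agent.AGFQuot23
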