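import Groth.Prelude.Def_AlgGrp
import Groth.Agent.GrpQLib.AffineGroupQuot
import Groth.Agent.FlatLocal.Descent

/-! Quotients of a product of two groups by a diagonal subgroup: torsor over one factor's quotient,
and birational bookkeeping. -/

universe u

set_option autoImplicit false
set_option backward.isDefEq.respectTransparency.types false
set_option linter.style.haveILetI false
set_option maxHeartbeats 1000000

open CategoryTheory CategoryTheory.Limits MonoidalCategory CartesianMonoidalCategory MonObj AlgebraicGeometry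

noncomputable section

namespace Groth.Agent.AGFQuot23.StableBirat

variable {k : Type u} [Field k]


section action

variable {G X T : Over (Spec (CommRingCat.of k))} [GrpObj G] (a : AlgGrp.Action G X)

/-- `g • x` for points. -/
abbrev sm (g : T ⟶ G) (x : T ⟶ X) : T ⟶ X := lift g x ≫ a.act

theorem sm_one (x : T ⟶ X) : sm a 1 x = x := by
  have h : lift (1 : T ⟶ G) x = lift (toUnit T) x ≫ (η[G] ▷ X) := by
    rw [Hom.one_def, lift_whiskerRight]
  rw [sm, h, Category.assoc, a.one_act, lift_leftUnitor_hom]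

theorem sm_sm (g h : T ⟶ G) (x : T ⟶ X) : sm a g (sm a h x) = sm a (g * h) x := by
  have e : lift (g * h) x = lift (lift g h) x ≫ (μ[G] ▷ X) := by
    rw [Hom.mul_def, lift_whiskerRight]
  simp only [sm]
  rw [e, Category.assoc, a.mul_act, lift_lift_associator_hom_assoc, lift_whiskerLeft_assoc]

theorem comp_sm {T' : Over (Spec (CommRingCat.of k))} (c : T' ⟶ T) (g : T ⟶ G) (x : T ⟶ X) :
    c ≫ sm a g x = sm a (c ≫ g) (c ≫ x) := by
  simp only [sm, comp_lift_assoc]

theorem comp_orbit (g : T ⟶ G) (o : 𝟙_ (Over (Spec (CommRingCat.of k))) ⟶ X) :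
    g ≫ a.orbitMap o = sm a g (toUnit T ≫ o) := by
  simp only [sm, AlgGrp.Action.orbitMap, comp_lift_assoc, Category.comp_id]
  rw [← Category.assoc g, comp_toUnit]

theorem sm_orbit (g h : T ⟶ G) (o : 𝟙_ (Over (Spec (CommRingCat.of k))) ⟶ X) :
    sm a g (h ≫ a.orbitMap o) = (g * h) ≫ a.orbitMap o := by
  rw [comp_orbit, sm_sm, ← comp_orbit]

/-- Restrict an action along a homomorphism. -/
def restrict {H : Over (Spec (CommRingCat.of k))} [GrpObj H] (j : H ⟶ G) [IsMonHom j] : AlgGrp.Action H X where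
  act := (j ▷ X) ≫ a.act
  one_act := by
    rw [← Category.assoc, ← MonoidalCategory.comp_whiskerRight, IsMonHom.one_hom, a.one_act]
  mul_act := by
    have hz : 𝟙 ((H ⊗ H) ⊗ X) = lift (lift (fst (H ⊗ H) X ≫ fst H H) (fst (H ⊗ H) X ≫ snd H H)) (snd (H ⊗ H) X) := by
      ext <;> simp
    rw [← Category.id_comp ((μ[H] ▷ X) ≫ (j ▷ X) ≫ a.act),
      ← Category.id_comp ((α_ H H X).hom ≫ (H ◁ ((j ▷ X) ≫ a.act)) ≫ (j ▷ X) ≫ a.act), hz]
    simp only [lift_whiskerRight_assoc, lift_lift_associator_hom_assoc, lift_whiskerLeft_assoc]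
    show sm a (_ ≫ j) _ = sm a (_ ≫ j) (sm a (_ ≫ j) _)
    rw [sm_sm, ← MonObj.mul_comp, Hom.mul_def]

theorem sm_restrict {H : Over (Spec (CommRingCat.of k))} [GrpObj H] (j : H ⟶ G) [IsMonHom j] (g : T ⟶ H) (x : T ⟶ X) :
    sm (restrict a j) g x = sm a (g ≫ j) x := by
  simp only [sm, restrict, lift_whiskerRight_assoc]

end action

theorem cancel_cover {T' T X : Over (Spec (CommRingCat.of k))} (c : T' ⟶ T) [Surjective c.left] [Flat c.left]
    [LocallyOfFinitePresentation c.left] {x y : T ⟶ X} (h : c ≫ x = c ≫ y) : x = y := by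
  haveI : Epi c := Over.epi_of_epi_left _
  exact (cancel_epi c).1 h

theorem cover_snd {T X Y : Over (Spec (CommRingCat.of k))} (y : T ⟶ Y) (π : X ⟶ Y) [Surjective π.left] [Flat π.left]
    [LocallyOfFinitePresentation π.left] :
    ∃ (T' : Over (Spec (CommRingCat.of k))) (c : T' ⟶ T) (x : T' ⟶ X), Surjective c.left ∧ Flat c.left ∧
      LocallyOfFinitePresentation c.left ∧ x ≫ π = c ≫ y := by
  refine ⟨Over.mk (Limits.pullback.snd π.left y.left ≫ T.hom),
    Over.homMk (Limits.pullback.snd π.left y.left), Over.homMk (Limits.pullback.fst π.left y.left) ?_,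
    ?_, ?_, ?_, ?_⟩
  · simp only [Over.mk_hom]
    rw [← Over.w π, ← Over.w y, Limits.pullback.condition_assoc]
  · exact inferInstanceAs (Surjective (Limits.pullback.snd π.left y.left))
  · exact inferInstanceAs (Flat (Limits.pullback.snd π.left y.left))
  · exact inferInstanceAs (LocallyOfFinitePresentation (Limits.pullback.snd π.left y.left))
  · exact Over.OverMorphism.ext Limits.pullback.condition

variable {G G₁ G₂ P Y Q : Over (Spec (CommRingCat.of k))} [GrpObj G] [GrpObj G₁] [GrpObj G₂] [GrpObj P]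

/-- The torsor: `P = G₁ × G₂`, `Y = P/G`, `Q = G₁/G`. -/
theorem exists_torsor (pr₁ : P ⟶ G₁) (pr₂ : P ⟶ G₂) [IsMonHom pr₁] [IsMonHom pr₂]
    (hext : ∀ {T : Over (Spec (CommRingCat.of k))} (x y : T ⟶ P), x ≫ pr₁ = y ≫ pr₁ → x ≫ pr₂ = y ≫ pr₂ → x = y)
    (inr : G₂ ⟶ P) [IsMonHom inr] (hr1 : inr ≫ pr₁ = 1) (hr2 : inr ≫ pr₂ = 𝟙 G₂)
    (i₁ : G ⟶ G₁) (i₂ : G ⟶ G₂) [Mono i₁] [IsMonHom i₁]
    (d : G ⟶ P) [IsMonHom d] (hd1 : d ≫ pr₁ = i₁) (hd2 : d ≫ pr₂ = i₂)
    (b : AlgGrp.Action P Y) (o : 𝟙_ (Over (Spec (CommRingCat.of k))) ⟶ Y)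
    [Surjective (b.orbitMap o).left] [Flat (b.orbitMap o).left] [LocallyOfFinitePresentation (b.orbitMap o).left]
    (sqY : IsPullback (fst P G) ((P ◁ d) ≫ μ[P]) (b.orbitMap o) (b.orbitMap o))
    (a : AlgGrp.Action G₁ Q) (oQ : 𝟙_ (Over (Spec (CommRingCat.of k))) ⟶ Q)
    (sqQ : IsPullback (fst G₁ G) ((G₁ ◁ i₁) ≫ μ[G₁]) (a.orbitMap oQ) (a.orbitMap oQ)) :
    ∃ (act : AlgGrp.Action G₂ Y) (f : Y ⟶ Q), b.orbitMap o ≫ f = pr₁ ≫ a.orbitMap oQ ∧
      IsPullback act.act (snd G₂ Y) f f := by
  let π := b.orbitMap o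
  let p := a.orbitMap oQ
  have hμP : (P ◁ d) ≫ μ[P] = fst P G * (snd P G ≫ d) := by rw [Hom.mul_def]; congr 1
  have hμQ : (G₁ ◁ i₁) ≫ μ[G₁] = fst G₁ G * (snd G₁ G ≫ i₁) := by rw [Hom.mul_def]; congr 1
  have relQ : ∀ {T : Over (Spec (CommRingCat.of k))} (x : T ⟶ G₁) (h : T ⟶ G), (x * (h ≫ i₁)) ≫ p = x ≫ p := fun x h => by
    have := congrArg (lift x h ≫ ·) sqQ.w
    simp only [hμQ, lift_fst_assoc, ← Category.assoc, MonObj.comp_mul, lift_fst, lift_snd] at this
    exact this.symm
  have relP : ∀ {T : Over (Spec (CommRingCat.of k))} (x : T ⟶ P) (h : T ⟶ G), (x * (h ≫ d)) ≫ π = x ≫ π := fun x h => by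
    have := congrArg (lift x h ≫ ·) sqY.w
    simp only [hμP, lift_fst_assoc, ← Category.assoc, MonObj.comp_mul, lift_fst, lift_snd] at this
    exact this.symm
  have exP : ∀ {T : Over (Spec (CommRingCat.of k))} (x y : T ⟶ P), x ≫ π = y ≫ π → ∃ h : T ⟶ G, y = x * (h ≫ d) := fun x y e => by
    have h1 := sqY.lift_fst x y e
    have h2 := sqY.lift_snd x y e
    refine ⟨sqY.lift x y e ≫ snd P G, ?_⟩
    generalize sqY.lift x y e = l at h1 h2 ⊢
    rw [hμP, MonObj.comp_mul, h1, ← Category.assoc] at h2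
    exact h2.symm
  have exQ : ∀ {T : Over (Spec (CommRingCat.of k))} (x y : T ⟶ G₁), x ≫ p = y ≫ p → ∃ h : T ⟶ G, y = x * (h ≫ i₁) := fun x y e => by
    have h1 := sqQ.lift_fst x y e
    have h2 := sqQ.lift_snd x y e
    refine ⟨sqQ.lift x y e ≫ snd G₁ G, ?_⟩
    generalize sqQ.lift x y e = l at h1 h2 ⊢
    rw [hμQ, MonObj.comp_mul, h1, ← Category.assoc] at h2
    exact h2.symm
  obtain ⟨f, hf⟩ := GrpQLib.exists_desc_fppf π (pr₁ ≫ p) (fun {W} x y e => by
    obtain ⟨h, rfl⟩ := exP x y e
    rw [← Category.assoc, ← Category.assoc, MonObj.mul_comp, Category.assoc h, hd1, relQ])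
  refine ⟨restrict b inr, f, hf, ?_⟩
  let act := restrict b inr
  have hpt : ∀ {T : Over (Spec (CommRingCat.of k))} (c : T ⟶ G₂) (x : T ⟶ P), sm act c (x ≫ π) = ((c ≫ inr) * x) ≫ π :=
    fun c x => by rw [sm_restrict, sm_orbit]
  have hinv : ∀ {T : Over (Spec (CommRingCat.of k))} (c : T ⟶ G₂) (y : T ⟶ Y), sm act c y ≫ f = y ≫ f := fun {T} c y => by
    obtain ⟨T', e, x, h1, h2, h3, hx⟩ := cover_snd y π
    haveI := h1; haveI := h2; haveI := h3
    refine cancel_cover e ?_
    have h0 : e ≫ sm act c y = sm act (e ≫ c) (e ≫ y) := comp_sm act e c y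
    have h1 : (e ≫ sm act c y) ≫ f = (e ≫ y) ≫ f := by
      rw [h0, ← hx, hpt, Category.assoc ((e ≫ c) ≫ inr * x) π f, Category.assoc x π f, hf,
        ← Category.assoc, ← Category.assoc, MonObj.mul_comp, Category.assoc (e ≫ c), hr1, MonObj.comp_one, _root_.one_mul]
    simpa only [Category.assoc] using h1
  have huniq : ∀ {T : Over (Spec (CommRingCat.of k))} (c c' : T ⟶ G₂) (y : T ⟶ Y), sm act c y = sm act c' y → c = c' :=
    fun {T} c c' y e0 => by
    obtain ⟨T', e, x, h1, h2, h3, hx⟩ := cover_snd y π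
    haveI := h1; haveI := h2; haveI := h3
    refine cancel_cover e ?_
    have e1 := congrArg (e ≫ ·) e0
    simp only [comp_sm, ← hx, hpt] at e1
    obtain ⟨h, hh⟩ := exP _ _ e1
    have k1 := congrArg (· ≫ pr₁) hh
    simp only [MonObj.mul_comp, Category.assoc, hr1, MonObj.comp_one, _root_.one_mul, hd1] at k1
    have hh0 : h ≫ i₁ = 1 := left_eq_mul.1 k1
    have h0 : h = 1 := (cancel_mono i₁).1 (hh0.trans (MonObj.one_comp i₁).symm)
    rw [h0, MonObj.one_comp, _root_.mul_one] at hh
    have k2 := congrArg (· ≫ pr₂) hh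
    simp only [MonObj.mul_comp, Category.assoc, hr2, Category.comp_id] at k2
    exact (mul_right_cancel k2).symm
  have hex : ∀ {T : Over (Spec (CommRingCat.of k))} (y y' : T ⟶ Y), y' ≫ f = y ≫ f → ∃ c : T ⟶ G₂, sm act c y = y' :=
    fun {T} y y' e0 => by
    obtain ⟨T₁, e₁, x₁, a1, a2, a3, hx₁⟩ := cover_snd y π
    haveI := a1; haveI := a2; haveI := a3
    obtain ⟨T₂, e₂, x₂, b1, b2, b3, hx₂⟩ := cover_snd (e₁ ≫ y') π
    haveI := b1; haveI := b2; haveI := b3
    let e := e₂ ≫ e₁
    haveI : Surjective e.left := inferInstanceAs (Surjective (e₂.left ≫ e₁.left))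
    haveI : Flat e.left := inferInstanceAs (Flat (e₂.left ≫ e₁.left))
    haveI : LocallyOfFinitePresentation e.left :=
      inferInstanceAs (LocallyOfFinitePresentation (e₂.left ≫ e₁.left))
    let x := e₂ ≫ x₁
    have hx : x ≫ π = e ≫ y := by simp only [x, e, Category.assoc, hx₁]
    have hx' : x₂ ≫ π = e ≫ y' := by simp only [e, Category.assoc, hx₂]
    have hq : (x ≫ pr₁) ≫ p = (x₂ ≫ pr₁) ≫ p := by
      simp only [Category.assoc, ← hf]
      simp only [← Category.assoc, hx, hx']
      simp only [Category.assoc, e0]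
    obtain ⟨g, hg⟩ := exQ _ _ hq
    let c := (x₂ ≫ pr₂) * (g ≫ i₂)⁻¹ * (x ≫ pr₂)⁻¹
    have hc : sm act c (e ≫ y) = e ≫ y' := by
      rw [← hx, hpt, ← hx', ← relP ((c ≫ inr) * x) g]
      congr 1
      apply hext
      · simp only [MonObj.mul_comp, Category.assoc, hr1, hd1, MonObj.comp_one, _root_.one_mul]
        exact hg.symm
      · simp only [MonObj.mul_comp, Category.assoc, hr2, hd2, Category.comp_id]
        simp only [c, inv_mul_cancel_right]
    obtain ⟨c₀, hc₀⟩ := GrpQLib.exists_desc_fppf e c (fun {W} u v huv => by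
      apply huniq _ _ (u ≫ e ≫ y)
      have hu := congrArg (u ≫ ·) hc
      have hv := congrArg (v ≫ ·) hc
      simp only [comp_sm] at hu hv
      rw [← Category.assoc v, ← huv, Category.assoc, ← Category.assoc v e y', ← huv, Category.assoc] at hv
      exact hu.trans hv.symm)
    refine ⟨c₀, cancel_cover e ?_⟩
    rw [comp_sm, hc₀, hc]
  have hacteq : act.act = sm act (fst G₂ Y) (snd G₂ Y) := by
    show act.act = lift (fst G₂ Y) (snd G₂ Y) ≫ act.act
    rw [lift_fst_snd, Category.id_comp]
  have hw : act.act ≫ f = snd G₂ Y ≫ f := by rw [hacteq, hinv]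
  have hex' : ∀ s : PullbackCone f f, ∃ c : s.pt ⟶ G₂, sm act c s.snd = s.fst :=
    fun s => hex _ _ s.condition
  choose cc hcc using hex'
  refine ⟨⟨hw⟩, ⟨PullbackCone.IsLimit.mk hw (fun s => lift (cc s) s.snd) (fun s => hcc s)
    (fun s => lift_snd _ _) (fun s m h1 h2 => ?_)⟩⟩
  apply CartesianMonoidalCategory.hom_ext
  · rw [lift_fst]
    apply huniq _ _ s.snd
    rw [hcc, ← h1, ← h2, hacteq, comp_sm]
  · rw [lift_snd, h2]

section birat

open Scheme

theorem birationalOver_of_iso {S X Y : Scheme.{u}} (e : X ≅ Y) {sX : X ⟶ S} {sY : Y ⟶ S} (he : e.hom ≫ sY = sX) :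
    BirationalOver sX sY :=
  Scheme.Hom.birationalOver e.hom sY sX he

theorem isDominant_fst_of_dense {Z X T : Scheme.{u}} (jj : Z ⟶ X) (p : T ⟶ X) [IsOpenImmersion jj]
    (hjj : DenseRange jj.base) (hp : IsOpenMap p.base) : IsDominant (Limits.pullback.snd jj p) := by
  refine ⟨?_⟩
  show Dense (Set.range (Limits.pullback.snd jj p).base)
  rw [Scheme.Pullback.range_snd]
  exact hjj.preimage hp

/-- Birationality is preserved by products over a field. -/
theorem birationalOver_prod {X Y T : Scheme.{u}} {sX : X ⟶ (Spec (CommRingCat.of k))}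
    {sY : Y ⟶ (Spec (CommRingCat.of k))} (sT : T ⟶ (Spec (CommRingCat.of k))) (h : BirationalOver sX sY) :
    BirationalOver (Limits.pullback.fst sX sT ≫ sX) (Limits.pullback.fst sY sT ≫ sY) := by
  obtain ⟨f, hf⟩ := h
  haveI : UniversallyOpen sT := inferInstance
  have key : ∀ {X : Scheme.{u}} (sX : X ⟶ (Spec (CommRingCat.of k))) (U : X.Opens), Dense (U : Set X) →
      BirationalOver (Limits.pullback.fst (U.ι ≫ sX) sT ≫ U.ι ≫ sX) (Limits.pullback.fst sX sT ≫ sX) := by
    intro X sX U hU
    let m := (pullbackRightPullbackFstIso sX sT U.ι).inv ≫ Limits.pullback.snd U.ι (Limits.pullback.fst sX sT)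
    haveI : IsDominant (Limits.pullback.snd U.ι (Limits.pullback.fst sX sT)) :=
      isDominant_fst_of_dense U.ι _ (by show Dense (Set.range U.ι.base); rw [U.range_ι]; exact hU)
        (Limits.pullback.fst sX sT).isOpenMap
    refine Scheme.Hom.birationalOver m _ _ ?_
    simp only [m, Category.assoc]
    rw [← Limits.pullback.condition_assoc, pullbackRightPullbackFstIso_inv_fst_assoc]
  have hi : BirationalOver (Limits.pullback.fst (f.source.ι ≫ sX) sT ≫ f.source.ι ≫ sX)
      (Limits.pullback.fst (f.target.ι ≫ sY) sT ≫ f.target.ι ≫ sY) := by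
    refine birationalOver_of_iso (asIso (Limits.pullback.map _ sT _ sT f.iso.hom (𝟙 _) (𝟙 _)
      (by rw [Category.comp_id]; exact (Eq.symm hf)) (by simp))) ?_
    rw [asIso_hom, Limits.pullback.lift_fst_assoc, Category.assoc, hf]
  exact ((key sX _ f.dense_source).symm.trans hi).trans (key sY _ f.dense_target)

theorem birationalOver_prod_symm {X T : Scheme.{u}} (sX : X ⟶ (Spec (CommRingCat.of k)))
    (sT : T ⟶ (Spec (CommRingCat.of k))) :
    BirationalOver (Limits.pullback.fst sX sT ≫ sX) (Limits.pullback.fst sT sX ≫ sT) := by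
  refine birationalOver_of_iso (Limits.pullbackSymmetry sX sT) ?_
  rw [Limits.pullbackSymmetry_hom_comp_fst_assoc, Limits.pullback.condition]

/-- Only finitely many variables in a rational presentation of a finite type scheme. -/
theorem finite_of_finiteType_away (n : Type u) (g : MvPolynomial n k) (hg : g ≠ 0)
    (h : Algebra.FiniteType k (Localization.Away g)) : Finite n := by
  classical
  obtain ⟨s, hs⟩ := h.out
  have hex : ∀ x : Localization.Away g, ∃ (a : MvPolynomial n k) (m : ℕ),
      x * algebraMap _ _ (g ^ m) = algebraMap _ _ a := fun x => by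
    obtain ⟨m, a, e⟩ := IsLocalization.Away.surj g x
    exact ⟨a, m, by rw [map_pow]; exact e⟩
  choose num m hnum using hex
  let S : Finset n := g.vars ∪ s.biUnion (fun x => (num x).vars)
  by_contra hinf
  rw [not_finite_iff_infinite] at hinf
  obtain ⟨j, hj⟩ := Infinite.exists_notMem_finset S
  let φ₀ : MvPolynomial n k →ₐ[k] MvPolynomial n k :=
    MvPolynomial.aeval (fun i => if i = j then 0 else MvPolynomial.X i)
  have hfix : ∀ a : MvPolynomial n k, j ∉ a.vars → φ₀ a = a := fun a ha => by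
    refine (MvPolynomial.eval₂Hom_congr' rfl ?_ rfl).trans (MvPolynomial.aeval_X_left_apply a)
    intro i hi _
    simp only [if_neg (ne_of_mem_of_not_mem hi ha)]
  have hginj : Function.Injective (algebraMap (MvPolynomial n k) (Localization.Away g)) :=
    IsLocalization.injective _ (powers_le_nonZeroDivisors_of_noZeroDivisors hg)
  have hgu : IsUnit (algebraMap (MvPolynomial n k) (Localization.Away g) g) := IsLocalization.Away.algebraMap_isUnit g
  let A : Subalgebra k (Localization.Away g) :=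
    { carrier := {x | ∀ (a : MvPolynomial n k) (e : ℕ), x * algebraMap _ _ (g ^ e) = algebraMap _ _ a → φ₀ a = a}
      mul_mem' := fun {x y} hx hy a e h => by
        obtain ⟨ex, ax, hax⟩ := IsLocalization.Away.surj g x
        obtain ⟨ey, ay, hay⟩ := IsLocalization.Away.surj g y
        rw [← map_pow] at hax hay
        have hh : g ^ e * (ax * ay) = g ^ (ex + ey) * a := hginj (by
          simp only [map_mul, map_pow, pow_add] at hax hay h ⊢
          rw [← hax, ← hay, ← h]; ring)
        have hg0 : φ₀ g = g := hfix g (fun hm => hj (Finset.mem_union_left _ hm))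
        have := congrArg φ₀ hh
        simp only [map_mul, map_pow, hg0, hx ax ex hax, hy ay ey hay] at this
        rw [hh] at this
        exact (mul_left_cancel₀ (pow_ne_zero _ hg) this).symm
      add_mem' := fun {x y} hx hy a e h => by
        obtain ⟨ex, ax, hax⟩ := IsLocalization.Away.surj g x
        obtain ⟨ey, ay, hay⟩ := IsLocalization.Away.surj g y
        rw [← map_pow] at hax hay
        have hh : g ^ e * (g ^ ey * ax + g ^ ex * ay) = g ^ (ex + ey) * a := hginj (by
          simp only [map_mul, map_add, map_pow, pow_add] at hax hay h ⊢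
          rw [← hax, ← hay, ← h]; ring)
        have hg0 : φ₀ g = g := hfix g (fun hm => hj (Finset.mem_union_left _ hm))
        have := congrArg φ₀ hh
        simp only [map_mul, map_add, map_pow, hg0, hx ax ex hax, hy ay ey hay] at this
        rw [hh] at this
        exact (mul_left_cancel₀ (pow_ne_zero _ hg) this).symm
      algebraMap_mem' := fun r a e h => by
        have hg0 : φ₀ g = g := hfix g (fun hm => hj (Finset.mem_union_left _ hm))
        have : a = algebraMap k _ r * g ^ e := hginj (by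
          rw [← h, map_mul, ← IsScalarTower.algebraMap_apply])
        rw [this, map_mul, map_pow, hg0, AlgHom.commutes] }
  have hsA : (↑s : Set (Localization.Away g)) ⊆ A := fun x hx a e h => by
    have hg0 : φ₀ g = g := hfix g (fun hm => hj (Finset.mem_union_left _ hm))
    have hx0 : φ₀ (num x) = num x :=
      hfix _ (fun hm => hj (Finset.mem_union_right _ (Finset.mem_biUnion.2 ⟨x, hx, hm⟩)))
    have hh : g ^ e * num x = g ^ m x * a := hginj (by
      rw [map_mul, map_mul, ← hnum, ← h]; ring)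
    have := congrArg φ₀ hh
    simp only [map_mul, map_pow, hg0, hx0] at this
    rw [hh] at this
    exact (mul_left_cancel₀ (pow_ne_zero _ hg) this).symm
  have hXA : algebraMap (MvPolynomial n k) (Localization.Away g) (MvPolynomial.X j) ∈ A :=
    (Algebra.adjoin_le hsA) (hs ▸ Algebra.mem_top)
  have h0 := hXA (MvPolynomial.X j) 0 (by simp)
  simp [φ₀] at h0
  exact MvPolynomial.X_ne_zero j h0.symm

/-- A rational variety of finite type is birational to a finite dimensional affine space. -/
theorem exists_fin_affine {X : Scheme.{u}} (sX : X ⟶ (Spec (CommRingCat.of k))) [LocallyOfFiniteType sX]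
    [IsRationalOver sX] :
    IrreducibleSpace X ∧ ∃ r : ℕ,
      BirationalOver sX (Spec.map (CommRingCat.ofHom (algebraMap k (MvPolynomial (Fin r) k)))) := by
  obtain ⟨n, hb⟩ := IsRationalOver.exists_birationalOver_affineSpace sX
  have hA : BirationalOver sX (Spec.map (CommRingCat.ofHom (MvPolynomial.C : k →+* MvPolynomial n k))) :=
    hb.trans (birationalOver_of_iso (AffineSpace.SpecIso n (CommRingCat.of k))
      (by rw [← cancel_epi (AffineSpace.SpecIso n (CommRingCat.of k)).inv, Iso.inv_hom_id_assoc]; exact (AffineSpace.SpecIso_inv_over (n := n) (CommRingCat.of k)).symm))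
  obtain ⟨f, hf⟩ := hA
  let AA := Spec (CommRingCat.of (MvPolynomial n k))
  haveI : IrreducibleSpace AA := inferInstanceAs (IrreducibleSpace (PrimeSpectrum (MvPolynomial n k)))
  have hne : (f.target : Set AA).Nonempty := f.dense_target.nonempty
  have hirr : IrreducibleSpace X := by
    have h1 : IsIrreducible (f.target : Set AA) :=
      ⟨hne, (IrreducibleSpace.isIrreducible_univ AA).2.open_subset f.target.isOpen (Set.subset_univ _)⟩
    haveI : IrreducibleSpace f.target.toScheme := Subtype.irreducibleSpace h1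
    let φ := f.iso.inv ≫ f.source.ι
    have hd : DenseRange φ.base := by
      show Dense (Set.range φ.base)
      have : Set.range φ.base = (f.source : Set X) := by
        rw [← f.source.range_ι]
        exact Set.ext fun x => ⟨fun ⟨y, hy⟩ => ⟨f.iso.inv y, hy⟩, fun ⟨y, hy⟩ => ⟨f.iso.hom y, by
          rw [← hy]; show (f.iso.hom ≫ φ) y = _; simp [φ]⟩⟩
      rw [this]; exact f.dense_source
    have h2 : IsIrreducible (closure (Set.range φ.base)) := by
      rw [← Set.image_univ]
      exact ((IrreducibleSpace.isIrreducible_univ _).image _ φ.continuous.continuousOn).closure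
    rw [hd.closure_range] at h2
    exact (irreducibleSpace_def X).2 h2
  refine ⟨hirr, ?_⟩
  obtain ⟨x, hx⟩ := hne
  obtain ⟨_, ⟨g, rfl⟩, hxg, hgU⟩ :=
    PrimeSpectrum.isTopologicalBasis_basic_opens.exists_subset_of_mem_open hx f.target.isOpen
  have hg : g ≠ 0 := fun h => by simp [h] at hxg
  haveI : LocallyOfFiniteType (f.target.ι ≫ Spec.map (CommRingCat.ofHom (MvPolynomial.C : k →+* MvPolynomial n k))) := by
    rw [show f.target.ι ≫ Spec.map (CommRingCat.ofHom (MvPolynomial.C : k →+* MvPolynomial n k)) =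
      f.iso.inv ≫ f.source.ι ≫ sX by rw [← hf, Iso.inv_hom_id_assoc]]
    infer_instance
  let j : Spec (CommRingCat.of (Localization.Away g)) ⟶ AA :=
    Spec.map (CommRingCat.ofHom (algebraMap (MvPolynomial n k) (Localization.Away g)))
  haveI : IsOpenImmersion j := IsOpenImmersion.of_isLocalization g
  have hj : Set.range j.base ⊆ Set.range f.target.ι.base := by
    rw [f.target.range_ι]
    refine le_of_eq_of_le ?_ hgU
    exact PrimeSpectrum.localization_away_comap_range _ g
  haveI : LocallyOfFiniteType (j ≫ Spec.map (CommRingCat.ofHom (MvPolynomial.C : k →+* MvPolynomial n k))) := by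
    rw [← IsOpenImmersion.lift_fac f.target.ι j hj, Category.assoc]
    infer_instance
  have hft : Algebra.FiniteType k (Localization.Away g) := by
    have h := (HasRingHomProperty.Spec_iff (P := @LocallyOfFiniteType)).1
      (show LocallyOfFiniteType (Spec.map (CommRingCat.ofHom MvPolynomial.C ≫
        CommRingCat.ofHom (algebraMap (MvPolynomial n k) (Localization.Away g)))) by
        rw [Spec.map_comp]; infer_instance)
    rw [← RingHom.finiteType_algebraMap, IsScalarTower.algebraMap_eq k (MvPolynomial n k) (Localization.Away g),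
      MvPolynomial.algebraMap_eq]
    exact h
  haveI := finite_of_finiteType_away n g hg hft
  obtain ⟨r, ⟨e⟩⟩ := Finite.exists_equiv_fin n
  let ψ : CommRingCat.of (MvPolynomial (Fin r) k) ≅ CommRingCat.of (MvPolynomial n k) :=
    (MvPolynomial.renameEquiv k e.symm).toRingEquiv.toCommRingCatIso
  refine ⟨r, BirationalOver.trans ⟨f, hf⟩ (birationalOver_of_iso (Scheme.Spec.mapIso ψ.op) ?_)⟩
  rw [Functor.mapIso_hom, Iso.op_hom, Scheme.Spec_map, Quiver.Hom.unop_op, ← Spec.map_comp]
  congr 1
  ext a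
  simp [ψ]

/-- A torsor with a section over a dense open is birational to a product. -/
theorem birationalOver_torsor {G₂ Y Q : Over (Spec (CommRingCat.of k))} [GrpObj G₂]
    (act : AlgGrp.Action G₂ Y) (f : Y ⟶ Q) (sq : IsPullback act.act (snd G₂ Y) f f)
    (hopen : IsOpenMap f.left.base) (W : Q.left.Opens) (hW : Dense (W : Set Q.left))
    (s : (W : Scheme.{u}) ⟶ Y.left) (hs : s ≫ f.left = W.ι) :
    BirationalOver Y.hom (Limits.pullback.fst G₂.hom Q.hom ≫ G₂.hom) := by
  let Wo : Over (Spec (CommRingCat.of k)) := Over.mk (W.ι ≫ Q.hom)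
  let ιO : Wo ⟶ Q := Over.homMk W.ι
  let sO : Wo ⟶ Y := Over.homMk s (by
    show s ≫ Y.hom = W.ι ≫ Q.hom
    rw [← Over.w f, ← Category.assoc, hs])
  have hsO : sO ≫ f = ιO := Over.OverMorphism.ext hs
  have s1 : IsPullback (G₂ ◁ sO) (snd G₂ Wo) (snd G₂ Y) sO := by
    refine ⟨⟨whiskerLeft_snd _ _⟩, ⟨PullbackCone.IsLimit.mk (whiskerLeft_snd _ _)
      (fun c => lift (c.fst ≫ fst G₂ Y) c.snd) (fun c => ?_) (fun c => lift_snd _ _) (fun c m h1 h2 => ?_)⟩⟩
    · rw [lift_whiskerLeft]
      apply CartesianMonoidalCategory.hom_ext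
      · rw [lift_fst]
      · rw [lift_snd, c.condition]
    · apply CartesianMonoidalCategory.hom_ext
      · rw [lift_fst, ← h1, Category.assoc, whiskerLeft_fst]
      · rw [lift_snd, h2]
  have s2 := s1.paste_horiz sq
  rw [hsO] at s2
  have s3 : IsPullback (snd G₂ Wo).left ((G₂ ◁ sO) ≫ act.act).left W.ι f.left := (s2.map (Over.forget _)).flip
  let e := ((G₂ ◁ sO) ≫ act.act).left
  haveI : IsOpenImmersion e := MorphismProperty.of_isPullback s3 inferInstance
  haveI : IsDominant e := by
    haveI := isDominant_fst_of_dense W.ι f.left (by show Dense (Set.range W.ι.base); rw [W.range_ι]; exact hW) hopen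
    rw [show e = s3.isoPullback.hom ≫ Limits.pullback.snd W.ι f.left from s3.isoPullback_hom_snd.symm]
    infer_instance
  have b1 : BirationalOver (G₂ ⊗ Wo).hom Y.hom :=
    Scheme.Hom.birationalOver e Y.hom (G₂ ⊗ Wo).hom (Over.w ((G₂ ◁ sO) ≫ act.act))
  have b2 : BirationalOver (W.ι ≫ Q.hom) Q.hom := W.birationalOver_of_dense Q.hom hW
  have b3 := ((birationalOver_prod_symm G₂.hom (W.ι ≫ Q.hom)).trans (birationalOver_prod G₂.hom b2)).trans
    (birationalOver_prod_symm Q.hom G₂.hom)
  exact b1.symm.trans b3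

theorem isDense_of_irreducible {G₁ Q : Over (Spec (CommRingCat.of k))} [IrreducibleSpace G₁.left] (p : G₁ ⟶ Q)
    [Surjective p.left] (W : Q.left.Opens) (hne : (W : Set Q.left).Nonempty) : Dense (W : Set Q.left) := by
  haveI := Function.Surjective.irreducibleSpace p.left.continuous p.left.surjective
  exact W.isOpen.dense hne

end birat

end Groth.Agent.AGFQuot23.StableBirat
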