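import Groth.Agent.AGFQuot23.SymTensorSub
import Mathlib.RingTheory.PiTensorProduct
import Mathlib.RingTheory.Flat.Stability

/-! Invariant tensors of a flat module come from invariant tensors of a module spanning it. -/

universe u

set_option autoImplicit false
set_option linter.all false
set_option maxHeartbeats 1000000

open scoped TensorProduct
open PiTensorProduct
open Groth.Agent.CommAlg4

noncomputable section

namespace Groth.Agent.AGFQuot23.SymSurj

variable {R R' : Type u} [CommRing R] [CommRing R'] [Algebra R R'] {n : ℕ}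

/-- The map of tensor powers over a change of rings. -/
def psi {A M : Type u} [AddCommGroup A] [Module R A] [AddCommGroup M] [Module R M] [Module R' M]
    [IsScalarTower R R' M] (ψ : A →ₗ[R] M) : (⨂[R] _ : Fin n, A) →ₗ[R] ⨂[R'] _ : Fin n, M :=
  PiTensorProduct.lift (((PiTensorProduct.tprod R').restrictScalars R).compLinearMap fun _ : Fin n => ψ)

theorem psi_tprod {A M : Type u} [AddCommGroup A] [Module R A] [AddCommGroup M] [Module R M] [Module R' M]
    [IsScalarTower R R' M] (ψ : A →ₗ[R] M) (v : Fin n → A) :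
    psi ψ (PiTensorProduct.tprod R v) = PiTensorProduct.tprod R' (fun i => ψ (v i)) := by
  simp [psi]

theorem mem_span_free {A M : Type u} [AddCommGroup A] [Module R A] [AddCommGroup M] [Module R M] [Module R' M]
    [IsScalarTower R R' M] (ψ : A →ₗ[R] M) (D : Subgroup (Equiv.Perm (Fin n))) {m : ℕ} (a : Fin m → A)
    (φ₂ : (Fin m → R') →ₗ[R'] M) (hφ₂ : ∀ i, φ₂ (Pi.single i 1) = ψ (a i)) (s' : ⨂[R'] _ : Fin n, (Fin m → R'))
    (hs' : ∀ σ : D, reindex R' (fun _ => (Fin m → R')) σ.1 s' = s') :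
    tmap R' n φ₂ s' ∈ Submodule.span R' (psi (R' := R') ψ '' (SymTensorSub.Iv R D A : Set (⨂[R] _ : Fin n, A))) := by
  classical
  let b := Basis.piTensorProduct fun _ : Fin n => Pi.basisFun R' (Fin m)
  let rel : Setoid (Fin n → Fin m) :=
    { r := fun g g' => ∃ σ : D, g' = g ∘ σ.1
      iseqv := ⟨fun g => ⟨1, rfl⟩, fun {g g'} ⟨σ, h⟩ => ⟨σ⁻¹, by subst h; ext; simp⟩,
        fun {g g' g''} ⟨σ, h⟩ ⟨τ, h'⟩ => ⟨σ * τ, by subst h; subst h'; ext; simp⟩⟩ }
  haveI : Fintype (Quotient rel) := Fintype.ofFinite _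
  let cls : (Fin n → Fin m) → Quotient rel := Quotient.mk rel
  let orb : Quotient rel → ⨂[R] _ : Fin n, A := fun q =>
    ∑ g ∈ Finset.univ.filter (fun g => cls g = q), PiTensorProduct.tprod R (fun i => a (g i))
  have hcls : ∀ (g : Fin n → Fin m) (σ : D), cls (g ∘ σ.1) = cls g := fun g σ =>
    (Quotient.sound (⟨σ, rfl⟩ : rel g (g ∘ σ.1))).symm
  have horb : ∀ q, orb q ∈ SymTensorSub.Iv R D A := fun q => SymTensorSub.mem_Iv.2 fun σ => by
    simp only [orb, map_sum, reindex_tprod]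
    refine Finset.sum_bij' (fun g _ => g ∘ σ.1.symm) (fun g _ => g ∘ σ.1) (fun g hg => ?_) (fun g hg => ?_)
      (fun g _ => by ext; simp) (fun g _ => by ext; simp) (fun g _ => rfl)
    · rw [Finset.mem_filter] at hg ⊢
      exact ⟨Finset.mem_univ _, (hcls g σ⁻¹).trans hg.2⟩
    · rw [Finset.mem_filter] at hg ⊢
      exact ⟨Finset.mem_univ _, (hcls g σ).trans hg.2⟩
  have hrepr : ∀ g g', cls g = cls g' → b.repr s' g = b.repr s' g' := fun g g' h => by
    obtain ⟨σ, rfl⟩ := Quotient.exact h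
    conv_lhs => rw [← hs' σ]
    rw [← repr_reindex]
  rw [← b.sum_repr s', map_sum, ← Finset.sum_fiberwise Finset.univ cls]
  refine Submodule.sum_mem _ fun q _ => ?_
  obtain ⟨g₀, rfl⟩ := Quotient.exists_rep q
  have : ∑ g ∈ Finset.univ.filter (fun g => cls g = Quotient.mk rel g₀), tmap R' n φ₂ (b.repr s' g • b g) =
      b.repr s' g₀ • psi (R' := R') ψ (orb (cls g₀)) := by
    simp only [orb, map_sum, Finset.smul_sum]
    refine Finset.sum_congr rfl fun g hg => ?_
    rw [map_smul, hrepr g g₀ (Finset.mem_filter.1 hg).2, psi_tprod, Basis.piTensorProduct_apply,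
      PiTensorProduct.map_tprod]
    congr 2
    funext i
    simp [hφ₂, Pi.basisFun_apply]
  rw [this]
  exact Submodule.smul_mem _ _ (Submodule.subset_span ⟨_, horb _, rfl⟩)

/-- Invariant tensors of a flat module spanned by the image of `ψ` are combinations of images of invariant tensors. -/
theorem mem_span_psi {A M : Type u} [AddCommGroup A] [Module R A] [AddCommGroup M] [Module R M] [Module R' M]
    [IsScalarTower R R' M] [Module.Flat R' M] (ψ : A →ₗ[R] M) (hψ : Submodule.span R' (Set.range ψ) = ⊤)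
    (D : Subgroup (Equiv.Perm (Fin n))) {t : ⨂[R'] _ : Fin n, M} (ht : t ∈ SymTensorSub.Iv R' D M) :
    t ∈ Submodule.span R' (psi (R' := R') ψ '' (SymTensorSub.Iv R D A : Set (⨂[R] _ : Fin n, A))) := by
  classical
  obtain ⟨m₀, φ₀, s₀, hs₀⟩ := exists_lift R' n (ι := PUnit.{1}) (fun _ => t)
  obtain ⟨k, u₀, φ₁, hφ₁, hu₀⟩ := exists_kill_finset R' (exists_kill R' n) Finset.univ φ₀
    (fun σ : D => reindex R' (fun _ => (Fin m₀ → R')) σ.1 (s₀ PUnit.unit) - s₀ PUnit.unit) (fun σ _ => by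
      rw [map_sub, tmap_reindex, hs₀, SymTensorSub.mem_Iv.1 ht σ, sub_self])
  set s := tmap R' n u₀ (s₀ PUnit.unit) with hsdef
  have hs : ∀ σ : D, reindex R' (fun _ => (Fin k → R')) σ.1 s = s := fun σ => by
    have := hu₀ σ (Finset.mem_univ _)
    simpa [hsdef, sub_eq_zero, tmap_reindex] using this
  have hst : tmap R' n φ₁ s = t := by rw [hsdef, ← tmap_comp, hφ₁, hs₀]
  -- lift the generators
  have hgen : ∀ j : Fin k, φ₁ (Pi.single j 1) ∈ LinearMap.range (Finsupp.linearCombination R' (fun a : A => ψ a)) :=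
    fun j => by
      rw [Finsupp.range_linearCombination]
      exact (eq_top_iff.1 hψ) trivial
  choose l hl using hgen
  let S : Finset A := Finset.univ.biUnion fun j => (l j).support
  let a : Fin S.card → A := fun i => (S.equivFin.symm i : A)
  let φ₂ : (Fin S.card → R') →ₗ[R'] M := Fintype.linearCombination R' fun i => ψ (a i)
  have hl' : ∀ j, ∃ c, φ₂ c = φ₁ (Pi.single j 1) := fun j => by
    refine ⟨fun i => l j (a i), ?_⟩
    rw [Fintype.linearCombination_apply, ← hl j, Finsupp.linearCombination_apply,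
      Finsupp.sum_of_support_subset _ (Finset.subset_biUnion_of_mem (fun j => (l j).support) (Finset.mem_univ j))
        _ (fun x _ => zero_smul R' (ψ x)), ← Finset.sum_coe_sort S]
    exact Fintype.sum_equiv S.equivFin.symm _ _ fun i => rfl
  choose c hc using hl'
  let w : (Fin k → R') →ₗ[R'] (Fin S.card → R') := Fintype.linearCombination R' c
  have hw : φ₂ ∘ₗ w = φ₁ := by
    refine (Pi.basisFun R' (Fin k)).ext fun j => ?_
    simp [w, Fintype.linearCombination_apply_single, hc, Pi.basisFun_apply]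
  set s' := tmap R' n w s with hs'def
  have hs' : ∀ σ : D, reindex R' (fun _ => (Fin S.card → R')) σ.1 s' = s' := fun σ => by
    rw [hs'def, ← tmap_reindex, hs]
  have hst' : tmap R' n φ₂ s' = t := by rw [hs'def, ← tmap_comp, hw, hst]
  rw [← hst']
  exact mem_span_free ψ D a φ₂ (fun i => by simp [φ₂, Fintype.linearCombination_apply_single]) s' hs'

theorem span_mk_one {R₁ : Type u} [CommRing R₁] [Algebra R R₁] [Algebra R₁ R'] [IsScalarTower R R₁ R']
    {A A' : Type u} [AddCommGroup A] [Module R A] [AddCommGroup A'] [Module R A'] [Module R₁ A']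
    [IsScalarTower R R₁ A'] (ψ : A →ₗ[R] A') (hψ : Submodule.span R₁ (Set.range ψ) = ⊤) :
    Submodule.span R' (Set.range fun a => ((1 : R') ⊗ₜ[R₁] ψ a)) = ⊤ := by
  refine eq_top_iff.2 fun x hx => ?_
  clear hx
  induction x using TensorProduct.induction_on with
  | zero => exact zero_mem _
  | add a b ha hb => exact add_mem ha hb
  | tmul r y =>
    rw [show r ⊗ₜ[R₁] y = r • ((1 : R') ⊗ₜ[R₁] y) by rw [TensorProduct.smul_tmul', smul_eq_mul, mul_one]]
    refine Submodule.smul_mem _ r ?_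
    have hy : y ∈ Submodule.span R₁ (Set.range ψ) := hψ ▸ trivial
    induction hy using Submodule.span_induction with
    | mem z hz => obtain ⟨a, rfl⟩ := hz; exact Submodule.subset_span ⟨a, rfl⟩
    | zero => rw [TensorProduct.tmul_zero]; exact zero_mem _
    | add z w _ _ h1 h2 => rw [TensorProduct.tmul_add]; exact add_mem h1 h2
    | smul c z _ h1 =>
      rw [TensorProduct.tmul_smul, ← algebraMap_smul R']
      exact Submodule.smul_mem _ _ h1

theorem tprod_eq_prod_single {R₁ : Type u} [CommRing R₁] {A : Type u} [CommRing A] [Algebra R₁ A] (v : Fin n → A) :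
    PiTensorProduct.tprod R₁ v = ∏ i, PiTensorProduct.singleAlgHom (R := R₁) (A := fun _ : Fin n => A) i (v i) := by
  show _ = ∏ i, PiTensorProduct.tprod R₁ (Pi.mulSingle i (v i))
  rw [← PiTensorProduct.tprod_prod, Finset.univ_prod_mulSingle]

/-- Values of invariant tensors under an algebra map are combinations of values of invariant tensors. -/
theorem chart_span {R₁ R₂ L : Type u} [CommRing R₁] [Algebra R R₁] [CommRing R₂] [Algebra R₁ R₂] [Algebra R R₂]
    [IsScalarTower R R₁ R₂] [CommRing L] [Algebra R₁ L] [Algebra R₂ L] [IsScalarTower R₁ R₂ L]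
    {A A' : Type u} [CommRing A] [Algebra R A] [CommRing A'] [Algebra R A'] [Algebra R₁ A'] [IsScalarTower R R₁ A']
    [Module.Flat R₂ (R₂ ⊗[R₁] A')] (ψ : A →ₗ[R] A') (hψ : Submodule.span R₁ (Set.range ψ) = ⊤)
    (D : Subgroup (Equiv.Perm (Fin n))) (E : (⨂[R₁] _ : Fin n, A') →ₐ[R₁] L)
    {t : ⨂[R₁] _ : Fin n, A'} (ht : t ∈ SymTensorSub.Iv R₁ D A') :
    E t ∈ Submodule.span R₂
      ((fun x => E (psi (R' := R₁) ψ x)) '' (SymTensorSub.Iv R D A : Set (⨂[R] _ : Fin n, A))) := by
  classical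
  let ι : A' →ₗ[R₁] R₂ ⊗[R₁] A' := TensorProduct.mk R₁ R₂ A' 1
  let χ : Fin n → (R₂ ⊗[R₁] A' →ₗ[R₂] L) := fun i =>
    (E.toLinearMap ∘ₗ (PiTensorProduct.singleAlgHom (R := R₁) (A := fun _ : Fin n => A') i).toLinearMap).liftBaseChange R₂
  let Ek : (⨂[R₂] _ : Fin n, R₂ ⊗[R₁] A') →ₗ[R₂] L :=
    PiTensorProduct.lift ((MultilinearMap.mkPiAlgebra R₂ (Fin n) L).compLinearMap χ)
  have hE : ∀ x, Ek (psi (n := n) (R' := R₂) ι x) = E x := fun x => by
    refine LinearMap.congr_fun (f := (Ek.restrictScalars R₁) ∘ₗ psi (n := n) (R' := R₂) ι) (g := E.toLinearMap)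
      (PiTensorProduct.ext (MultilinearMap.ext fun v => ?_)) x
    show Ek (psi (n := n) (R' := R₂) ι (PiTensorProduct.tprod R₁ v)) = E (PiTensorProduct.tprod R₁ v)
    rw [psi_tprod]
    conv_rhs => rw [tprod_eq_prod_single, map_prod]
    simp [Ek, χ, ι]
  let ψ₂ : A →ₗ[R] R₂ ⊗[R₁] A' := (ι.restrictScalars R) ∘ₗ ψ
  have hψ₂ : ∀ x, psi (n := n) (R' := R₂) ψ₂ x = psi (n := n) (R' := R₂) ι (psi (R' := R₁) ψ x) := fun x => by
    refine LinearMap.congr_fun (f := psi (n := n) (R' := R₂) ψ₂)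
      (g := (psi (n := n) (R' := R₂) ι).restrictScalars R ∘ₗ psi (R' := R₁) ψ)
      (PiTensorProduct.ext (MultilinearMap.ext fun v => ?_)) x
    show psi (n := n) (R' := R₂) ψ₂ (PiTensorProduct.tprod R v) = psi (n := n) (R' := R₂) ι (psi (R' := R₁) ψ (PiTensorProduct.tprod R v))
    rw [psi_tprod, psi_tprod, psi_tprod]
    rfl
  have ht' : psi (n := n) (R' := R₂) ι t ∈ SymTensorSub.Iv R₂ D (R₂ ⊗[R₁] A') := SymTensorSub.mem_Iv.2 fun σ => by
    have h1 := LinearMap.congr_fun (f := ((reindex R₂ (fun _ : Fin n => R₂ ⊗[R₁] A') σ.1).toLinearMap.restrictScalars R₁) ∘ₗ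
        psi (n := n) (R' := R₂) ι) (g := psi (n := n) (R' := R₂) ι ∘ₗ (reindex R₁ (fun _ : Fin n => A') σ.1).toLinearMap)
      (PiTensorProduct.ext (MultilinearMap.ext fun v => by simp [psi_tprod, reindex_tprod])) t
    exact h1.trans (congrArg _ (SymTensorSub.mem_Iv.1 ht σ))
  have hmem := Submodule.mem_map_of_mem (f := Ek)
    (mem_span_psi (R := R) ψ₂ (span_mk_one (R' := R₂) ψ hψ) D ht')
  rw [Submodule.map_span, hE, ← Set.image_comp] at hmem
  refine Submodule.span_mono ?_ hmem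
  rintro _ ⟨x, hx, rfl⟩
  exact ⟨x, hx, by show E _ = Ek _; rw [hψ₂, hE]⟩

end Groth.Agent.AGFQuot23.SymSurj
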