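import Groth.Agent.AGFQuot23.InvBC

/-! Lifting invariants along equivariant maps by transfer from stabilizers. -/

universe u

set_option autoImplicit false
set_option linter.all false
set_option maxHeartbeats 800000

open scoped Pointwise

noncomputable section

namespace Groth.Agent.AGFQuot23.SymTransfer

variable (R : Type u) [CommRing R] {C : Type u} [CommRing C] [Algebra R C] (G : Type*) [Group G] [Finite G]
  [MulSemiringAction G C] [SMulCommClass G R C]

/-- An invariant of the stabilizer of a prime lying outside it and in all other conjugates. -/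
theorem exists_sep (m : Ideal C) [m.IsPrime] :
    ∃ e, e ∈ InvBC.Fx R (MulAction.stabilizer G m) C ∧ e ∉ m ∧ ∀ g : G, g ∉ MulAction.stabilizer G m → e ∈ g • m := by
  classical
  set D := MulAction.stabilizer G m
  haveI := Fintype.ofFinite G
  haveI := Fintype.ofFinite D
  have hsep : ∀ g : G, g ∉ D → ∃ a, a ∈ g • m ∧ a ∉ m := fun g hg => by
    by_contra hc
    push Not at hc
    have hle : g • m ≤ m := hc
    have hpow : ∀ k : ℕ, g ^ k • m ≤ m := fun k => by
      induction k with
      | zero => rw [pow_zero, one_smul]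
      | succ k ih =>
        rw [pow_succ', mul_smul]
        exact (Ideal.pointwise_smul_le_pointwise_smul_iff.2 ih).trans hle
    refine hg (MulAction.mem_stabilizer_iff.2 (le_antisymm hle ?_))
    have h1 := hpow (orderOf g - 1)
    have h2 : g * g ^ (orderOf g - 1) = 1 := by
      rw [← pow_succ', Nat.sub_add_cancel (orderOf_pos g), pow_orderOf_eq_one]
    calc m = (g * g ^ (orderOf g - 1)) • m := by rw [h2, one_smul]
      _ ≤ g • m := by rw [mul_smul]; exact Ideal.pointwise_smul_le_pointwise_smul_iff.2 h1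
  choose a ha ham using hsep
  let e₀ : C := ∏ g : G, if hg : g ∈ D then 1 else a g hg
  have he₀ : e₀ ∉ m := fun hc => by
    obtain ⟨g, -, hg⟩ := Ideal.IsPrime.prod_mem_iff.1 hc
    split_ifs at hg with hgD
    · exact Ideal.IsPrime.ne_top inferInstance ((Ideal.eq_top_iff_one _).2 hg)
    · exact ham g hgD hg
  let e : C := ∏ τ : D, τ • e₀
  refine ⟨e, fun τ => ?_, fun hc => ?_, fun g hg => ?_⟩
  · show τ • e = e
    rw [Finset.smul_prod']
    exact Fintype.prod_equiv (Equiv.mulLeft τ) _ _ fun x => by simp [mul_smul]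
  · obtain ⟨τ, -, hτ⟩ := Ideal.IsPrime.prod_mem_iff.1 hc
    have h1 : τ.1 • e₀ ∈ τ.1 • m := by rw [MulAction.mem_stabilizer_iff.1 τ.2]; exact hτ
    exact he₀ (Ideal.smul_mem_pointwise_smul_iff.1 h1)
  · refine Ideal.mem_of_dvd _ ?_ (ha g hg)
    refine dvd_trans ?_ (Finset.dvd_prod_of_mem (fun τ : D => τ • e₀) (Finset.mem_univ 1))
    show a g hg ∣ (1 : D) • e₀
    rw [one_smul]
    refine (dvd_of_eq ?_).trans (Finset.dvd_prod_of_mem (fun g => if hg : g ∈ D then 1 else a g hg) (Finset.mem_univ g))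
    rw [dif_neg hg]

variable {R G}

/-- The relative transfer. -/
def T (D : Subgroup G) : C →ₗ[R] C :=
  letI := Fintype.ofFinite (G ⧸ D)
  ∑ q : G ⧸ D, InvBC.act R C q.out

theorem T_apply (D : Subgroup G) [Fintype (G ⧸ D)] (c : C) : T (R := R) D c = ∑ q : G ⧸ D, q.out • c := by
  simp only [T, LinearMap.sum_apply, InvBC.act_apply]
  congr 1
  exact congrArg _ (Subsingleton.elim _ _)

theorem T_mem (D : Subgroup G) {x : C} (hx : x ∈ InvBC.Fx R D C) : T (R := R) D x ∈ InvBC.Fx R G C := fun g => by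
  letI := Fintype.ofFinite (G ⧸ D)
  simp only [T, LinearMap.sum_apply, InvBC.act_apply, Finset.smul_sum]
  refine Fintype.sum_equiv (MulAction.toPerm g) _ _ fun q => ?_
  show g • q.out • x = (g • q).out • x
  obtain ⟨d, hd⟩ := QuotientGroup.mk_out_eq_mul D (g * q.out)
  have : g • q = QuotientGroup.mk (g * q.out) := by
    conv_lhs => rw [← QuotientGroup.out_eq' q]
    rfl
  rw [this, hd, mul_smul, show (d : G) • x = x from hx d, mul_smul]

/-- The transfer of a multiple of a separating element is congruent to it. -/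
theorem T_sub_mem (m : Ideal C) {e c : C} (he : e ∈ InvBC.Fx R (MulAction.stabilizer G m) C)
    (heg : ∀ g : G, g ∉ MulAction.stabilizer G m → e ∈ g • m) (hc : c ∈ InvBC.Fx R (MulAction.stabilizer G m) C) :
    T (R := R) (MulAction.stabilizer G m) (e * c) - e * c ∈ m := by
  classical
  set D := MulAction.stabilizer G m
  letI := Fintype.ofFinite (G ⧸ D)
  rw [T_apply, ← Finset.add_sum_erase _ _ (Finset.mem_univ ((1 : G) : G ⧸ D))]
  obtain ⟨d, hd⟩ := QuotientGroup.mk_out_eq_mul D (1 : G)
  rw [hd, one_mul, show (d : G) • (e * c) = e * c from (mul_mem he hc : e * c ∈ InvBC.Fx R D C) d, add_sub_cancel_left]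
  refine Submodule.sum_mem m fun q hq => ?_
  have hq' : q.out⁻¹ ∉ D := fun h1 => (Finset.mem_erase.1 hq).1 (by
    rw [← QuotientGroup.out_eq' q]
    exact QuotientGroup.eq.2 (by simpa using h1))
  have h1 : e * c ∈ q.out⁻¹ • m := Ideal.mul_mem_right _ _ (heg _ hq')
  rwa [Ideal.mem_pointwise_smul_iff_inv_smul_mem, inv_inv] at h1

variable {R₁ C' : Type u} [CommRing R₁] [CommRing C'] [Algebra R₁ C'] [MulSemiringAction G C'] [SMulCommClass G R₁ C']

/-- Invariants of the target are combinations of images of invariants if this holds near every maximal ideal. -/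
theorem span_of_local (φ : C →+* C') (hφ : ∀ (g : G) c, φ (g • c) = g • φ c)
    (H : ∀ m : Ideal C, m.IsMaximal →
      ∃ h, h ∈ InvBC.Fx R (MulAction.stabilizer G m) C ∧ h ∉ m ∧ ∀ z : C',
        (∀ x ∈ MulAction.stabilizer G m, x • z = z) →
        ∃ j : ℕ, φ h ^ j * z ∈ Submodule.span R₁ (φ '' (InvBC.Fx R (MulAction.stabilizer G m) C : Set C)))
    (z : C') (hz : ∀ g : G, g • z = z) : z ∈ Submodule.span R₁ (φ '' (InvBC.Fx R G C : Set C)) := by
  classical
  haveI : Algebra.IsInvariant (InvBC.Fx R G C) C G := ⟨fun b hb => ⟨⟨b, hb⟩, rfl⟩⟩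
  haveI : Algebra.IsIntegral (InvBC.Fx R G C) C := Algebra.IsInvariant.isIntegral (InvBC.Fx R G C) C G
  have hmul : ∀ (b : InvBC.Fx R G C) {y : C'}, y ∈ Submodule.span R₁ (φ '' (InvBC.Fx R G C : Set C)) →
      φ b.1 * y ∈ Submodule.span R₁ (φ '' (InvBC.Fx R G C : Set C)) := fun b y hy => by
    induction hy using Submodule.span_induction with
    | mem x hx =>
      obtain ⟨c, hc, rfl⟩ := hx
      exact Submodule.subset_span ⟨b.1 * c, mul_mem b.2 hc, map_mul φ _ _⟩
    | zero => rw [mul_zero]; exact zero_mem _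
    | add x y _ _ h1 h2 => rw [mul_add]; exact add_mem h1 h2
    | smul r x _ h1 => rw [mul_smul_comm]; exact Submodule.smul_mem _ _ h1
  let J : Ideal (InvBC.Fx R G C) :=
    { carrier := {b | φ b.1 * z ∈ Submodule.span R₁ (φ '' (InvBC.Fx R G C : Set C))}
      zero_mem' := by simp
      add_mem' := fun {x y} hx hy => by
        show φ (x.1 + y.1) * z ∈ Submodule.span R₁ (φ '' (InvBC.Fx R G C : Set C))
        rw [map_add, add_mul]
        exact add_mem hx hy
      smul_mem' := fun r x hx => by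
        show φ (r.1 * x.1) * z ∈ Submodule.span R₁ (φ '' (InvBC.Fx R G C : Set C))
        rw [map_mul, mul_assoc]
        exact hmul r hx }
  have hJ : J = ⊤ := by
    by_contra hne
    obtain ⟨p, hp, hle⟩ := Ideal.exists_le_maximal J hne
    obtain ⟨m, -, hm, hmp⟩ := Ideal.exists_ideal_over_prime_of_isIntegral p (⊥ : Ideal C) (by
      intro x hx
      have : x = 0 := Subtype.ext (Ideal.mem_comap.1 hx)
      rw [this]; exact p.zero_mem)
    haveI : m.IsMaximal := Ideal.isMaximal_of_isIntegral_of_isMaximal_comap m (by rwa [hmp])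
    obtain ⟨h, hh, hhm, hloc⟩ := H m inferInstance
    set D := MulAction.stabilizer G m
    obtain ⟨e, he, hem, heg⟩ := exists_sep R G m
    obtain ⟨j, hj⟩ := hloc z fun x _ => hz x
    letI := Fintype.ofFinite (G ⧸ D)
    let b : InvBC.Fx R G C := ⟨T (R := R) D (e * h ^ j), T_mem D (mul_mem he (pow_mem hh j))⟩
    have hb : b ∉ p := fun hc => by
      rw [← hmp, Ideal.mem_comap] at hc
      change T (R := R) D (e * h ^ j) ∈ m at hc
      have h1 : e * h ^ j ∈ m := by
        have h2 := Submodule.sub_mem m hc (T_sub_mem m he heg (pow_mem hh j))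
        rwa [sub_sub_cancel] at h2
      exact (Ideal.IsPrime.mem_or_mem inferInstance h1).elim hem
        fun h2 => hhm (Ideal.IsPrime.mem_of_pow_mem inferInstance j h2)
    refine hb (hle ?_)
    show φ (T (R := R) D (e * h ^ j)) * z ∈ Submodule.span R₁ (φ '' (InvBC.Fx R G C : Set C))
    have key : φ (T (R := R) D (e * h ^ j)) * z = ∑ q : G ⧸ D, q.out • (φ e * (φ h ^ j * z)) := by
      rw [T_apply, map_sum, Finset.sum_mul]
      refine Finset.sum_congr rfl fun q _ => ?_
      rw [hφ, ← mul_assoc, ← map_pow, ← map_mul, smul_mul', hz]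
    rw [key]
    let Tc : C' →ₗ[R₁] C' := ∑ q : G ⧸ D, InvBC.act R₁ C' q.out
    have hTc : ∀ y, Tc y = ∑ q : G ⧸ D, q.out • y := fun y => by simp [Tc]
    rw [← hTc]
    have hmem := Submodule.mem_map_of_mem (f := Tc ∘ₗ LinearMap.mulLeft R₁ (φ e)) hj
    rw [Submodule.map_span, ← Set.image_comp] at hmem
    refine Submodule.span_mono ?_ hmem
    rintro _ ⟨c, hc, rfl⟩
    refine ⟨T (R := R) D (e * c), T_mem D (mul_mem he hc), ?_⟩
    show φ _ = Tc (φ e * φ c)
    rw [T_apply, map_sum, hTc, ← map_mul]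
    exact Finset.sum_congr rfl fun q _ => hφ _ _
  have h1 : φ ((1 : InvBC.Fx R G C) : C) * z ∈ Submodule.span R₁ (φ '' (InvBC.Fx R G C : Set C)) :=
    (hJ ▸ trivial : (1 : InvBC.Fx R G C) ∈ J)
  rwa [OneMemClass.coe_one, map_one, one_mul] at h1

end Groth.Agent.AGFQuot23.SymTransfer
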