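import Groth.Agent.AGFQuot23.SymLocal
import Groth.Agent.AGFQuot23.SymSurj
import Groth.Agent.AGFQuot23.SymTransfer
import Mathlib.AlgebraicGeometry.Morphisms.ClosedImmersion

/-! Charts of fibre powers and lifting of invariant sections through them. -/

universe u

set_option autoImplicit false
set_option linter.style.haveILetI false
set_option backward.isDefEq.respectTransparency false
set_option backward.isDefEq.respectTransparency.types false
set_option maxHeartbeats 1600000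

open CategoryTheory CategoryTheory.Limits AlgebraicGeometry TopologicalSpace
open scoped TensorProduct Pointwise

noncomputable section

namespace Groth.Agent.AGFQuot23.SymChart

theorem isClosedImmersion_fibPowMap {X Z S : Scheme.{u}} (f : X ⟶ S) (i : Z ⟶ X) [IsClosedImmersion i] (n : ℕ) :
    IsClosedImmersion (SymProd.fibPowMap (i ≫ f) n f i rfl) := by
  set c := SymProd.fibPowMap (i ≫ f) n f i rfl
  let K : (SymProd.fibPow f n).IdealSheafData :=
    ⨆ j : Fin n, (pullback.fst (WidePullback.π (fun _ : Fin n => f) j) i).ker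
  have hK : ∀ j, (pullback.fst (WidePullback.π (fun _ : Fin n => f) j) i).ker ≤ K.subschemeι.ker := fun j => by
    rw [Scheme.IdealSheafData.ker_subschemeι]
    exact le_iSup (fun j : Fin n => (pullback.fst (WidePullback.π (fun _ : Fin n => f) j) i).ker) j
  let s : Fin n → (K.subscheme ⟶ Z) := fun j =>
    IsClosedImmersion.lift (pullback.fst (WidePullback.π (fun _ : Fin n => f) j) i) K.subschemeι (hK j) ≫
      pullback.snd _ _
  have hs : ∀ j, s j ≫ i = K.subschemeι ≫ WidePullback.π (fun _ : Fin n => f) j := fun j => by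
    simp only [s, Category.assoc, ← pullback.condition, IsClosedImmersion.lift_fac_assoc]
  let σ : K.subscheme ⟶ SymProd.fibPow (i ≫ f) n :=
    WidePullback.lift (K.subschemeι ≫ WidePullback.base _) s (fun j => by
      rw [← Category.assoc, hs, Category.assoc, WidePullback.π_arrow])
  have hσ : σ ≫ c = K.subschemeι := by
    apply WidePullback.hom_ext
    · intro j
      rw [Category.assoc, SymProd.fibPowMap_π, WidePullback.lift_π_assoc, hs]
    · rw [Category.assoc, SymProd.fibPowMap_base, WidePullback.lift_base]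
  have hKc : K.subschemeι.ker ≤ c.ker := by
    rw [Scheme.IdealSheafData.ker_subschemeι]
    refine iSup_le fun j => ?_
    have hc : c = pullback.lift c (WidePullback.π (fun _ : Fin n => i ≫ f) j) (SymProd.fibPowMap_π _ _ _ _ _ j) ≫
        pullback.fst (WidePullback.π (fun _ : Fin n => f) j) i := (pullback.lift_fst _ _ _).symm
    rw [hc]
    exact Scheme.Hom.le_ker_comp _ _
  let τ := IsClosedImmersion.lift K.subschemeι c hKc
  have hτ : τ ≫ K.subschemeι = c := IsClosedImmersion.lift_fac _ _ _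
  have h1 : σ ≫ τ = 𝟙 _ := by rw [← cancel_mono K.subschemeι, Category.assoc, hτ, hσ, Category.id_comp]
  have h2 : τ ≫ σ = 𝟙 _ := by
    have h3 : (τ ≫ σ) ≫ c = c := by rw [Category.assoc, hσ, hτ]
    apply WidePullback.hom_ext
    · intro j
      rw [← cancel_mono i, Category.assoc _ _ i, ← SymProd.fibPowMap_π (i ≫ f) n f i rfl j, Category.id_comp,
        ← Category.assoc, h3, SymProd.fibPowMap_π]
    · rw [← SymProd.fibPowMap_base (i ≫ f) n f i rfl, ← Category.assoc, h3, Category.id_comp]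
  haveI : IsIso τ := ⟨σ, h2, h1⟩
  rw [← hτ]
  infer_instance

variable {X S Y : Scheme.{u}} (f : X ⟶ S) {n : ℕ}

theorem mem_basicOpen_iff {Z : Scheme.{u}} {O : Z.Opens} (hO : IsAffineOpen O) (pt : Spec Γ(Z, O)) (s : Γ(Z, O)) :
    hO.fromSpec pt ∈ Z.basicOpen s ↔ s ∉ pt.asIdeal := by
  show pt ∈ hO.fromSpec ⁻¹ᵁ Z.basicOpen s ↔ _
  rw [hO.fromSpec_preimage_basicOpen]
  rfl

/-- A stabilizer-stable product chart near a point, with an invariant function cutting out a neighbourhood in it. -/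
theorem exists_chart [IsSeparated f] {q : SymProd.fibPow f n ⟶ Y} (hq : SGA1.IsQuot (SymProd.permActU f n) q) {V : S.Opens}
    (hV : IsAffineOpen V) {W : Y.Opens} (hb : q ⁻¹ᵁ W ≤ (WidePullback.base fun _ : Fin n => f) ⁻¹ᵁ V)
    (hΩ : IsAffineOpen (q ⁻¹ᵁ W)) (pt : Spec Γ(SymProd.fibPow f n, q ⁻¹ᵁ W)) :
    letI := SGA1Quot.action hq W
    ∃ (κ : Type u) (_ : Fintype κ) (_ : DecidableEq κ) (α : Fin n → κ) (U : κ → X.Opens)
      (T : (SymProd.fibPow f n).Opens) (h : Γ(SymProd.fibPow f n, q ⁻¹ᵁ W)),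
      (∀ a, IsAffineOpen (U a)) ∧ (∀ a, U a ≤ f ⁻¹ᵁ V) ∧
      (∀ z, z ∈ T ↔ (WidePullback.base fun _ : Fin n => f) z ∈ V ∧
        ∀ i, (WidePullback.π (fun _ : Fin n => f) i) z ∈ U (α i)) ∧
      (∀ x ∈ MulAction.stabilizer (ULift.{u} (Equiv.Perm (Fin n))) pt.asIdeal, ∀ i, α (x.down i) = α i) ∧
      (∀ x ∈ MulAction.stabilizer (ULift.{u} (Equiv.Perm (Fin n))) pt.asIdeal,
        T ≤ SymProd.permHom f n x.down⁻¹ ⁻¹ᵁ T) ∧
      (∀ x ∈ MulAction.stabilizer (ULift.{u} (Equiv.Perm (Fin n))) pt.asIdeal, x • h = h) ∧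
      hΩ.fromSpec pt ∈ (SymProd.fibPow f n).basicOpen h ∧
      IsAffineOpen T ∧ ∃ h' : Γ(SymProd.fibPow f n, T), (SymProd.fibPow f n).basicOpen h = (SymProd.fibPow f n).basicOpen h' ∧
        ∀ x ∈ MulAction.stabilizer (ULift.{u} (Equiv.Perm (Fin n))) pt.asIdeal,
          ∀ e, (SymProd.permHom f n x.down⁻¹).appLE T T e h' = h' := by
  classical
  letI := SGA1Quot.action hq W
  letI := ((WidePullback.base fun _ : Fin n => f).appLE V (q ⁻¹ᵁ W) hb).hom.toAlgebra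
  haveI := SymLocal.sections_comm f hq V W hb
  let Ω := q ⁻¹ᵁ W
  let z := hΩ.fromSpec pt
  have hz : z ∈ Ω := hΩ.range_fromSpec.le ⟨pt, rfl⟩
  let D := MulAction.stabilizer (ULift.{u} (Equiv.Perm (Fin n))) pt.asIdeal
  haveI := Fintype.ofFinite D
  have hfix : ∀ x ∈ D, ∀ i : Fin n, WidePullback.π (fun _ : Fin n => f) (x.down i) z =
      WidePullback.π (fun _ : Fin n => f) i z := fun x hx i => by
    have h1 : z = SymProd.permHom f n x.down z :=
      SGA1Quot.fromSpec_smul hq hΩ x pt pt (MulAction.mem_stabilizer_iff.1 hx).symm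
    conv_lhs => rw [h1, ← Scheme.Hom.comp_apply, SymProd.permHom_π, Equiv.symm_apply_apply]
  let κ : Type u := {x : X // x ∈ Finset.univ.image fun i : Fin n => WidePullback.π (fun _ : Fin n => f) i z}
  let α : Fin n → κ := fun i => ⟨_, Finset.mem_image.2 ⟨i, Finset.mem_univ i, rfl⟩⟩
  letI : Fintype κ := Fintype.subtype (Finset.univ.image fun i : Fin n => WidePullback.π (fun _ : Fin n => f) i z)
    fun _ => Iff.rfl
  have hU0 : ∀ a : κ, ∃ U : X.Opens, IsAffineOpen U ∧ a.1 ∈ U ∧ U ≤ f ⁻¹ᵁ V := fun a => by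
    obtain ⟨i, -, hi⟩ := Finset.mem_image.1 a.2
    refine exists_isAffineOpen_mem_and_subset (x := a.1) (U := f ⁻¹ᵁ V) ?_
    show f a.1 ∈ V
    rw [← hi, ← Scheme.Hom.comp_apply, WidePullback.π_arrow]
    exact hb hz
  choose U hU haU eU using hU0
  let T : (SymProd.fibPow f n).Opens := (WidePullback.base fun _ : Fin n => f) ⁻¹ᵁ V ⊓
    Finset.univ.inf fun i => (WidePullback.π (fun _ : Fin n => f) i) ⁻¹ᵁ U (α i)
  have hT : ∀ w, w ∈ T ↔ (WidePullback.base fun _ : Fin n => f) w ∈ V ∧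
      ∀ i, (WidePullback.π (fun _ : Fin n => f) i) w ∈ U (α i) := fun w => by
    show w ∈ (WidePullback.base fun _ : Fin n => f) ⁻¹ᵁ V ∧
      w ∈ (Finset.univ.inf fun i => (WidePullback.π (fun _ : Fin n => f) i) ⁻¹ᵁ U (α i)) ↔ _
    rw [SymLocal.mem_inf_opens]
    simp
  have hTb : T ≤ (WidePullback.base fun _ : Fin n => f) ⁻¹ᵁ V := inf_le_left
  have hα : ∀ x ∈ D, ∀ i, α (x.down i) = α i := fun x hx i => Subtype.ext (hfix x hx i)
  have hDT : ∀ x ∈ D, T ≤ SymProd.permHom f n x.down⁻¹ ⁻¹ᵁ T := fun x hx w hw => by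
    obtain ⟨h0, h1⟩ := (hT w).1 hw
    refine (hT _).2 ⟨by rw [← Scheme.Hom.comp_apply, SymProd.permHom_base]; exact h0, fun i => ?_⟩
    rw [← Scheme.Hom.comp_apply, SymProd.permHom_π, show (x.down⁻¹).symm i = x.down i from rfl,
      ← hα x hx i]
    exact h1 _
  have hzT : z ∈ T := (hT z).2 ⟨hb hz, fun i => haU (α i)⟩
  obtain ⟨hTaff, -⟩ := SymComponent.exists_component_model f α hV hU eU T hT hTb
  obtain ⟨f0, g0, hfg, hzf⟩ := exists_basicOpen_le_affine_inter hΩ hTaff z ⟨hz, hzT⟩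
  have hperm : ∀ x : ULift.{u} (Equiv.Perm (Fin n)), Ω ≤ SymProd.permHom f n x.down⁻¹ ⁻¹ᵁ Ω := fun x =>
    SGA1.preimage_le_of_inv (SymProd.permActU f n) q hq.inv (x⁻¹) W
  have hsmul : ∀ (x : ULift.{u} (Equiv.Perm (Fin n))) s, x • s = (SymProd.permHom f n x.down⁻¹).appLE Ω Ω (hperm x) s :=
    fun x s => by
      rw [SGA1Quot.action_smul hq W x s]
      simp only [FEtQuot.act]
      rfl
  let h : Γ(SymProd.fibPow f n, Ω) := ∏ x : D, x • f0
  have hh : h ∈ InvBC.Fx Γ(S, V) D Γ(SymProd.fibPow f n, Ω) := fun x => by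
    show x • h = h
    simp only [h, Finset.smul_prod']
    exact Fintype.prod_equiv (Equiv.mulLeft x) _ _ fun y => by simp [mul_smul]
  letI := SymLocal.openAction f D T hDT
  let h' : Γ(SymProd.fibPow f n, T) := ∏ x : D, x • g0
  have hh' : ∀ x : D, x • h' = h' := fun x => by
    simp only [h', Finset.smul_prod']
    exact Fintype.prod_equiv (Equiv.mulLeft x) _ _ fun y => by simp [mul_smul]
  have hb1 : ∀ (x : D) w, w ∈ (SymProd.fibPow f n).basicOpen (x • f0) ↔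
      w ∈ Ω ∧ SymProd.permHom f n x.1.down⁻¹ w ∈ (SymProd.fibPow f n).basicOpen f0 := fun x w => by
    rw [show x • f0 = x.1 • f0 from rfl, hsmul, Scheme.basicOpen_appLE]
    rfl
  have hb2 : ∀ (x : D) w, w ∈ (SymProd.fibPow f n).basicOpen (x • g0) ↔
      w ∈ T ∧ SymProd.permHom f n x.1.down⁻¹ w ∈ (SymProd.fibPow f n).basicOpen g0 := fun x w => by
    show w ∈ (SymProd.fibPow f n).basicOpen ((SymProd.permHom f n x.1.down⁻¹).appLE T T _ g0) ↔ _
    rw [Scheme.basicOpen_appLE]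
    rfl
  have hone : ∀ w, SymProd.permHom f n (1 : D).1.down⁻¹ w = w := fun w => by
    rw [show (1 : D).1.down⁻¹ = 1 from inv_one, SymProd.permHom_one]
    rfl
  have hO : (SymProd.fibPow f n).basicOpen h = (SymProd.fibPow f n).basicOpen h' := by
    ext w
    simp only [SetLike.mem_coe, h, h', SymLocal.mem_basicOpen_prod, hb1, hb2, hfg]
    refine ⟨fun ⟨_, hw⟩ => ?_, fun ⟨_, hw⟩ => ?_⟩
    · have := (hw 1).2
      rw [hone] at this
      have hwT : w ∈ T := (SymProd.fibPow f n).basicOpen_le g0 this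
      exact ⟨hwT, fun x => ⟨hwT, (hw x).2⟩⟩
    · have := (hw 1).2
      rw [hone, ← hfg] at this
      have hwΩ : w ∈ Ω := (SymProd.fibPow f n).basicOpen_le f0 this
      exact ⟨hwΩ, fun x => ⟨hwΩ, (hw x).2⟩⟩
  have hzh : z ∈ (SymProd.fibPow f n).basicOpen h := by
    refine (SymLocal.mem_basicOpen_prod (fun x : D => x • f0) z).2 ⟨hz, fun x => (mem_basicOpen_iff hΩ pt _).2 fun hxm =>
      (mem_basicOpen_iff hΩ pt f0).1 hzf ?_⟩
    have h1 : x.1 • f0 ∈ x.1 • pt.asIdeal := by rw [MulAction.mem_stabilizer_iff.1 x.2]; exact hxm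
    exact Ideal.smul_mem_pointwise_smul_iff.1 h1
  refine ⟨κ, inferInstance, inferInstance, α, U, T, h, hU, eU, hT, hα, hDT, fun x hx => hh ⟨x, hx⟩, hzh, hTaff,
    h', hO, fun x hx e => hh' ⟨x, hx⟩⟩

/-- An invariant section on a principal open is a quotient of invariant sections. -/
theorem exists_inv_num {V : S.Opens} (D : Subgroup (ULift.{u} (Equiv.Perm (Fin n)))) {Ω : (SymProd.fibPow f n).Opens}
    (hΩ : IsAffineOpen Ω) (hb : Ω ≤ (WidePullback.base fun _ : Fin n => f) ⁻¹ᵁ V)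
    (hDΩ : ∀ x ∈ D, Ω ≤ SymProd.permHom f n x.down⁻¹ ⁻¹ᵁ Ω) (h : Γ(SymProd.fibPow f n, Ω))
    (hh : ∀ x ∈ D, ∀ e, (SymProd.permHom f n x.down⁻¹).appLE Ω Ω e h = h)
    {O : (SymProd.fibPow f n).Opens} (hOΩ : O ≤ Ω) (hO : O = (SymProd.fibPow f n).basicOpen h)
    (w : Γ(SymProd.fibPow f n, O)) (hw : ∀ x ∈ D, ∀ e, (SymProd.permHom f n x.down⁻¹).appLE O O e w = w) :
    ∃ (j : ℕ) (c : Γ(SymProd.fibPow f n, Ω)),
      (∀ x ∈ D, ∀ e, (SymProd.permHom f n x.down⁻¹).appLE Ω Ω e c = c) ∧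
      (SymProd.fibPow f n).presheaf.map (homOfLE hOΩ).op c =
        (SymProd.fibPow f n).presheaf.map (homOfLE hOΩ).op h ^ j * w := by
  classical
  letI := SymLocal.openAction f D Ω hDΩ
  letI := ((WidePullback.base fun _ : Fin n => f).appLE V Ω hb).hom.toAlgebra
  haveI := SymLocal.openAction_comm f D Ω hDΩ V hb
  have hDO : ∀ x ∈ D, O ≤ SymProd.permHom f n x.down⁻¹ ⁻¹ᵁ O := fun x hx => by
    have h1 : (SymProd.fibPow f n).basicOpen ((SymProd.permHom f n x.down⁻¹).appLE Ω Ω (hDΩ x hx) h) = O := by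
      rw [hh x hx, hO]
    rw [Scheme.basicOpen_appLE, ← hO] at h1
    exact h1.ge.trans inf_le_right
  have hOb : O ≤ (WidePullback.base fun _ : Fin n => f) ⁻¹ᵁ V := hOΩ.trans hb
  letI := SymLocal.openAction f D O hDO
  letI := ((WidePullback.base fun _ : Fin n => f).appLE V O hOb).hom.toAlgebra
  haveI := SymLocal.openAction_comm f D O hDO V hOb
  have e1 : ∀ (x : D) s, SymLocal.res f Ω O hOΩ V hb hOb (x • s) = x • SymLocal.res f Ω O hOΩ V hb hOb s := fun x s => by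
    show ((SymProd.permHom f n x.1.down⁻¹).appLE Ω Ω _ ≫ (SymProd.fibPow f n).presheaf.map (homOfLE hOΩ).op) s =
      ((SymProd.fibPow f n).presheaf.map (homOfLE hOΩ).op ≫ (SymProd.permHom f n x.1.down⁻¹).appLE O O _) s
    rw [Scheme.Hom.appLE_map, Scheme.Hom.map_appLE]
  have hhF : h ∈ InvBC.Fx Γ(S, V) D Γ(SymProd.fibPow f n, Ω) := fun x => hh x.1 x.2 _
  haveI := Fintype.ofFinite D
  have hloc := InvBC.fxMap_isLocalization (SymLocal.res f Ω O hOΩ V hb hOb) h e1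
    (hΩ.isLocalization_of_eq_basicOpen h (homOfLE hOΩ) hO) hhF
  letI := (InvBC.fxMap (SymLocal.res f Ω O hOΩ V hb hOb) e1).toRingHom.toAlgebra
  haveI := hloc
  obtain ⟨⟨c, ⟨_, j, rfl⟩⟩, hc⟩ := IsLocalization.surj (Submonoid.powers (⟨h, hhF⟩ : InvBC.Fx Γ(S, V) D _))
    (⟨w, fun x => hw x.1 x.2 _⟩ : InvBC.Fx Γ(S, V) D Γ(SymProd.fibPow f n, O))
  refine ⟨j, c.1, fun x hx e => c.2 ⟨x, hx⟩, ?_⟩
  have h2 := congrArg Subtype.val hc
  change w * (SymProd.fibPow f n).presheaf.map (homOfLE hOΩ).op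
    (((⟨h, hhF⟩ : InvBC.Fx Γ(S, V) D _) ^ j : InvBC.Fx Γ(S, V) D _) : Γ(SymProd.fibPow f n, Ω)) =
      (SymProd.fibPow f n).presheaf.map (homOfLE hOΩ).op c.1 at h2
  rw [SubmonoidClass.coe_pow, map_pow, mul_comm] at h2
  exact h2.symm

variable {X' S' : Scheme.{u}} {f' : X' ⟶ S'} {i0 : X' ⟶ X} {b : S' ⟶ S}

/-- Values of invariant sections on a chart upstairs are combinations of values of invariant sections downstairs. -/
theorem chart_span (c : SymProd.fibPow f' n ⟶ SymProd.fibPow f n)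
    (hcπ : ∀ i : Fin n, c ≫ WidePullback.π (fun _ => f) i = WidePullback.π (fun _ => f') i ≫ i0)
    (hcb : c ≫ WidePullback.base (fun _ => f) = WidePullback.base (fun _ => f') ≫ b) (hi0 : i0 ≫ f = f' ≫ b)
    {κ : Type u} [Fintype κ] [DecidableEq κ] (α : Fin n → κ) {V : S.Opens} (hV : IsAffineOpen V)
    {V' : S'.Opens} (hV' : IsAffineOpen V') (eV : V' ≤ b ⁻¹ᵁ V)
    {U : κ → X.Opens} (hU : ∀ a, IsAffineOpen (U a)) (e : ∀ a, U a ≤ f ⁻¹ᵁ V)
    {U' : κ → X'.Opens} (hU' : ∀ a, IsAffineOpen (U' a)) (e' : ∀ a, U' a ≤ f' ⁻¹ᵁ V') (eU : ∀ a, U' a ≤ i0 ⁻¹ᵁ U a)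
    (T : (SymProd.fibPow f n).Opens)
    (hT : ∀ z, z ∈ T ↔ (WidePullback.base fun _ : Fin n => f) z ∈ V ∧
      ∀ i, (WidePullback.π (fun _ : Fin n => f) i) z ∈ U (α i))
    (T' : (SymProd.fibPow f' n).Opens)
    (hT' : ∀ z, z ∈ T' ↔ (WidePullback.base fun _ : Fin n => f') z ∈ V' ∧
      ∀ i, (WidePullback.π (fun _ : Fin n => f') i) z ∈ U' (α i))
    (hcT : T' ≤ c ⁻¹ᵁ T)
    (D : Subgroup (ULift.{u} (Equiv.Perm (Fin n)))) (hD : ∀ x ∈ D, ∀ i, α (x.down i) = α i)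
    (hspan : ∀ a, letI := (f'.appLE V' (U' a) (e' a)).hom.toAlgebra
      Submodule.span Γ(S', V') (Set.range (i0.appLE (U a) (U' a) (eU a)).hom) = ⊤)
    {R₂ L : Type u} [CommRing R₂] [Algebra Γ(S', V') R₂] [CommRing L] [Algebra Γ(S', V') L] [Algebra R₂ L]
    [IsScalarTower Γ(S', V') R₂ L]
    (hflat : letI := fun a => (f'.appLE V' (U' a) (e' a)).hom.toAlgebra
      Module.Flat R₂ (R₂ ⊗[Γ(S', V')] ((a : κ) → Γ(X', U' a))))
    (hb' : T' ≤ (WidePullback.base fun _ : Fin n => f') ⁻¹ᵁ V')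
    (ev : Γ(SymProd.fibPow f' n, T') →+* L)
    (hev : ∀ r, ev ((WidePullback.base fun _ : Fin n => f').appLE V' T' hb' r) = algebraMap Γ(S', V') L r)
    (z : Γ(SymProd.fibPow f' n, T'))
    (hz : ∀ x ∈ D, ∀ e, (SymProd.permHom f' n x.down⁻¹).appLE T' T' e z = z) :
    ev z ∈ Submodule.span R₂ {y | ∃ w : Γ(SymProd.fibPow f n, T),
      (∀ x ∈ D, ∀ e, (SymProd.permHom f n x.down⁻¹).appLE T T e w = w) ∧ y = ev (c.appLE T T' hcT w)} := by
  classical
  letI := fun a => (f.appLE V (U a) (e a)).hom.toAlgebra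
  letI := fun a => (f'.appLE V' (U' a) (e' a)).hom.toAlgebra
  have hTb : T ≤ (WidePullback.base fun _ : Fin n => f) ⁻¹ᵁ V := fun w hw => ((hT w).1 hw).1
  obtain ⟨-, p, ε, hp, hpa, hpε, hker, hps, hσ⟩ := SymComponent.exists_component_model f α hV hU e T hT hTb
  obtain ⟨-, p', ε', hp', hpa', hpε', hker', hps', hσ'⟩ := SymComponent.exists_component_model f' α hV' hU' e' T' hT' hb'
  letI : Algebra Γ(S, V) Γ(S', V') := (b.appLE V V' eV).hom.toAlgebra
  letI := fun a => (b.appLE V V' eV ≫ f'.appLE V' (U' a) (e' a)).hom.toAlgebra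
  haveI : ∀ a, IsScalarTower Γ(S, V) Γ(S', V') Γ(X', U' a) := fun a => IsScalarTower.of_algebraMap_eq fun _ => rfl
  letI : Algebra Γ(S, V) R₂ := ((algebraMap Γ(S', V') R₂).comp (b.appLE V V' eV).hom).toAlgebra
  haveI : IsScalarTower Γ(S, V) Γ(S', V') R₂ := IsScalarTower.of_algebraMap_eq fun _ => rfl
  let ψa : ∀ a, Γ(X, U a) →ₐ[Γ(S, V)] Γ(X', U' a) := fun a =>
    { (i0.appLE (U a) (U' a) (eU a)).hom with
      commutes' := fun r => by
        show (f.appLE V (U a) (e a) ≫ i0.appLE (U a) (U' a) (eU a)) r =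
          (b.appLE V V' eV ≫ f'.appLE V' (U' a) (e' a)) r
        rw [Scheme.Hom.appLE_comp_appLE, Scheme.Hom.appLE_comp_appLE, SGA1Quot.appLE_congr _ _ _ _ hi0] }
  let ψ : ((a : κ) → Γ(X, U a)) →ₗ[Γ(S, V)] ((a : κ) → Γ(X', U' a)) :=
    LinearMap.pi fun a => (ψa a).toLinearMap ∘ₗ LinearMap.proj a
  have hψ : Submodule.span Γ(S', V') (Set.range ψ) = ⊤ := by
    refine eq_top_iff.2 fun y hy => ?_
    rw [← Finset.univ_sum_single y]
    refine Submodule.sum_mem _ fun a _ => ?_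
    have h1 : y a ∈ Submodule.span Γ(S', V') (Set.range (i0.appLE (U a) (U' a) (eU a)).hom) := hspan a ▸ trivial
    have h2 := Submodule.mem_map_of_mem (f := LinearMap.single Γ(S', V') (fun a : κ => (Γ(X', U' a) : Type u)) a) h1
    rw [Submodule.map_span] at h2
    refine Submodule.span_mono ?_ h2
    rintro _ ⟨_, ⟨v, rfl⟩, rfl⟩
    refine ⟨Pi.single a v, ?_⟩
    funext a'
    show ψa a' ((Pi.single a v : (a : κ) → Γ(X, U a)) a') = (Pi.single a ((i0.appLE (U a) (U' a) (eU a)).hom v) : (a : κ) → Γ(X', U' a)) a'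
    by_cases h : a' = a
    · subst h; simp [ψa]
    · simp [h]
  let θ : ULift.{u} (Equiv.Perm (Fin n)) →* Equiv.Perm (Fin n) := MulEquiv.ulift.toMonoidHom
  let D' := D.map θ
  have hD' : ∀ x ∈ D, ∀ i, α ((x.down⁻¹) i) = α i := fun x hx i => by
    have := hD x hx ((x.down⁻¹) i)
    rw [Equiv.Perm.inv_def, Equiv.apply_symm_apply] at this
    exact this.symm
  have hTx : ∀ x ∈ D, T ≤ SymProd.permHom f n x.down⁻¹ ⁻¹ᵁ T := fun x hx w hw => by
    obtain ⟨h0, h1⟩ := (hT w).1 hw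
    refine (hT _).2 ⟨by rw [← Scheme.Hom.comp_apply, SymProd.permHom_base]; exact h0, fun i => ?_⟩
    rw [← Scheme.Hom.comp_apply, SymProd.permHom_π, show (x.down⁻¹).symm i = x.down i from rfl,
      ← hD x hx i]
    exact h1 _
  have hT'x : ∀ x ∈ D, T' ≤ SymProd.permHom f' n x.down⁻¹ ⁻¹ᵁ T' := fun x hx w hw => by
    obtain ⟨h0, h1⟩ := (hT' w).1 hw
    refine (hT' _).2 ⟨by rw [← Scheme.Hom.comp_apply, SymProd.permHom_base]; exact h0, fun i => ?_⟩
    rw [← Scheme.Hom.comp_apply, SymProd.permHom_π, show (x.down⁻¹).symm i = x.down i from rfl,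
      ← hD x hx i]
    exact h1 _
  -- an invariant lift of `z`
  obtain ⟨t₀, ht₀⟩ := hp' z
  have hts : ε' * t₀ ∈ SymTensorSub.Iv Γ(S', V') D' ((a : κ) → Γ(X', U' a)) := SymTensorSub.mem_Iv.2 fun σ => by
    obtain ⟨x, hx, hxσ⟩ := σ.2
    change x.down = σ.1 at hxσ
    rw [← SymTen.perm_apply, ← hxσ]
    obtain ⟨h1, h2⟩ := hσ' x.down⁻¹ (hT'x x hx) (hD' x hx)
    rw [Equiv.Perm.inv_def, Equiv.symm_symm] at h1
    rw [map_mul, h1, ← sub_eq_zero, ← mul_sub]
    refine hker' _ ?_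
    rw [map_sub, ht₀, sub_eq_zero]
    have h3 := h2 t₀
    rw [show (x.down⁻¹).symm = x.down from rfl] at h3
    rw [← h3, ht₀]
    exact hz x hx _
  let E : (⨂[Γ(S', V')] _ : Fin n, ((a : κ) → Γ(X', U' a))) →ₐ[Γ(S', V')] L :=
    { ev.comp p' with commutes' := fun r => by show ev (p' _) = _; rw [hpa', hev] }
  have hmem := SymSurj.chart_span (R := Γ(S, V)) (R₁ := Γ(S', V')) (R₂ := R₂) ψ hψ D' E hts
  rw [show E (ε' * t₀) = ev z by show ev (p' (ε' * t₀)) = _; rw [map_mul, hpε', one_mul, ht₀]] at hmem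
  refine Submodule.span_mono ?_ hmem
  rintro _ ⟨x₀, hx₀, rfl⟩
  refine ⟨p x₀, fun x hx e => ?_, ?_⟩
  · obtain ⟨-, h2⟩ := hσ x.down⁻¹ e (hD' x hx)
    rw [h2 x₀, Equiv.Perm.inv_def, Equiv.symm_symm, SymTen.perm_apply]
    exact congrArg p (SymTensorSub.mem_Iv.1 hx₀ ⟨x.down, x, hx, rfl⟩)
  · show ev (p' (SymSurj.psi (R' := Γ(S', V')) ψ x₀)) = ev (c.appLE T T' hcT (p x₀))
    congr 1
    clear hx₀
    induction x₀ using PiTensorProduct.induction_on with
    | add x y hx hy => simp only [map_add, hx, hy]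
    | smul_tprod r v =>
      rw [map_smul, SymSurj.psi_tprod, ← algebraMap_smul Γ(S', V')]
      rw [show (algebraMap Γ(S, V) Γ(S', V') r) • (PiTensorProduct.tprod Γ(S', V') fun i => ψ (v i)) =
          algebraMap Γ(S', V') _ (algebraMap Γ(S, V) Γ(S', V') r) * (PiTensorProduct.tprod Γ(S', V') fun i => ψ (v i))
          from Algebra.smul_def (A := ⨂[Γ(S', V')] _ : Fin n, ((a : κ) → Γ(X', U' a))) _ _,
        show r • (PiTensorProduct.tprod Γ(S, V) v) = algebraMap Γ(S, V) _ r * PiTensorProduct.tprod Γ(S, V) v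
          from Algebra.smul_def (A := ⨂[Γ(S, V)] _ : Fin n, ((a : κ) → Γ(X, U a))) _ _]
      rw [map_mul, map_mul, map_mul, hpa', hpa]
      congr 1
      · show (b.appLE V V' eV ≫ (WidePullback.base fun _ : Fin n => f').appLE V' T' hb') r =
          ((WidePullback.base fun _ : Fin n => f).appLE V T hTb ≫ c.appLE T T' hcT) r
        rw [Scheme.Hom.appLE_comp_appLE, Scheme.Hom.appLE_comp_appLE, SGA1Quot.appLE_congr _ _ _ _ hcb.symm]
      · rw [SymSurj.tprod_eq_prod_single, SymSurj.tprod_eq_prod_single, map_prod, map_prod, map_prod]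
        refine Finset.prod_congr rfl fun i _ => ?_
        have hi : T ≤ (WidePullback.π (fun _ : Fin n => f) i) ⁻¹ᵁ U (α i) := fun w hw => ((hT w).1 hw).2 i
        have hi' : T' ≤ (WidePullback.π (fun _ : Fin n => f') i) ⁻¹ᵁ U' (α i) := fun w hw => ((hT' w).1 hw).2 i
        rw [hps i hi, hps' i hi']
        show (i0.appLE (U (α i)) (U' (α i)) (eU _) ≫ (WidePullback.π (fun _ : Fin n => f') i).appLE (U' (α i)) T' hi') (v i (α i)) =
          ((WidePullback.π (fun _ : Fin n => f) i).appLE (U (α i)) T hi ≫ c.appLE T T' hcT) (v i (α i))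
        rw [Scheme.Hom.appLE_comp_appLE, Scheme.Hom.appLE_comp_appLE, SGA1Quot.appLE_congr _ _ _ _ (hcπ i).symm]

end Groth.Agent.AGFQuot23.SymChart
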