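import Groth.Agent.Stk19b.SymAff.Model
import Mathlib.Algebra.Algebra.Pi
import Mathlib.RingTheory.Ideal.Quotient.Operations

/-! Product charts of fibre powers as direct factors of tensor powers. -/

universe u

set_option autoImplicit false
set_option linter.style.haveILetI false
set_option backward.isDefEq.respectTransparency false
set_option backward.isDefEq.respectTransparency.types false
set_option maxHeartbeats 1000000

open CategoryTheory CategoryTheory.Limits AlgebraicGeometry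
open scoped TensorProduct

noncomputable section

namespace Groth.Agent.AGFQuot23.SymComponent

variable {X S : Scheme.{u}} (f : X ⟶ S) {n : ℕ} {κ : Type u} [Fintype κ] [DecidableEq κ] (α : Fin n → κ)
  {V : S.Opens} {U : κ → X.Opens}

theorem singleAlgHom_eq {R : Type u} [CommRing R] {A : Type u} [CommRing A] [Algebra R A] (i : Fin n) (y : A) :
    PiTensorProduct.singleAlgHom (R := R) (A := fun _ : Fin n => A) i y =
      PiTensorProduct.tprod R (Pi.mulSingle i y) := rfl

theorem perm_single {R : Type u} [CommRing R] {A : Type u} [CommRing A] [Algebra R A] (σ : Equiv.Perm (Fin n))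
    (i : Fin n) (y : A) :
    SymTen.perm R A n σ.symm (PiTensorProduct.singleAlgHom (R := R) (A := fun _ : Fin n => A) i y) =
      PiTensorProduct.singleAlgHom (R := R) (A := fun _ : Fin n => A) (σ.symm i) y := by
  rw [singleAlgHom_eq, singleAlgHom_eq, SymTen.perm_tprod]
  congr 1
  funext j
  simp [Pi.mulSingle, Function.update, Equiv.eq_symm_apply]

theorem exists_component_model (hV : IsAffineOpen V) (hU : ∀ a, IsAffineOpen (U a)) (e : ∀ a, U a ≤ f ⁻¹ᵁ V)
    (T : (SymProd.fibPow f n).Opens)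
    (hT : ∀ z, z ∈ T ↔ (WidePullback.base fun _ : Fin n => f) z ∈ V ∧
      ∀ i, (WidePullback.π (fun _ : Fin n => f) i) z ∈ U (α i))
    (hb : T ≤ (WidePullback.base fun _ : Fin n => f) ⁻¹ᵁ V) :
    letI := fun a => (f.appLE V (U a) (e a)).hom.toAlgebra
    IsAffineOpen T ∧ ∃ (p : (⨂[Γ(S, V)] _ : Fin n, ((a : κ) → Γ(X, U a))) →+* Γ(SymProd.fibPow f n, T))
      (ε : ⨂[Γ(S, V)] _ : Fin n, ((a : κ) → Γ(X, U a))),
      Function.Surjective p ∧
      (∀ r, p (algebraMap Γ(S, V) _ r) = ((WidePullback.base fun _ : Fin n => f).appLE V T hb).hom r) ∧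
      p ε = 1 ∧ (∀ t, p t = 0 → ε * t = 0) ∧
      (∀ (i : Fin n) (hi : T ≤ (WidePullback.π (fun _ : Fin n => f) i) ⁻¹ᵁ U (α i)) (v : (a : κ) → Γ(X, U a)),
        p (PiTensorProduct.singleAlgHom (R := Γ(S, V)) (A := fun _ : Fin n => (a : κ) → Γ(X, U a)) i v) =
          ((WidePullback.π (fun _ : Fin n => f) i).appLE (U (α i)) T hi).hom (v (α i))) ∧
      ∀ (σ : Equiv.Perm (Fin n)) (hσT : T ≤ SymProd.permHom f n σ ⁻¹ᵁ T), (∀ i, α (σ i) = α i) →
        SymTen.perm Γ(S, V) ((a : κ) → Γ(X, U a)) n σ.symm ε = ε ∧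
        ∀ t, ((SymProd.permHom f n σ).appLE T T hσT).hom (p t) =
          p (SymTen.perm Γ(S, V) ((a : κ) → Γ(X, U a)) n σ.symm t) := by
  classical
  letI := fun a => (f.appLE V (U a) (e a)).hom.toAlgebra
  letI : Algebra Γ(S, V) Γ(SymProd.fibPow f n, T) :=
    ((WidePullback.base fun _ : Fin n => f).appLE V T hb).hom.toAlgebra
  let A := (a : κ) → Γ(X, U a)
  have hπ : ∀ i, T ≤ (WidePullback.π (fun _ : Fin n => f) i) ⁻¹ᵁ U (α i) := fun i z hz => ((hT z).1 hz).2 i
  let πA : Fin n → (A →ₐ[Γ(S, V)] Γ(SymProd.fibPow f n, T)) := fun i =>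
    ({ ((WidePullback.π (fun _ : Fin n => f) i).appLE (U (α i)) T (hπ i)).hom with
      commutes' := fun r => by
        show (f.appLE V (U (α i)) (e _) ≫ (WidePullback.π (fun _ : Fin n => f) i).appLE (U (α i)) T (hπ i)) r = _
        rw [Scheme.Hom.appLE_comp_appLE, SGA1Quot.appLE_congr V T _ hb (WidePullback.π_arrow _ _)]
        rfl } : Γ(X, U (α i)) →ₐ[Γ(S, V)] Γ(SymProd.fibPow f n, T)).comp (Pi.evalAlgHom Γ(S, V) (fun a => (Γ(X, U a) : Type u)) (α i))
  let φ : (⨂[Γ(S, V)] _ : Fin n, A) →ₐ[Γ(S, V)] Γ(SymProd.fibPow f n, T) :=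
    PiTensorProduct.liftAlgHom
      ((MultilinearMap.mkPiAlgebra Γ(S, V) (Fin n) Γ(SymProd.fibPow f n, T)).compLinearMap
        fun i => (πA i).toLinearMap)
      (by simp) (fun x y => by simp [Finset.prod_mul_distrib])
  have hφs : ∀ i b, φ (PiTensorProduct.singleAlgHom (R := Γ(S, V)) (A := fun _ : Fin n => A) i b) = πA i b :=
    fun i b => by
      simp only [φ, PiTensorProduct.liftAlgHom, PiTensorProduct.singleAlgHom, AlgHom.ofLinearMap_apply]
      show PiTensorProduct.lift _ (PiTensorProduct.tprod _ _) = _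
      rw [PiTensorProduct.lift.tprod, MultilinearMap.compLinearMap_apply, MultilinearMap.mkPiAlgebra_apply]
      rw [Finset.prod_eq_single i]
      · simp
      · intro j _ hj; simp [MonoidHom.mulSingle, Pi.mulSingle_eq_of_ne hj]
      · simp
  let δ : κ → A := fun a => Pi.single a 1
  let ε : ⨂[Γ(S, V)] _ : Fin n, A :=
    ∏ i, PiTensorProduct.singleAlgHom (R := Γ(S, V)) (A := fun _ : Fin n => A) i (δ (α i))
  have hδ : ∀ a, δ a * δ a = δ a := fun a => by
    funext b
    show δ a b * δ a b = δ a b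
    by_cases h : b = a
    · subst h; simp [δ]
    · simp [δ, h]
  have hεε : ε * ε = ε := by
    simp only [ε, ← Finset.prod_mul_distrib, ← map_mul, hδ]
  have hφε : φ ε = 1 := by
    simp only [ε, map_prod, hφs]
    refine Finset.prod_eq_one fun i _ => ?_
    show (WidePullback.π (fun _ : Fin n => f) i).appLE (U (α i)) T (hπ i) (δ (α i) (α i)) = 1
    simp [δ]
  have hεi : ∀ i, PiTensorProduct.singleAlgHom (R := Γ(S, V)) (A := fun _ : Fin n => A) i (δ (α i)) * ε = ε := fun i => by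
    simp only [ε]
    rw [← Finset.mul_prod_erase _ _ (Finset.mem_univ i), ← mul_assoc, ← map_mul, hδ]
  let I : Ideal (⨂[Γ(S, V)] _ : Fin n, A) := Ideal.span {1 - ε}
  let E := CommRingCat.of ((⨂[Γ(S, V)] _ : Fin n, A) ⧸ I)
  let mk : (⨂[Γ(S, V)] _ : Fin n, A) →+* ((⨂[Γ(S, V)] _ : Fin n, A) ⧸ I) := Ideal.Quotient.mk I
  have hmε : mk ε = 1 := ((Ideal.Quotient.eq (I := I)).2 (Ideal.subset_span rfl)).symm.trans (map_one _)
  let sing : ∀ i, Γ(X, U (α i)) ⟶ E := fun i => CommRingCat.ofHom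
    { toFun := fun a => mk (PiTensorProduct.singleAlgHom (R := Γ(S, V)) (A := fun _ : Fin n => A) i (Pi.single (α i) a))
      map_one' := by
        show mk (PiTensorProduct.singleAlgHom (R := Γ(S, V)) (A := fun _ : Fin n => A) i (δ (α i))) = 1
        rw [← map_one mk]
        exact (Ideal.Quotient.eq (I := I)).2 (Ideal.mem_span_singleton'.2
          ⟨PiTensorProduct.singleAlgHom (R := Γ(S, V)) (A := fun _ : Fin n => A) i (δ (α i)) - 1,
            by linear_combination - hεi i⟩)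
      map_mul' := fun a b => by rw [← map_mul, ← map_mul, Pi.single_mul]
      map_zero' := by rw [Pi.single_zero, map_zero, map_zero]
      map_add' := fun a b => by rw [← map_add, ← map_add, Pi.single_add] }
  have hmks : ∀ i (y : A), mk (PiTensorProduct.singleAlgHom (R := Γ(S, V)) (A := fun _ : Fin n => A) i y) =
      sing i (y (α i)) := fun i y => by
    show _ = mk (PiTensorProduct.singleAlgHom (R := Γ(S, V)) (A := fun _ : Fin n => A) i (Pi.single (α i) (y (α i))))
    have h1 : Pi.single (α i) (y (α i)) = y * δ (α i) := by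
      funext a
      show _ = y a * δ (α i) a
      by_cases h : a = α i
      · subst h; simp [δ]
      · simp [δ, h]
    rw [h1, map_mul]
    exact (Ideal.Quotient.eq (I := I)).2 (Ideal.mem_span_singleton'.2
      ⟨PiTensorProduct.singleAlgHom (R := Γ(S, V)) (A := fun _ : Fin n => A) i y *
        (1 - PiTensorProduct.singleAlgHom (R := Γ(S, V)) (A := fun _ : Fin n => A) i (δ (α i))),
        by linear_combination (PiTensorProduct.singleAlgHom (R := Γ(S, V)) (A := fun _ : Fin n => A) i y) * hεi i⟩)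
  let alg : Γ(S, V) ⟶ E := CommRingCat.ofHom (mk.comp (algebraMap Γ(S, V) _))
  have hIφ : ∀ t ∈ I, φ t = 0 := fun t ht => by
    obtain ⟨c, rfl⟩ := Ideal.mem_span_singleton'.1 ht
    rw [map_mul, map_sub, map_one, hφε, sub_self, mul_zero]
  let Φ : E ⟶ Γ(SymProd.fibPow f n, T) := CommRingCat.ofHom (Ideal.Quotient.lift I φ.toRingHom hIφ)
  have hsΦ : ∀ i, sing i ≫ Φ = (WidePullback.π (fun _ : Fin n => f) i).appLE (U (α i)) T (hπ i) := fun i =>
    CommRingCat.hom_ext (RingHom.ext fun b => by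
      show φ (PiTensorProduct.singleAlgHom (R := Γ(S, V)) (A := fun _ : Fin n => A) i (Pi.single (α i) b)) = _
      rw [hφs]
      show (WidePullback.π (fun _ : Fin n => f) i).appLE (U (α i)) T (hπ i) ((Pi.single (α i) b : A) (α i)) = _
      rw [Pi.single_eq_same])
  have haΦ : alg ≫ Φ = (WidePullback.base fun _ : Fin n => f).appLE V T hb :=
    CommRingCat.hom_ext (RingHom.ext fun r => φ.commutes r)
  let a : Spec E ⟶ SymProd.fibPow f n :=
    WidePullback.lift (Spec.map alg ≫ hV.fromSpec) (fun i => Spec.map (sing i) ≫ (hU (α i)).fromSpec) (fun i => by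
      rw [Category.assoc, ← IsAffineOpen.SpecMap_appLE_fromSpec f hV (hU (α i)) (e _), ← Spec.map_comp_assoc]
      congr 2
      refine CommRingCat.hom_ext (RingHom.ext fun r => ?_)
      show sing i (algebraMap Γ(S, V) Γ(X, U (α i)) r) = mk (algebraMap Γ(S, V) _ r)
      rw [← (PiTensorProduct.singleAlgHom (R := Γ(S, V)) (A := fun _ : Fin n => A) i).commutes r, hmks]
      rfl)
  have ha : Set.range a ⊆ Set.range T.ι := by
    rintro _ ⟨t, rfl⟩
    rw [Scheme.Opens.range_ι]
    refine (hT _).2 ⟨?_, fun i => ?_⟩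
    · rw [← Scheme.Hom.comp_apply, WidePullback.lift_base]
      exact hV.range_fromSpec.le ⟨_, rfl⟩
    · rw [← Scheme.Hom.comp_apply, WidePullback.lift_π]
      exact (hU (α i)).range_fromSpec.le ⟨_, rfl⟩
  let a' : Spec E ⟶ T.toScheme := IsOpenImmersion.lift T.ι a ha
  let b : T.toScheme ⟶ Spec E := T.toSpecΓ ≫ Spec.map Φ
  have hbs : ∀ i, b ≫ Spec.map (sing i) ≫ (hU (α i)).fromSpec = T.ι ≫ WidePullback.π (fun _ : Fin n => f) i := fun i => by
    rw [Category.assoc, ← Spec.map_comp_assoc, hsΦ]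
    exact (SGA1Quot.ι_comp_eq _ (hU (α i)) T _).symm
  have hba : b ≫ Spec.map alg ≫ hV.fromSpec = T.ι ≫ WidePullback.base (fun _ : Fin n => f) := by
    rw [Category.assoc, ← Spec.map_comp_assoc, haΦ]
    exact (SGA1Quot.ι_comp_eq _ hV T _).symm
  have h1 : b ≫ a' = 𝟙 _ := by
    rw [← cancel_mono T.ι, Category.assoc, IsOpenImmersion.lift_fac, Category.id_comp]
    refine WidePullback.hom_ext _ _ _ (fun i => ?_) ?_
    · rw [Category.assoc, WidePullback.lift_π, hbs]
    · rw [Category.assoc, WidePullback.lift_base, hba]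
  have h2 : a' ≫ b = 𝟙 _ := by
    obtain ⟨ρ, hρ⟩ := Spec.map_surjective (a' ≫ b)
    have hs : ∀ i, sing i ≫ ρ = sing i := fun i => by
      apply Spec.map_injective
      rw [← cancel_mono (hU (α i)).fromSpec, Spec.map_comp, Category.assoc, hρ, Category.assoc, hbs,
        IsOpenImmersion.lift_fac_assoc, WidePullback.lift_π]
    have hal : alg ≫ ρ = alg := by
      apply Spec.map_injective
      rw [← cancel_mono hV.fromSpec, Spec.map_comp, Category.assoc, hρ, Category.assoc, hba,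
        IsOpenImmersion.lift_fac_assoc, WidePullback.lift_base]
    let ρA : (⨂[Γ(S, V)] _ : Fin n, A) →ₐ[Γ(S, V)] ((⨂[Γ(S, V)] _ : Fin n, A) ⧸ I) :=
      { ρ.hom.comp mk with commutes' := fun r => congrArg (fun t : Γ(S, V) ⟶ E => t r) hal }
    have hρ1 : ρA = Ideal.Quotient.mkₐ Γ(S, V) I := PiTensorProduct.algHom_ext fun i => AlgHom.ext fun x => by
      show ρ (mk (PiTensorProduct.singleAlgHom (R := Γ(S, V)) (A := fun _ : Fin n => A) i x)) = mk _
      rw [hmks]
      exact (congrArg (fun t : Γ(X, U (α i)) ⟶ E => t (x (α i))) (hs i)).trans (hmks i x).symm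
    have : ρ = 𝟙 E := CommRingCat.hom_ext (Ideal.Quotient.ringHom_ext (RingHom.ext fun x => DFunLike.congr_fun hρ1 x))
    rw [← hρ, this, Spec.map_id]
  haveI : IsIso b := ⟨a', h1, h2⟩
  haveI hΩa : IsAffine T.toScheme := IsAffine.of_isIso b
  haveI : IsIso T.toSpecΓ := (IsAffineOpen.isoSpec (U := T) hΩa).isIso_hom
  haveI : IsIso (Spec.map Φ) := IsIso.of_isIso_comp_left T.toSpecΓ _
  have hΦ : Function.Bijective Φ.hom := isIso_SpecMap_iff.1 inferInstance
  refine ⟨hΩa, φ.toRingHom, ε, fun x => ?_, fun r => φ.commutes r, hφε, fun t ht => ?_, fun i hi v => hφs i v,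
    fun σ hσT hσα => ⟨?_, fun t => ?_⟩⟩
  · obtain ⟨y, hy⟩ := hΦ.2 x
    obtain ⟨t, rfl⟩ := Ideal.Quotient.mk_surjective y
    exact ⟨t, hy⟩
  · have : mk t = 0 := hΦ.1 (by rw [map_zero]; exact ht)
    obtain ⟨c, rfl⟩ := Ideal.mem_span_singleton'.1 (Ideal.Quotient.eq_zero_iff_mem.1 this)
    rw [mul_left_comm, mul_sub, mul_one, hεε, sub_self, mul_zero]
  · simp only [ε, map_prod]
    refine Fintype.prod_equiv σ.symm _ _ fun i => ?_
    refine (perm_single σ i _).trans ?_
    show _ = PiTensorProduct.singleAlgHom (R := Γ(S, V)) (A := fun _ : Fin n => A) (σ.symm i) (δ (α (σ.symm i)))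
    rw [← hσα (σ.symm i), Equiv.apply_symm_apply]
  let P : Γ(SymProd.fibPow f n, T) →ₐ[Γ(S, V)] Γ(SymProd.fibPow f n, T) :=
    { ((SymProd.permHom f n σ).appLE T T hσT).hom with
      commutes' := fun r => by
        show ((WidePullback.base fun _ : Fin n => f).appLE V T hb ≫ (SymProd.permHom f n σ).appLE T T hσT) r = _
        rw [Scheme.Hom.appLE_comp_appLE, SGA1Quot.appLE_congr V T _ hb (SymProd.permHom_base f n σ)]
        rfl }
  suffices P.comp φ = φ.comp (SymTen.perm Γ(S, V) A n σ.symm) from DFunLike.congr_fun this t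
  refine PiTensorProduct.algHom_ext fun i => AlgHom.ext fun x => ?_
  show P (φ (PiTensorProduct.singleAlgHom (R := Γ(S, V)) (A := fun _ : Fin n => A) i x)) =
    φ (SymTen.perm Γ(S, V) A n σ.symm (PiTensorProduct.singleAlgHom (R := Γ(S, V)) (A := fun _ : Fin n => A) i x))
  rw [perm_single, hφs, hφs]
  show ((WidePullback.π (fun _ : Fin n => f) i).appLE (U (α i)) T (hπ i) ≫ (SymProd.permHom f n σ).appLE T T hσT) (x (α i)) =
    (WidePullback.π (fun _ : Fin n => f) (σ.symm i)).appLE (U (α (σ.symm i))) T (hπ _) (x (α (σ.symm i)))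
  rw [Scheme.Hom.appLE_comp_appLE]
  have key : ∀ (a b : κ) (h : a = b) (m : SymProd.fibPow f n ⟶ X) (ha : T ≤ m ⁻¹ᵁ U a) (hb : T ≤ m ⁻¹ᵁ U b),
      m.appLE (U a) T ha (x a) = m.appLE (U b) T hb (x b) := by
    intro a b h m ha hb; subst h; rfl
  have hi : α i = α (σ.symm i) := by rw [← hσα (σ.symm i), Equiv.apply_symm_apply]
  rw [SGA1Quot.appLE_congr (U (α i)) T _ (hi ▸ hπ (σ.symm i)) (SymProd.permHom_π f n σ i)]
  exact key _ _ hi _ _ _

end Groth.Agent.AGFQuot23.SymComponent
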