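import Groth.Agent.AGFQuot23.SymTensorBC

/-! Invariant tensors of flat modules under a group of permutations commute with tensor products. -/

universe u

set_option autoImplicit false
set_option linter.all false
set_option maxHeartbeats 1000000

open scoped TensorProduct
open PiTensorProduct
open Groth.Agent.CommAlg4 Groth.Agent.AGFQuot23.SymTensorBC

noncomputable section

namespace Groth.Agent.AGFQuot23.SymTensorSub

variable (R : Type u) [CommRing R] {n : ℕ} (D : Subgroup (Equiv.Perm (Fin n)))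

/-- The invariant tensors. -/
abbrev Iv (M : Type u) [AddCommGroup M] [Module R M] : Submodule R (⨂[R] _ : Fin n, M) :=
  ⨅ σ : D, LinearMap.eqLocus (reindex R (fun _ : Fin n => M) σ.1).toLinearMap LinearMap.id

variable {R D}

theorem mem_Iv {M : Type u} [AddCommGroup M] [Module R M] {t : ⨂[R] _ : Fin n, M} :
    t ∈ Iv R D M ↔ ∀ σ : D, reindex R (fun _ : Fin n => M) σ.1 t = t := by
  simp [Iv, Submodule.mem_iInf]

/-- In the free case the symmetric tensors are a direct summand in a way compatible with tensor products. -/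
theorem free_case (m : ℕ) :
    ∃ P : (⨂[R] _ : Fin n, (Fin m → R)) →ₗ[R] Iv R D (Fin m → R),
      (∀ t : Iv R D (Fin m → R), P t = t) ∧
      ∀ (N : Type u) [AddCommGroup N] [Module R N] (z : N ⊗[R] (⨂[R] _ : Fin n, (Fin m → R))),
        (∀ σ : D, (reindex R (fun _ : Fin n => (Fin m → R)) σ.1).toLinearMap.lTensor N z = z) →
        (Iv R D (Fin m → R)).subtype.lTensor N (P.lTensor N z) = z := by
  classical
  set b := Basis.piTensorProduct fun _ : Fin n => Pi.basisFun R (Fin m) with hb
  set rel : Setoid (Fin n → Fin m) :=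
    { r := fun g g' => ∃ σ : D, g' = g ∘ σ.1
      iseqv := ⟨fun g => ⟨1, rfl⟩, fun {g g'} ⟨σ, h⟩ => ⟨σ⁻¹, by subst h; ext; simp⟩,
        fun {g g' g''} ⟨σ, h⟩ ⟨τ, h'⟩ => ⟨σ * τ, by subst h; subst h'; ext; simp⟩⟩ }
  let rep : (Fin n → Fin m) → (Fin n → Fin m) := fun g => (Quotient.mk rel g).out
  have hrep : ∀ g, ∃ σ : D, rep g = g ∘ σ.1 := fun g =>
    Setoid.symm' rel (Quotient.exact (Quotient.out_eq (Quotient.mk rel g)))
  choose sg hsg using hrep
  have hinv : ∀ (g : Fin n → Fin m) (σ : D), rep (g ∘ σ.1) = rep g := fun g σ =>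
    congrArg Quotient.out (Quotient.sound (⟨σ, rfl⟩ : rel g (g ∘ σ.1))).symm
  let P0 : (⨂[R] _ : Fin n, (Fin m → R)) →ₗ[R] ⨂[R] _ : Fin n, (Fin m → R) :=
    b.equivFun.symm.toLinearMap ∘ₗ LinearMap.funLeft R R rep ∘ₗ b.equivFun.toLinearMap
  have hP0 : ∀ t g, b.repr (P0 t) g = b.repr t (rep g) := fun t g => by
    rw [← Module.Basis.equivFun_apply]
    show b.equivFun (b.equivFun.symm _) g = _
    rw [LinearEquiv.apply_symm_apply]
    rfl
  have hmem : ∀ t, P0 t ∈ Iv R D (Fin m → R) := fun t => mem_Iv.2 fun σ => by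
    apply b.repr.injective
    ext g
    rw [repr_reindex, hP0, hP0, hinv]
  refine ⟨P0.codRestrict _ hmem, fun t => Subtype.ext ?_, fun N _ _ z hz => ?_⟩
  · show P0 t.1 = t.1
    apply b.repr.injective
    ext g
    rw [hP0, hsg, ← repr_reindex, mem_Iv.1 t.2]
  let δ : (Fin n → Fin m) → ((⨂[R] _ : Fin n, (Fin m → R)) →ₗ[R] ⨂[R] _ : Fin n, (Fin m → R)) := fun g =>
    (LinearMap.toSpanSingleton R _ (b g)) ∘ₗ b.coord g ∘ₗ
      ((reindex R (fun _ : Fin n => (Fin m → R)) (sg g).1).toLinearMap - LinearMap.id)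
  have hid : P0 = LinearMap.id + ∑ g, δ g := LinearMap.ext fun t => by
    apply b.repr.injective
    ext g
    rw [hP0, LinearMap.add_apply, LinearMap.id_apply, map_add, Finsupp.add_apply, LinearMap.sum_apply, map_sum,
      Finsupp.finsetSum_apply, Finset.sum_eq_single g]
    · show _ = _ + b.repr (b.coord g (reindex R (fun _ : Fin n => (Fin m → R)) (sg g).1 t - t) • b g) g
      rw [map_smul, Finsupp.smul_apply, Module.Basis.repr_self, Finsupp.single_eq_same, smul_eq_mul, mul_one,
        Module.Basis.coord_apply, map_sub, Finsupp.sub_apply, repr_reindex, hsg]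
      ring
    · intro g' _ hg'
      show b.repr (b.coord g' _ • b g') g = 0
      rw [map_smul, Finsupp.smul_apply, Module.Basis.repr_self, Finsupp.single_eq_of_ne (Ne.symm hg'), smul_zero]
    · simp
  rw [← LinearMap.comp_apply, ← LinearMap.lTensor_comp, LinearMap.subtype_comp_codRestrict, hid,
    LinearMap.lTensor_add, LinearMap.add_apply, LinearMap.lTensor_id, LinearMap.id_apply, add_eq_left]
  have : ∀ g, (δ g).lTensor N z = 0 := fun g => by
    simp only [δ, LinearMap.lTensor_comp, LinearMap.comp_apply, LinearMap.lTensor_sub, LinearMap.sub_apply,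
      LinearMap.lTensor_id, LinearMap.id_apply, hz, sub_self, map_zero]
  rw [show (∑ g, δ g).lTensor N = ∑ g, (δ g).lTensor N from map_sum (LinearMap.lTensorHom N) _ _,
    LinearMap.sum_apply]
  exact Finset.sum_eq_zero fun g _ => this g

variable {M : Type u} [AddCommGroup M] [Module R M] [Module.Flat R M] {N : Type u} [AddCommGroup N] [Module R N]

/-- The map of symmetric tensors. -/
def symMap {A B : Type u} [AddCommGroup A] [Module R A] [AddCommGroup B] [Module R B] (f : A →ₗ[R] B) :
    Iv R D A →ₗ[R] Iv R D B :=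
  ((tmap R n f) ∘ₗ (Iv R D A).subtype).codRestrict _ fun t => mem_Iv.2 fun σ => by
    show reindex R (fun _ : Fin n => B) σ (tmap R n f t.1) = tmap R n f t.1
    rw [← tmap_reindex, mem_Iv.1 t.2]

theorem symMap_natural {A B : Type u} [AddCommGroup A] [Module R A] [AddCommGroup B] [Module R B] (f : A →ₗ[R] B)
    (z : N ⊗[R] Iv R D A) :
    (Iv R D B).subtype.lTensor N ((symMap f).lTensor N z) = (tmap R n f).lTensor N ((Iv R D A).subtype.lTensor N z) := by
  rw [← LinearMap.comp_apply, ← LinearMap.lTensor_comp, ← LinearMap.comp_apply, ← LinearMap.lTensor_comp]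
  rfl

/-- Symmetric tensors of a flat module stay exactly the invariants after tensoring. -/
theorem injective_and_invariants :
    Function.Injective ((Iv R D M).subtype.lTensor N) ∧
      ∀ z : N ⊗[R] (⨂[R] _ : Fin n, M),
        (∀ σ : D, (reindex R (fun _ : Fin n => M) σ.1).toLinearMap.lTensor N z = z) →
        ∃ w, (Iv R D M).subtype.lTensor N w = z := by
  classical
  refine ⟨(injective_iff_map_eq_zero _).2 fun z hz => ?_, fun z hz => ?_⟩
  · obtain ⟨S, rfl⟩ := TensorProduct.exists_finset z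
    obtain ⟨m₀, φ₀, s₀, hs₀⟩ := exists_lift R n (ι := ↥S) (fun i => (i.1.2 : ⨂[R] _ : Fin n, M))
    obtain ⟨k, u₀, ψ, hψ₀, hu₀⟩ := exists_kill_finset R (exists_kill R n) Finset.univ φ₀
      (fun p : D × ↥S => reindex R (fun _ => (Fin m₀ → R)) p.1.1 (s₀ p.2) - s₀ p.2) (fun p _ => by
        rw [map_sub, tmap_reindex, hs₀, mem_Iv.1 p.2.1.2.2 p.1, sub_self])
    let s : ↥S → ⨂[R] _ : Fin n, (Fin k → R) := fun i => tmap R n u₀ (s₀ i)
    have hs : ∀ (σ : D) i, reindex R (fun _ => (Fin k → R)) σ.1 (s i) = s i := fun σ i => by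
      have := hu₀ (σ, i) (Finset.mem_univ _)
      simpa [s, sub_eq_zero, tmap_reindex] using this
    have hst : ∀ i, tmap R n ψ (s i) = i.1.2 := fun i => by rw [← tmap_comp, hψ₀, hs₀]
    let s' : ↥S → Iv R D (Fin k → R) := fun i => ⟨s i, mem_Iv.2 fun σ => hs σ i⟩
    let w := ∑ i : ↥S, i.1.1 ⊗ₜ[R] s' i
    have hw : (symMap ψ).lTensor N w = ∑ i ∈ S, i.1 ⊗ₜ[R] i.2 := by
      rw [← Finset.sum_attach S, map_sum]
      exact Finset.sum_congr rfl fun i _ => by
        rw [LinearMap.lTensor_tmul]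
        congr 1
        exact Subtype.ext (hst i)
    obtain ⟨k', u, ψ', hψ', hu⟩ := exists_kill_tensor (ι := PUnit.{1}) ψ
      (fun _ => (Iv R D (Fin k → R)).subtype.lTensor N w) (fun _ => by rw [← symMap_natural, hw, hz])
    obtain ⟨P, hP, -⟩ := free_case (R := R) (n := n) k'
    have h0 : (symMap u).lTensor N w = 0 := by
      have h1 := congrArg (P.lTensor N) (symMap_natural (N := N) u w)
      rw [hu PUnit.unit, map_zero, ← LinearMap.comp_apply, ← LinearMap.lTensor_comp,
        show P ∘ₗ (Iv R D (Fin k' → R)).subtype = LinearMap.id from LinearMap.ext hP, LinearMap.lTensor_id] at h1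
      exact h1
    rw [← hw, show symMap ψ = symMap ψ' ∘ₗ symMap (n := n) u from LinearMap.ext fun t => Subtype.ext (by
      show tmap R n ψ t.1 = tmap R n ψ' (tmap R n u t.1)
      rw [← tmap_comp, hψ']), LinearMap.lTensor_comp, LinearMap.comp_apply, h0, map_zero]
  · obtain ⟨S, rfl⟩ := TensorProduct.exists_finset z
    obtain ⟨m, φ, s, hs⟩ := exists_lift R n (ι := ↥S) (fun i => i.1.2)
    let w := ∑ i : ↥S, i.1.1 ⊗ₜ[R] s i
    have hw : (tmap R n φ).lTensor N w = ∑ i ∈ S, i.1 ⊗ₜ[R] i.2 := by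
      rw [← Finset.sum_attach S, map_sum]
      exact Finset.sum_congr rfl fun i _ => by rw [LinearMap.lTensor_tmul, hs]
    have hcomm : ∀ {A B : Type u} [AddCommGroup A] [Module R A] [AddCommGroup B] [Module R B] (f : A →ₗ[R] B)
        (σ : Equiv.Perm (Fin n)) (x : N ⊗[R] (⨂[R] _ : Fin n, A)),
        (tmap R n f).lTensor N ((reindex R (fun _ : Fin n => A) σ).toLinearMap.lTensor N x) =
          (reindex R (fun _ : Fin n => B) σ).toLinearMap.lTensor N ((tmap R n f).lTensor N x) := by
      intro A B _ _ _ _ f σ x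
      rw [← LinearMap.comp_apply, ← LinearMap.lTensor_comp, ← LinearMap.comp_apply, ← LinearMap.lTensor_comp]
      congr 2
      exact LinearMap.ext fun t => tmap_reindex R n f σ t
    obtain ⟨k, u, ψ, hψ, hu⟩ := exists_kill_tensor φ
      (fun σ : D => (reindex R (fun _ : Fin n => (Fin m → R)) σ.1).toLinearMap.lTensor N w - w)
      (fun σ => by rw [map_sub, hcomm, hw, hz σ, sub_self])
    obtain ⟨P, -, hP⟩ := free_case (R := R) (n := n) k
    have hfix := hP N ((tmap R n u).lTensor N w) fun σ => by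
      rw [← hcomm, ← sub_eq_zero, ← map_sub]
      exact hu σ
    refine ⟨(symMap ψ).lTensor N (P.lTensor N ((tmap R n u).lTensor N w)), ?_⟩
    rw [symMap_natural, hfix, ← lTensor_tmap_comp, hψ, hw]

end Groth.Agent.AGFQuot23.SymTensorSub
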