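import Groth.Agent.AGFQuot23.InvBC
import Groth.Agent.AGFQuot23.SymTensorSub
import Groth.Agent.AGFQuot23.SymComponent
import Groth.Agent.SGA1Quot.Affine
import Groth.Agent.SGA1Quot.AffineQuot
import Mathlib.AlgebraicGeometry.Morphisms.Flat

/-! Symmetric products of flat separated schemes: invariant sections commute with tensor products. -/

universe u

set_option autoImplicit false
set_option linter.style.haveILetI false
set_option backward.isDefEq.respectTransparency false
set_option backward.isDefEq.respectTransparency.types false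
set_option maxHeartbeats 1600000

open CategoryTheory CategoryTheory.Limits AlgebraicGeometry TopologicalSpace
open scoped TensorProduct Pointwise

noncomputable section

namespace Groth.Agent.AGFQuot23.SymLocal

variable {X S Y : Scheme.{u}} (f : X ⟶ S) {n : ℕ}

theorem flat_pi {R : Type u} [CommRing R] {κ : Type u} [Fintype κ] [DecidableEq κ] (M : κ → Type u) [∀ a, AddCommGroup (M a)]
    [∀ a, Module R (M a)] [∀ a, Module.Flat R (M a)] : Module.Flat R ((a : κ) → M a) :=
  Module.Flat.of_linearEquiv (DFinsupp.linearEquivFunOnFintype (R := R) (M := M)).symm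

/-- Tensor powers of flat algebras: invariants commute with tensor products, for groups mapping to permutations. -/
theorem good_tensorPower {R : Type u} [CommRing R] {B : Type u} [CommRing B] [Algebra R B] [Module.Flat R B]
    {H : Type*} [Group H] (θ : H →* Equiv.Perm (Fin n)) [MulSemiringAction H (⨂[R] _ : Fin n, B)]
    [SMulCommClass H R (⨂[R] _ : Fin n, B)]
    (hact : ∀ (x : H) (t : ⨂[R] _ : Fin n, B), x • t = SymTen.perm R B n (θ x) t) :
    InvBC.Good R H (⨂[R] _ : Fin n, B) := by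
  intro N _ _
  obtain ⟨hi, hs⟩ := SymTensorSub.injective_and_invariants (R := R) (D := θ.range) (M := B) (N := N)
  have hmem : ∀ t, t ∈ InvBC.Fx R H (⨂[R] _ : Fin n, B) ↔ t ∈ SymTensorSub.Iv R θ.range B := fun t => by
    rw [SymTensorSub.mem_Iv]
    refine ⟨fun h σ => ?_, fun h x => ?_⟩
    · obtain ⟨x, hx⟩ := σ.2
      rw [← SymTen.perm_apply, ← hx, ← hact]
      exact h x
    · show x • t = t
      rw [hact, SymTen.perm_apply]
      exact h ⟨θ x, x, rfl⟩
  let E : InvBC.Fx R H (⨂[R] _ : Fin n, B) ≃ₗ[R] SymTensorSub.Iv R θ.range B :=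
    LinearEquiv.ofEq (InvBC.Fx R H (⨂[R] _ : Fin n, B)).toSubmodule (SymTensorSub.Iv R θ.range B) (Submodule.ext hmem)
  have hv : (InvBC.Fx R H (⨂[R] _ : Fin n, B)).val.toLinearMap =
      (SymTensorSub.Iv R θ.range B).subtype ∘ₗ E.toLinearMap := rfl
  refine ⟨?_, fun z hz => ?_⟩
  · rw [hv, LinearMap.lTensor_comp, LinearMap.coe_comp]
    exact hi.comp (E.lTensor N).injective
  · obtain ⟨w, hw⟩ := hs z fun σ => by
      obtain ⟨x, hx⟩ := σ.2
      have := hz x
      rwa [show InvBC.act R (⨂[R] _ : Fin n, B) x = (PiTensorProduct.reindex R (fun _ : Fin n => B) σ.1).toLinearMap from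
        LinearMap.ext fun t => by
          show x • t = PiTensorProduct.reindex R (fun _ : Fin n => B) σ.1 t
          rw [hact, SymTen.perm_apply, hx]] at this
    refine ⟨(E.lTensor N).symm w, ?_⟩
    rw [hv, LinearMap.lTensor_comp, LinearMap.comp_apply]
    show (SymTensorSub.Iv R θ.range B).subtype.lTensor N ((E.lTensor N) ((E.lTensor N).symm w)) = z
    rw [LinearEquiv.apply_symm_apply, hw]

/-- The permutation action of a subgroup on the sections over a stable open. -/
@[reducible] def openAction (D : Subgroup (ULift.{u} (Equiv.Perm (Fin n)))) (O : (SymProd.fibPow f n).Opens)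
    (hO : ∀ x ∈ D, O ≤ SymProd.permHom f n x.down⁻¹ ⁻¹ᵁ O) : MulSemiringAction D Γ(SymProd.fibPow f n, O) where
  smul x t := (SymProd.permHom f n x.1.down⁻¹).appLE O O (hO x.1 x.2) t
  one_smul t := by
    show (SymProd.permHom f n ((1 : ULift.{u} (Equiv.Perm (Fin n))).down⁻¹)).appLE O O _ t = t
    have key : ∀ (a : SymProd.fibPow f n ⟶ SymProd.fibPow f n) (e : O ≤ a ⁻¹ᵁ O), a = 𝟙 _ → a.appLE O O e = 𝟙 _ := by
      rintro a e rfl
      simp only [Scheme.Hom.appLE, Scheme.Hom.id_app]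
      exact (Category.id_comp _).trans ((SymProd.fibPow f n).presheaf.map_id _)
    rw [key _ _ (by rw [ULift.one_down, inv_one, SymProd.permHom_one])]
    rfl
  mul_smul x y t := by
    show (SymProd.permHom f n ((x.1 * y.1).down⁻¹)).appLE O O _ t =
      ((SymProd.permHom f n y.1.down⁻¹).appLE O O _ ≫ (SymProd.permHom f n x.1.down⁻¹).appLE O O _) t
    rw [Scheme.Hom.appLE_comp_appLE]
    refine congrArg (fun F : Γ(SymProd.fibPow f n, O) ⟶ Γ(SymProd.fibPow f n, O) => F t)
      (SGA1Quot.appLE_congr _ _ _ _ ?_)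
    rw [ULift.mul_down, mul_inv_rev, SymProd.permHom_mul]
  smul_zero x := map_zero _
  smul_add x a b := map_add _ a b
  smul_one x := map_one _
  smul_mul x a b := map_mul _ a b

theorem openAction_comm (D : Subgroup (ULift.{u} (Equiv.Perm (Fin n)))) (O : (SymProd.fibPow f n).Opens)
    (hO : ∀ x ∈ D, O ≤ SymProd.permHom f n x.down⁻¹ ⁻¹ᵁ O) (V : S.Opens)
    (hb : O ≤ (WidePullback.base fun _ : Fin n => f) ⁻¹ᵁ V) :
    letI := openAction f D O hO
    letI := ((WidePullback.base fun _ : Fin n => f).appLE V O hb).hom.toAlgebra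
    SMulCommClass D Γ(S, V) Γ(SymProd.fibPow f n, O) := by
  letI := openAction f D O hO
  letI := ((WidePullback.base fun _ : Fin n => f).appLE V O hb).hom.toAlgebra
  refine ⟨fun x r t => ?_⟩
  rw [Algebra.smul_def, Algebra.smul_def, smul_mul']
  congr 1
  show ((WidePullback.base fun _ : Fin n => f).appLE V O hb ≫ (SymProd.permHom f n x.1.down⁻¹).appLE O O _) r = _
  rw [Scheme.Hom.appLE_comp_appLE, SGA1Quot.appLE_congr V O _ hb (SymProd.permHom_base f n _)]
  rfl

theorem mem_inf_opens {Z : Scheme.{u}} {ι : Type*} (s : Finset ι) (W : ι → Z.Opens) (z : Z) :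
    z ∈ s.inf W ↔ ∀ i ∈ s, z ∈ W i := by
  classical
  induction s using Finset.induction_on with
  | empty => simp
  | @insert a s _ ih =>
    rw [Finset.inf_insert]
    show z ∈ W a ∧ z ∈ s.inf W ↔ _
    rw [ih]
    simp [Finset.forall_mem_insert]

theorem mem_basicOpen_prod {Z : Scheme.{u}} {W : Z.Opens} {ι : Type*} [Fintype ι] (s : ι → Γ(Z, W)) (z : Z) :
    z ∈ Z.basicOpen (∏ i, s i) ↔ z ∈ W ∧ ∀ i, z ∈ Z.basicOpen (s i) := by
  classical
  suffices ∀ t : Finset ι, z ∈ Z.basicOpen (∏ i ∈ t, s i) ↔ z ∈ W ∧ ∀ i ∈ t, z ∈ Z.basicOpen (s i) by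
    simpa using this Finset.univ
  intro t
  induction t using Finset.induction_on with
  | empty => simp [Scheme.basicOpen_of_isUnit _ isUnit_one]
  | @insert a t hat ih =>
    rw [Finset.prod_insert hat, Scheme.basicOpen_mul]
    show z ∈ Z.basicOpen (s a) ∧ z ∈ Z.basicOpen (∏ x ∈ t, s x) ↔ _
    rw [ih]
    simp only [Finset.forall_mem_insert]
    tauto

theorem sections_comm {q : SymProd.fibPow f n ⟶ Y} (hq : SGA1.IsQuot (SymProd.permActU f n) q) (V : S.Opens)
    (W : Y.Opens) (hb : q ⁻¹ᵁ W ≤ (WidePullback.base fun _ : Fin n => f) ⁻¹ᵁ V) :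
    letI := SGA1Quot.action hq W
    letI := ((WidePullback.base fun _ : Fin n => f).appLE V (q ⁻¹ᵁ W) hb).hom.toAlgebra
    SMulCommClass (ULift.{u} (Equiv.Perm (Fin n))) Γ(S, V) Γ(SymProd.fibPow f n, q ⁻¹ᵁ W) := by
  letI := SGA1Quot.action hq W
  letI := ((WidePullback.base fun _ : Fin n => f).appLE V (q ⁻¹ᵁ W) hb).hom.toAlgebra
  refine ⟨fun x r t => ?_⟩
  rw [Algebra.smul_def, Algebra.smul_def, smul_mul']
  congr 1
  rw [SGA1Quot.action_smul hq W x]
  simp only [FEtQuot.act]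
  show ((WidePullback.base fun _ : Fin n => f).appLE V (q ⁻¹ᵁ W) hb ≫ (SymProd.permHom f n x.down⁻¹).appLE _ _ _) r = _
  rw [Scheme.Hom.appLE_comp_appLE, SGA1Quot.appLE_congr V (q ⁻¹ᵁ W) _ hb (SymProd.permHom_base f n _)]
  rfl

/-- Restriction to a smaller open as an algebra map. -/
def res (O O' : (SymProd.fibPow f n).Opens) (h : O' ≤ O) (V : S.Opens)
    (hb : O ≤ (WidePullback.base fun _ : Fin n => f) ⁻¹ᵁ V) (hb' : O' ≤ (WidePullback.base fun _ : Fin n => f) ⁻¹ᵁ V) :
    letI := ((WidePullback.base fun _ : Fin n => f).appLE V O hb).hom.toAlgebra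
    letI := ((WidePullback.base fun _ : Fin n => f).appLE V O' hb').hom.toAlgebra
    Γ(SymProd.fibPow f n, O) →ₐ[Γ(S, V)] Γ(SymProd.fibPow f n, O') :=
  letI := ((WidePullback.base fun _ : Fin n => f).appLE V O hb).hom.toAlgebra
  letI := ((WidePullback.base fun _ : Fin n => f).appLE V O' hb').hom.toAlgebra
  { ((SymProd.fibPow f n).presheaf.map (homOfLE h).op).hom with
    commutes' := fun r => congrArg (fun F : Γ(S, V) ⟶ Γ(SymProd.fibPow f n, O') => F r)
      (Scheme.Hom.appLE_map _ hb (homOfLE h).op) }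

/-- A product chart around a point: invariants of the stabilizer commute with tensor products. -/
theorem good_chart [Flat f] {κ : Type u} [Fintype κ] [DecidableEq κ] (α : Fin n → κ) {V : S.Opens} (hV : IsAffineOpen V)
    {U : κ → X.Opens} (hU : ∀ a, IsAffineOpen (U a)) (e : ∀ a, U a ≤ f ⁻¹ᵁ V) (T : (SymProd.fibPow f n).Opens)
    (hT : ∀ z, z ∈ T ↔ (WidePullback.base fun _ : Fin n => f) z ∈ V ∧
      ∀ i, (WidePullback.π (fun _ : Fin n => f) i) z ∈ U (α i))
    (hb : T ≤ (WidePullback.base fun _ : Fin n => f) ⁻¹ᵁ V)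
    (D : Subgroup (ULift.{u} (Equiv.Perm (Fin n)))) (hD : ∀ x ∈ D, ∀ i, α (x.down i) = α i)
    (hDT : ∀ x ∈ D, T ≤ SymProd.permHom f n x.down⁻¹ ⁻¹ᵁ T) :
    IsAffineOpen T ∧
      letI := openAction f D T hDT
      letI := ((WidePullback.base fun _ : Fin n => f).appLE V T hb).hom.toAlgebra
      haveI := openAction_comm f D T hDT V hb
      InvBC.Good Γ(S, V) D Γ(SymProd.fibPow f n, T) := by
  classical
  letI := fun a => (f.appLE V (U a) (e a)).hom.toAlgebra
  obtain ⟨hTaff, p, ε, hp, hpa, hpε, hker, -, hσ⟩ := SymComponent.exists_component_model f α hV hU e T hT hb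
  refine ⟨hTaff, ?_⟩
  letI := openAction f D T hDT
  letI := ((WidePullback.base fun _ : Fin n => f).appLE V T hb).hom.toAlgebra
  haveI := openAction_comm f D T hDT V hb
  let A := (a : κ) → Γ(X, U a)
  haveI : ∀ a, Module.Flat Γ(S, V) Γ(X, U a) := fun a => f.flat_appLE hV (hU a) (e a)
  haveI : Module.Flat Γ(S, V) A := flat_pi (fun a => (Γ(X, U a) : Type u))
  let θ : D →* Equiv.Perm (Fin n) := MulEquiv.ulift.toMonoidHom.comp D.subtype
  letI : MulSemiringAction D (⨂[Γ(S, V)] _ : Fin n, A) :=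
    { smul := fun x t => SymTen.perm Γ(S, V) A n (θ x) t
      one_smul := fun t => by
        show SymTen.perm Γ(S, V) A n (θ 1) t = t
        rw [map_one, SymTen.perm_apply]
        exact LinearMap.congr_fun (f := (PiTensorProduct.reindex Γ(S, V) (fun _ : Fin n => A) 1).toLinearMap)
          (g := LinearMap.id) (PiTensorProduct.ext (MultilinearMap.ext fun v => by simp; congr 1)) t
      mul_smul := fun x y t => by
        show SymTen.perm Γ(S, V) A n (θ (x * y)) t = ((SymTen.perm Γ(S, V) A n (θ x)).comp (SymTen.perm Γ(S, V) A n (θ y))) t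
        refine DFunLike.congr_fun (PiTensorProduct.algHom_ext fun i => AlgHom.ext fun v => ?_) t
        show SymTen.perm Γ(S, V) A n (θ (x * y)) (PiTensorProduct.singleAlgHom (R := Γ(S, V)) (A := fun _ : Fin n => A) i v) =
          SymTen.perm Γ(S, V) A n (θ x) (SymTen.perm Γ(S, V) A n (θ y)
            (PiTensorProduct.singleAlgHom (R := Γ(S, V)) (A := fun _ : Fin n => A) i v))
        have hp1 : ∀ (τ : Equiv.Perm (Fin n)) (j : Fin n), SymTen.perm Γ(S, V) A n τ
            (PiTensorProduct.singleAlgHom (R := Γ(S, V)) (A := fun _ : Fin n => A) j v) =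
            PiTensorProduct.singleAlgHom (R := Γ(S, V)) (A := fun _ : Fin n => A) (τ j) v := fun τ j => by
          have := SymComponent.perm_single (R := Γ(S, V)) τ.symm j v
          rwa [Equiv.symm_symm] at this
        rw [hp1, hp1, hp1, map_mul]
        rfl
      smul_zero := fun x => map_zero _
      smul_add := fun x a b => map_add _ a b
      smul_one := fun x => map_one _
      smul_mul := fun x a b => map_mul _ a b }
  haveI : SMulCommClass D Γ(S, V) (⨂[Γ(S, V)] _ : Fin n, A) := ⟨fun x r t => map_smul (SymTen.perm Γ(S, V) A n (θ x)) r t⟩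
  let P : (⨂[Γ(S, V)] _ : Fin n, A) →ₐ[Γ(S, V)] Γ(SymProd.fibPow f n, T) := { p with commutes' := hpa }
  have hx : ∀ x : D, ∀ i, α ((x.1.down⁻¹) i) = α i := fun x i => by
    have := hD x.1 x.2 ((x.1.down⁻¹) i)
    rw [Equiv.Perm.inv_def, Equiv.apply_symm_apply] at this
    exact this.symm
  refine InvBC.good_of_retract D P hp (fun x t => ?_) ε (fun x => ?_) hpε hker
    (good_tensorPower θ (fun _ _ => rfl))
  · show p (SymTen.perm Γ(S, V) A n x.1.down t) = (SymProd.permHom f n x.1.down⁻¹).appLE T T _ (p t)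
    refine (((hσ _ (hDT x.1 x.2) (hx x)).2 t).trans ?_).symm
    rw [Equiv.Perm.inv_def, Equiv.symm_symm]
  · show SymTen.perm Γ(S, V) A n x.1.down ε = ε
    have := (hσ _ (hDT x.1 x.2) (hx x)).1
    rwa [Equiv.Perm.inv_def, Equiv.symm_symm] at this

theorem good_sections [Flat f] [IsSeparated f] {q : SymProd.fibPow f n ⟶ Y}
    (hq : SGA1.IsQuot (SymProd.permActU f n) q) {V : S.Opens} (hV : IsAffineOpen V) {W : Y.Opens} (hW : IsAffineOpen W)
    (hb : q ⁻¹ᵁ W ≤ (WidePullback.base fun _ : Fin n => f) ⁻¹ᵁ V) :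
    letI := SGA1Quot.action hq W
    letI := ((WidePullback.base fun _ : Fin n => f).appLE V (q ⁻¹ᵁ W) hb).hom.toAlgebra
    haveI := sections_comm f hq V W hb
    InvBC.Good Γ(S, V) (ULift.{u} (Equiv.Perm (Fin n))) Γ(SymProd.fibPow f n, q ⁻¹ᵁ W) := by
  classical
  letI := SGA1Quot.action hq W
  letI := ((WidePullback.base fun _ : Fin n => f).appLE V (q ⁻¹ᵁ W) hb).hom.toAlgebra
  haveI := sections_comm f hq V W hb
  haveI := hq.affine
  let Ω := q ⁻¹ᵁ W
  have hΩ : IsAffineOpen Ω := hW.preimage q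
  refine InvBC.good_of_local fun m hm => ?_
  let pt : Spec Γ(SymProd.fibPow f n, Ω) := (⟨m, hm.isPrime⟩ : PrimeSpectrum _)
  let z := hΩ.fromSpec pt
  have hz : z ∈ Ω := hΩ.range_fromSpec.le ⟨pt, rfl⟩
  have hmem : ∀ s, z ∈ (SymProd.fibPow f n).basicOpen s ↔ s ∉ m := fun s => by
    show pt ∈ hΩ.fromSpec ⁻¹ᵁ (SymProd.fibPow f n).basicOpen s ↔ _
    rw [hΩ.fromSpec_preimage_basicOpen]
    rfl
  let D := MulAction.stabilizer (ULift.{u} (Equiv.Perm (Fin n))) m
  have hfix : ∀ x ∈ D, ∀ i : Fin n, WidePullback.π (fun _ : Fin n => f) (x.down i) z =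
      WidePullback.π (fun _ : Fin n => f) i z := fun x hx i => by
    have h1 : z = SymProd.permHom f n x.down z :=
      SGA1Quot.fromSpec_smul hq hΩ x pt pt (MulAction.mem_stabilizer_iff.1 hx).symm
    conv_lhs => rw [h1, ← Scheme.Hom.comp_apply, SymProd.permHom_π, Equiv.symm_apply_apply]
  let κ : Type u := {x : X // x ∈ Finset.univ.image fun i : Fin n => WidePullback.π (fun _ : Fin n => f) i z}
  let α : Fin n → κ := fun i => ⟨_, Finset.mem_image.2 ⟨i, Finset.mem_univ i, rfl⟩⟩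
  have hU0 : ∀ a : κ, ∃ U : X.Opens, IsAffineOpen U ∧ a.1 ∈ U ∧ U ≤ f ⁻¹ᵁ V := fun a => by
    obtain ⟨i, -, hi⟩ := Finset.mem_image.1 a.2
    refine exists_isAffineOpen_mem_and_subset (x := a.1) (U := f ⁻¹ᵁ V) ?_
    show f a.1 ∈ V
    rw [← hi, ← Scheme.Hom.comp_apply, WidePullback.π_arrow]
    exact hb hz
  choose U hU haU eU using hU0
  let T : (SymProd.fibPow f n).Opens := (WidePullback.base fun _ : Fin n => f) ⁻¹ᵁ V ⊓
    Finset.univ.inf fun i => (WidePullback.π (fun _ : Fin n => f) i) ⁻¹ᵁ U (α i)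
  have hT : ∀ w, w ∈ T ↔ (WidePullback.base fun _ : Fin n => f) w ∈ V ∧
      ∀ i, (WidePullback.π (fun _ : Fin n => f) i) w ∈ U (α i) := fun w => by
    show w ∈ (WidePullback.base fun _ : Fin n => f) ⁻¹ᵁ V ∧
      w ∈ (Finset.univ.inf fun i => (WidePullback.π (fun _ : Fin n => f) i) ⁻¹ᵁ U (α i)) ↔ _
    rw [mem_inf_opens]
    simp
  have hTb : T ≤ (WidePullback.base fun _ : Fin n => f) ⁻¹ᵁ V := inf_le_left
  have hα : ∀ x ∈ D, ∀ i, α (x.down i) = α i := fun x hx i => Subtype.ext (hfix x hx i)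
  have hDT : ∀ x ∈ D, T ≤ SymProd.permHom f n x.down⁻¹ ⁻¹ᵁ T := fun x hx w hw => by
    obtain ⟨h0, h1⟩ := (hT w).1 hw
    refine (hT _).2 ⟨by rw [← Scheme.Hom.comp_apply, SymProd.permHom_base]; exact h0, fun i => ?_⟩
    rw [← Scheme.Hom.comp_apply, SymProd.permHom_π, show (x.down⁻¹).symm i = x.down i from rfl,
      ← hα x hx i]
    exact h1 _
  letI : Fintype κ := Fintype.subtype (Finset.univ.image fun i : Fin n => WidePullback.π (fun _ : Fin n => f) i z)
    fun _ => Iff.rfl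
  obtain ⟨hTaff, hgood⟩ := good_chart f α hV hU eU T hT hTb D hα hDT
  have hzT : z ∈ T := (hT z).2 ⟨hb hz, fun i => haU (α i)⟩
  letI := openAction f D T hDT
  letI := ((WidePullback.base fun _ : Fin n => f).appLE V T hTb).hom.toAlgebra
  haveI := openAction_comm f D T hDT V hTb
  obtain ⟨f0, g0, hfg, hzf⟩ := exists_basicOpen_le_affine_inter hΩ hTaff z ⟨hz, hzT⟩
  haveI := Fintype.ofFinite D
  have hperm : ∀ x : ULift.{u} (Equiv.Perm (Fin n)), Ω ≤ SymProd.permHom f n x.down⁻¹ ⁻¹ᵁ Ω := fun x =>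
    SGA1.preimage_le_of_inv (SymProd.permActU f n) q hq.inv (x⁻¹) W
  have hsmul : ∀ (x : ULift.{u} (Equiv.Perm (Fin n))) s, x • s = (SymProd.permHom f n x.down⁻¹).appLE Ω Ω (hperm x) s :=
    fun x s => by
      rw [SGA1Quot.action_smul hq W x s]
      simp only [FEtQuot.act]
      rfl
  let h : Γ(SymProd.fibPow f n, Ω) := ∏ x : D, x • f0
  let h' : Γ(SymProd.fibPow f n, T) := ∏ x : D, x • g0
  have hh : h ∈ InvBC.Fx Γ(S, V) D Γ(SymProd.fibPow f n, Ω) := fun x => by
    show x • h = h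
    simp only [h, Finset.smul_prod']
    exact Fintype.prod_equiv (Equiv.mulLeft x) _ _ fun y => by simp [mul_smul]
  have hh' : h' ∈ InvBC.Fx Γ(S, V) D Γ(SymProd.fibPow f n, T) := fun x => by
    show x • h' = h'
    simp only [h', Finset.smul_prod']
    exact Fintype.prod_equiv (Equiv.mulLeft x) _ _ fun y => by simp [mul_smul]
  have hb1 : ∀ (x : D) w, w ∈ (SymProd.fibPow f n).basicOpen (x • f0) ↔
      w ∈ Ω ∧ SymProd.permHom f n x.1.down⁻¹ w ∈ (SymProd.fibPow f n).basicOpen f0 := fun x w => by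
    rw [show x • f0 = x.1 • f0 from rfl, hsmul, Scheme.basicOpen_appLE]
    rfl
  have hb2 : ∀ (x : D) w, w ∈ (SymProd.fibPow f n).basicOpen (x • g0) ↔
      w ∈ T ∧ SymProd.permHom f n x.1.down⁻¹ w ∈ (SymProd.fibPow f n).basicOpen g0 := fun x w => by
    show w ∈ (SymProd.fibPow f n).basicOpen ((SymProd.permHom f n x.1.down⁻¹).appLE T T _ g0) ↔ _
    rw [Scheme.basicOpen_appLE]
    rfl
  have hone : ∀ w, SymProd.permHom f n (1 : D).1.down⁻¹ w = w := fun w => by
    rw [show (1 : D).1.down⁻¹ = 1 from inv_one, SymProd.permHom_one]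
    rfl
  have hO : (SymProd.fibPow f n).basicOpen h = (SymProd.fibPow f n).basicOpen h' := by
    ext w
    simp only [SetLike.mem_coe, h, h', mem_basicOpen_prod, hb1, hb2, hfg]
    refine ⟨fun ⟨_, hw⟩ => ?_, fun ⟨_, hw⟩ => ?_⟩
    · have := (hw 1).2
      rw [hone] at this
      have hwT : w ∈ T := (SymProd.fibPow f n).basicOpen_le g0 this
      exact ⟨hwT, fun x => ⟨hwT, (hw x).2⟩⟩
    · have := (hw 1).2
      rw [hone, ← hfg] at this
      have hwΩ : w ∈ Ω := (SymProd.fibPow f n).basicOpen_le f0 this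
      exact ⟨hwΩ, fun x => ⟨hwΩ, (hw x).2⟩⟩
  set O := (SymProd.fibPow f n).basicOpen h with hOdef
  have hOΩ : O ≤ Ω := (SymProd.fibPow f n).basicOpen_le h
  have hOT : O ≤ T := hO.le.trans ((SymProd.fibPow f n).basicOpen_le h')
  have hDO : ∀ x ∈ D, O ≤ SymProd.permHom f n x.down⁻¹ ⁻¹ᵁ O := fun x hx => by
    have : (SymProd.fibPow f n).basicOpen ((SymProd.permHom f n x.down⁻¹).appLE Ω Ω (hperm x) h) = O := by
      rw [← hsmul]
      exact congrArg _ (hh ⟨x, hx⟩)
    rw [Scheme.basicOpen_appLE] at this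
    exact this.ge.trans inf_le_right
  have hOb : O ≤ (WidePullback.base fun _ : Fin n => f) ⁻¹ᵁ V := hOΩ.trans hb
  letI := openAction f D O hDO
  letI := ((WidePullback.base fun _ : Fin n => f).appLE V O hOb).hom.toAlgebra
  haveI := openAction_comm f D O hDO V hOb
  have e1 : ∀ (x : D) s, res f Ω O hOΩ V hb hOb (x • s) = x • res f Ω O hOΩ V hb hOb s := fun x s => by
    show res f Ω O hOΩ V hb hOb (x.1 • s) = _
    rw [hsmul]
    show ((SymProd.permHom f n x.1.down⁻¹).appLE Ω Ω _ ≫ (SymProd.fibPow f n).presheaf.map (homOfLE hOΩ).op) s =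
      ((SymProd.fibPow f n).presheaf.map (homOfLE hOΩ).op ≫ (SymProd.permHom f n x.1.down⁻¹).appLE O O _) s
    rw [Scheme.Hom.appLE_map, Scheme.Hom.map_appLE]
  have e2 : ∀ (x : D) s, res f T O hOT V hTb hOb (x • s) = x • res f T O hOT V hTb hOb s := fun x s => by
    show ((SymProd.permHom f n x.1.down⁻¹).appLE T T _ ≫ (SymProd.fibPow f n).presheaf.map (homOfLE hOT).op) s =
      ((SymProd.fibPow f n).presheaf.map (homOfLE hOT).op ≫ (SymProd.permHom f n x.1.down⁻¹).appLE O O _) s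
    rw [Scheme.Hom.appLE_map, Scheme.Hom.map_appLE]
  refine ⟨h, hh, fun hc => ?_, ?_⟩
  · have hzO : z ∈ O := by
      rw [hOdef, mem_basicOpen_prod]
      refine ⟨hz, fun x => (hmem _).2 fun hxm => (hmem f0).1 hzf ?_⟩
      have h1 : x.1 • f0 ∈ x.1 • m := by rw [MulAction.mem_stabilizer_iff.1 x.2]; exact hxm
      exact Ideal.smul_mem_pointwise_smul_iff.1 h1
    exact (hmem h).1 hzO hc
  · exact InvBC.loc_of_good (res f Ω O hOΩ V hb hOb) h e1
      (hΩ.isLocalization_of_eq_basicOpen h (homOfLE hOΩ) rfl) hh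
      (InvBC.good_of_localization (res f T O hOT V hTb hOb) h' e2
        (hTaff.isLocalization_of_eq_basicOpen h' (homOfLE hOT) hO) hh' hgood)

end Groth.Agent.AGFQuot23.SymLocal
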