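import Groth.Agent.AGFQuot23.SymTensorBC
import Groth.Agent.Stk19b.SymAff.Chart
import Groth.Agent.SGA1Quot.AffineQuot
import Groth.Agent.EGA43.InjFibre.Scheme
import Mathlib.AlgebraicGeometry.Morphisms.Flat

/-! Symmetric powers of flat schemes commute with base change. -/

universe u

set_option autoImplicit false
set_option linter.style.haveILetI false
set_option backward.isDefEq.respectTransparency.types false
set_option backward.isDefEq.respectTransparency false
set_option maxHeartbeats 1000000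

open CategoryTheory CategoryTheory.Limits AlgebraicGeometry TopologicalSpace
open scoped TensorProduct

noncomputable section

namespace Groth.Agent.AGFQuot23.SymProdBC

section Ring

attribute [local instance] Algebra.TensorProduct.rightAlgebra

theorem injective_and_invariants_of_isPushout {R R' B B' C C' : CommRingCat.{u}} {β : R ⟶ B} {j : R ⟶ R'}
    {tB : B ⟶ B'} {sB : R' ⟶ B'} (hB : IsPushout β j tB sB) {γ : R ⟶ C} {tC : C ⟶ C'} {sC : R' ⟶ C'}
    (hC : IsPushout γ j tC sC) (q : B ⟶ C) (hγ : β ≫ q = γ) (q' : B' ⟶ C') (ht : tB ≫ q' = q ≫ tC)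
    (hs : sB ≫ q' = sC) {I : Type*} (σ : I → (C ⟶ C)) (σ' : I → (C' ⟶ C')) (hσ : ∀ i, γ ≫ σ i = γ)
    (htσ : ∀ i, tC ≫ σ' i = σ i ≫ tC) (hsσ : ∀ i, sC ≫ σ' i = sC)
    (key : letI := β.hom.toAlgebra; letI := γ.hom.toAlgebra; letI := j.hom.toAlgebra
      ∀ (qL : (B : Type u) →ₗ[R] C), (∀ x, qL x = q x) → ∀ (σL : I → ((C : Type u) →ₗ[R] C)), (∀ i x, σL i x = σ i x) →
        Function.Injective (qL.lTensor R') ∧
          ∀ z : R' ⊗[R] C, (∀ i, (σL i).lTensor R' z = z) → ∃ w, qL.lTensor R' w = z) :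
    Function.Injective q'.hom ∧ ∀ s, (∀ i, σ' i s = s) → ∃ a, q' a = s := by
  letI := β.hom.toAlgebra
  letI := γ.hom.toAlgebra
  letI := j.hom.toAlgebra
  letI := tB.hom.toAlgebra
  letI := sB.hom.toAlgebra
  letI := tC.hom.toAlgebra
  letI := sC.hom.toAlgebra
  letI : Algebra R B' := (j ≫ sB).hom.toAlgebra
  letI : Algebra R C' := (j ≫ sC).hom.toAlgebra
  haveI : IsScalarTower R R' B' := IsScalarTower.of_algebraMap_eq fun _ => rfl
  haveI : IsScalarTower R B B' := IsScalarTower.of_algebraMap_eq fun x => by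
    show (j ≫ sB) x = (β ≫ tB) x
    rw [hB.w]
  haveI : IsScalarTower R R' C' := IsScalarTower.of_algebraMap_eq fun _ => rfl
  haveI : IsScalarTower R C C' := IsScalarTower.of_algebraMap_eq fun x => by
    show (j ≫ sC) x = (γ ≫ tC) x
    rw [hC.w]
  haveI : Algebra.IsPushout R R' B B' := CommRingCat.isPushout_iff_isPushout.mp hB.flip
  haveI : Algebra.IsPushout R R' C C' := CommRingCat.isPushout_iff_isPushout.mp hC.flip
  let eB := Algebra.IsPushout.equiv R R' B B'
  let eC := Algebra.IsPushout.equiv R R' C C'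
  let qL : (B : Type u) →ₗ[R] C :=
    ({ q.hom with commutes' := fun r => congrArg (fun φ : R ⟶ C => φ r) hγ } : (B : Type u) →ₐ[R] C).toLinearMap
  let σL : I → ((C : Type u) →ₗ[R] C) := fun i =>
    ({ (σ i).hom with commutes' := fun r => congrArg (fun φ : R ⟶ C => φ r) (hσ i) } : (C : Type u) →ₐ[R] C).toLinearMap
  obtain ⟨hinj, hsurj⟩ := key qL (fun _ => rfl) σL (fun _ _ => rfl)
  have hq : ∀ w, q' (eB w) = eC (qL.lTensor R' w) := fun w => by
    induction w using TensorProduct.induction_on with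
    | zero => simp
    | add a b ha hb => simp only [map_add, ha, hb]
    | tmul a x =>
      rw [LinearMap.lTensor_tmul, Algebra.IsPushout.equiv_tmul, Algebra.IsPushout.equiv_tmul]
      show q' (sB a * tB x) = sC a * tC (q x)
      rw [map_mul, show q' (sB a) = sC a from congrArg (fun φ : R' ⟶ C' => φ a) hs,
        show q' (tB x) = tC (q x) from congrArg (fun φ : B ⟶ C' => φ x) ht]
  have hσ' : ∀ i z, σ' i (eC z) = eC ((σL i).lTensor R' z) := fun i z => by
    induction z using TensorProduct.induction_on with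
    | zero => simp
    | add a b ha hb => simp only [map_add, ha, hb]
    | tmul a x =>
      rw [LinearMap.lTensor_tmul, Algebra.IsPushout.equiv_tmul, Algebra.IsPushout.equiv_tmul]
      show σ' i (sC a * tC x) = sC a * tC (σ i x)
      rw [map_mul, show σ' i (sC a) = sC a from congrArg (fun φ : R' ⟶ C' => φ a) (hsσ i),
        show σ' i (tC x) = tC (σ i x) from congrArg (fun φ : C ⟶ C' => φ x) (htσ i)]
  refine ⟨fun a a' h => ?_, fun s hs' => ?_⟩
  · obtain ⟨w, rfl⟩ := eB.surjective a
    obtain ⟨w', rfl⟩ := eB.surjective a'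
    rw [hq, hq] at h
    rw [hinj (eC.injective h)]
  · obtain ⟨z, rfl⟩ := eC.surjective s
    obtain ⟨w, hw⟩ := hsurj z fun i => eC.injective (by rw [← hσ', hs' i])
    exact ⟨eB w, by rw [hq, hw]⟩

theorem key_of_model {R B C N : Type u} [CommRing R] [AddCommGroup B] [Module R B] [AddCommGroup C] [Module R C]
    [AddCommGroup N] [Module R N] {M : Type u} [AddCommGroup M] [Module R M] [Module.Flat R M] (n : ℕ)
    (φ : (⨂[R] _ : Fin n, M) ≃ₗ[R] C) (qL : B →ₗ[R] C) (hq : Function.Injective qL)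
    (hr : ∀ t, φ t ∈ Set.range qL ↔ t ∈ SymTensorBC.Sy R n M) :
    Function.Injective (qL.lTensor N) ∧
      ∀ z : N ⊗[R] C, (∀ σ : Equiv.Perm (Fin n),
          (φ.toLinearMap ∘ₗ (PiTensorProduct.reindex R (fun _ : Fin n => M) σ).toLinearMap ∘ₗ φ.symm.toLinearMap).lTensor N z = z) →
        ∃ w, qL.lTensor N w = z := by
  obtain ⟨hinj, hsur⟩ := SymTensorBC.injective_and_invariants (R := R) (n := n) (M := M) (N := N)
  let l : B →ₗ[R] SymTensorBC.Sy R n M := (φ.symm.toLinearMap ∘ₗ qL).codRestrict _ fun b =>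
    (hr _).1 (by simp)
  have hl : Function.Bijective l := by
    refine ⟨fun a b h => hq (φ.symm.injective (congrArg Subtype.val h)), fun t => ?_⟩
    obtain ⟨b, hb⟩ := (hr t.1).2 t.2
    exact ⟨b, Subtype.ext (by show φ.symm (qL b) = t.1; rw [hb, φ.symm_apply_apply])⟩
  let E := LinearEquiv.ofBijective l hl
  have hdec : qL = φ.toLinearMap ∘ₗ (SymTensorBC.Sy R n M).subtype ∘ₗ E.toLinearMap :=
    LinearMap.ext fun b => (φ.apply_symm_apply (qL b)).symm
  refine ⟨?_, fun z hz => ?_⟩
  · rw [hdec, LinearMap.lTensor_comp, LinearMap.lTensor_comp, LinearMap.coe_comp, LinearMap.coe_comp]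
    exact (φ.lTensor N).injective.comp (hinj.comp (E.lTensor N).injective)
  · obtain ⟨z, rfl⟩ := (φ.lTensor N).surjective z
    obtain ⟨w, hw⟩ := hsur z fun σ => (φ.lTensor N).injective (by
      have h := hz σ
      rw [LinearMap.lTensor_comp, LinearMap.lTensor_comp, LinearMap.comp_apply, LinearMap.comp_apply] at h
      change (φ.lTensor N) ((PiTensorProduct.reindex R (fun _ : Fin n => M) σ).toLinearMap.lTensor N
        ((φ.lTensor N).symm ((φ.lTensor N) z))) = _ at h
      rwa [LinearEquiv.symm_apply_apply] at h)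
    refine ⟨(E.lTensor N).symm w, ?_⟩
    rw [hdec, LinearMap.lTensor_comp, LinearMap.lTensor_comp, LinearMap.comp_apply, LinearMap.comp_apply]
    show (φ.lTensor N) ((SymTensorBC.Sy R n M).subtype.lTensor N ((E.lTensor N) ((E.lTensor N).symm w))) = _
    rw [LinearEquiv.apply_symm_apply, hw]

end Ring

variable {X S S' Y : Scheme.{u}} {f : X ⟶ S} {n : ℕ}

theorem isPullback_fibPow (b : S' ⟶ S) (c : SymProd.fibPow (pullback.snd f b) n ⟶ SymProd.fibPow f n)
    (hcπ : ∀ i : Fin n, c ≫ WidePullback.π (fun _ => f) i =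
      WidePullback.π (fun _ => pullback.snd f b) i ≫ pullback.fst f b)
    (hcb : c ≫ WidePullback.base (fun _ => f) = WidePullback.base (fun _ => pullback.snd f b) ≫ b) :
    IsPullback c (WidePullback.base (fun _ : Fin n => pullback.snd f b)) (WidePullback.base fun _ : Fin n => f) b := by
  refine IsPullback.of_isLimit' ⟨hcb⟩ (PullbackCone.IsLimit.mk _
    (fun s => WidePullback.lift s.snd (fun i => pullback.lift (s.fst ≫ WidePullback.π (fun _ : Fin n => f) i) s.snd
      (by rw [Category.assoc, WidePullback.π_arrow]; exact s.condition)) (fun i => pullback.lift_snd _ _ _))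
    (fun s => ?_) (fun s => WidePullback.lift_base _ _ _ _) (fun s m h1 h2 => ?_))
  · apply WidePullback.hom_ext
    · intro i
      rw [Category.assoc, hcπ, WidePullback.lift_π_assoc, pullback.lift_fst]
    · rw [Category.assoc, hcb, WidePullback.lift_base_assoc]
      exact s.condition.symm
  · apply WidePullback.hom_ext
    · intro i
      rw [WidePullback.lift_π]
      apply pullback.hom_ext
      · rw [pullback.lift_fst, Category.assoc, ← hcπ, ← Category.assoc, h1]
      · rw [pullback.lift_snd, Category.assoc, WidePullback.π_arrow]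
        exact h2
    · rw [WidePullback.lift_base]
      exact h2

theorem permHom_comp (b : S' ⟶ S) (c : SymProd.fibPow (pullback.snd f b) n ⟶ SymProd.fibPow f n)
    (hcπ : ∀ i : Fin n, c ≫ WidePullback.π (fun _ => f) i =
      WidePullback.π (fun _ => pullback.snd f b) i ≫ pullback.fst f b)
    (hcb : c ≫ WidePullback.base (fun _ => f) = WidePullback.base (fun _ => pullback.snd f b) ≫ b)
    (σ : Equiv.Perm (Fin n)) :
    SymProd.permHom (pullback.snd f b) n σ ≫ c = c ≫ SymProd.permHom f n σ := by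
  apply WidePullback.hom_ext
  · intro i
    rw [Category.assoc, hcπ, SymProd.permHom_π_assoc, Category.assoc, SymProd.permHom_π, hcπ]
  · rw [Category.assoc, hcb, SymProd.permHom_base_assoc, Category.assoc, SymProd.permHom_base, hcb]

theorem isSymProd_baseChange [Flat f] (hAF : SymProd.IsAF f) {q : SymProd.fibPow f n ⟶ Y} {g : Y ⟶ S}
    (hq : SymProd.IsSymProd f n q g) (b : S' ⟶ S)
    (c : SymProd.fibPow (pullback.snd f b) n ⟶ SymProd.fibPow f n)
    (hcπ : ∀ i : Fin n, c ≫ WidePullback.π (fun _ => f) i =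
      WidePullback.π (fun _ => pullback.snd f b) i ≫ pullback.fst f b)
    (hcb : c ≫ WidePullback.base (fun _ => f) = WidePullback.base (fun _ => pullback.snd f b) ≫ b)
    (q' : SymProd.fibPow (pullback.snd f b) n ⟶ pullback g b)
    (hq'₁ : q' ≫ pullback.fst g b = c ≫ q)
    (hq'₂ : q' ≫ pullback.snd g b = WidePullback.base (fun _ => pullback.snd f b)) :
    SymProd.IsSymProd (pullback.snd f b) n q' (pullback.snd g b) := by
  classical
  refine ⟨?_, hq'₂⟩
  have hP := isPullback_fibPow b c hcπ hcb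
  have hY := IsPullback.of_hasPullback g b
  have hqq : IsPullback c q' q (pullback.fst g b) :=
    IsPullback.of_bot (by rw [hq'₂, hq.over]; exact hP) hq'₁.symm hY
  haveI := hq.isQuot.affine
  haveI : IsAffineHom q' := MorphismProperty.of_isPullback (P := @IsAffineHom) hqq hq.isQuot.affine
  have hinv : ∀ σ, (SymProd.permActU (pullback.snd f b) n σ).hom ≫ q' = q' := fun σ => by
    rw [SymProd.permActU_hom]
    apply pullback.hom_ext
    · rw [Category.assoc, hq'₁, ← Category.assoc, permHom_comp b c hcπ hcb, Category.assoc,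
        ← SymProd.permActU_hom, hq.isQuot.inv]
    · rw [Category.assoc, hq'₂, SymProd.permHom_base]
  -- charts
  have chart : ∀ y' : ↥(pullback g b), ∃ W'' : (pullback g b).Opens, y' ∈ W'' ∧ IsAffineOpen W'' ∧
      Function.Injective (q'.app W'').hom ∧
      ∀ s, s ∈ FEtQuot.invariants q' (SymProd.permActU (pullback.snd f b) n) hinv W'' →
        s ∈ Set.range (q'.app W'').hom := by
    intro y'
    obtain ⟨V, U, e, W', hy, e', hmem⟩ := Stk19b.SymAff.exists_chart f hAF q g hq (pullback.fst g b y')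
    have hbv : b (pullback.snd g b y') ∈ V.1 := by
      rw [← Scheme.Hom.comp_apply, ← pullback.condition, Scheme.Hom.comp_apply]
      exact e' hy
    obtain ⟨V', hV', hyV', hV'b⟩ :=
      exists_isAffineOpen_mem_and_subset (x := pullback.snd g b y') (U := b ⁻¹ᵁ V.1) hbv
    let W'' := pullback.fst g b ⁻¹ᵁ W'.1 ⊓ pullback.snd g b ⁻¹ᵁ V'
    have hW'' : IsAffineOpen W'' := EGA43.InjFibre.isAffineOpen_inf_preimage hY V.2 W'.2 hV' e' hV'b
    refine ⟨W'', ⟨hy, hyV'⟩, hW'', ?_⟩
    let Ω := q ⁻¹ᵁ W'.1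
    have hΩ : IsAffineOpen Ω := W'.2.preimage q
    have hperm : ∀ σ : Equiv.Perm (Fin n), Ω ≤ SymProd.permHom f n σ ⁻¹ᵁ Ω := fun σ =>
      SGA1.preimage_le_of_inv (SymProd.permActU f n) q hq.isQuot.inv ⟨σ⟩ W'.1
    have hb : Ω ≤ (WidePullback.base fun _ : Fin n => f) ⁻¹ᵁ V.1 := fun z hz => ((hmem z).1 hz).1
    letI := (f.appLE V.1 U.1 e).hom.toAlgebra
    haveI : Module.Flat Γ(S, V.1) Γ(X, U.1) := f.flat_appLE V.2 U.2 e
    obtain ⟨φ, hφ, hφa, hφp⟩ := Stk19b.SymAff.exists_model f n e Ω V.2 U.2 hmem hperm hb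
    let Ω'' := q' ⁻¹ᵁ W''
    have hΩ'' : Ω'' = c ⁻¹ᵁ Ω ⊓ (WidePullback.base fun _ : Fin n => pullback.snd f b) ⁻¹ᵁ V' := by
      show q' ⁻¹ᵁ (_ ⊓ _) = _
      rw [Scheme.Hom.preimage_inf, ← Scheme.Hom.comp_preimage, ← Scheme.Hom.comp_preimage, hq'₁, hq'₂,
        Scheme.Hom.comp_preimage]
    have hpY := (isIso_pushoutSection_iff hY hV'b e' (rfl : W'' = _)).mp
      (isIso_pushoutSection_of_isAffineOpen hY hV'b e' _ V.2 hV' W'.2)
    have hpP := (isIso_pushoutSection_iff hP hV'b hb hΩ'').mp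
      (isIso_pushoutSection_of_isAffineOpen hP hV'b hb _ V.2 hV' hΩ)
    have e1 : Ω'' ≤ c ⁻¹ᵁ Ω := hΩ''.le.trans inf_le_left
    have hperm' : ∀ σ : Equiv.Perm (Fin n), Ω'' ≤ SymProd.permHom (pullback.snd f b) n σ ⁻¹ᵁ Ω'' := fun σ =>
      SGA1.preimage_le_of_inv (SymProd.permActU (pullback.snd f b) n) q' hinv ⟨σ⟩ W''
    obtain ⟨hi, hr⟩ := injective_and_invariants_of_isPushout hpY hpP (q.appLE W'.1 Ω le_rfl)
      (by rw [Scheme.Hom.appLE_comp_appLE]; exact SGA1Quot.appLE_congr _ _ _ _ hq.over)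
      (q'.appLE W'' Ω'' le_rfl)
      (by rw [Scheme.Hom.appLE_comp_appLE, Scheme.Hom.appLE_comp_appLE]; exact SGA1Quot.appLE_congr _ _ _ _ hq'₁)
      (by rw [Scheme.Hom.appLE_comp_appLE]; exact SGA1Quot.appLE_congr _ _ _ _ hq'₂)
      (fun σ : Equiv.Perm (Fin n) => (SymProd.permHom f n σ).appLE Ω Ω (hperm σ))
      (fun σ => (SymProd.permHom (pullback.snd f b) n σ).appLE Ω'' Ω'' (hperm' σ))
      (fun σ => by rw [Scheme.Hom.appLE_comp_appLE]; exact SGA1Quot.appLE_congr _ _ _ _ (SymProd.permHom_base f n σ))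
      (fun σ => by
        rw [Scheme.Hom.appLE_comp_appLE, Scheme.Hom.appLE_comp_appLE]
        exact SGA1Quot.appLE_congr _ _ _ _ (permHom_comp b c hcπ hcb σ))
      (fun σ => by
        rw [Scheme.Hom.appLE_comp_appLE]
        exact SGA1Quot.appLE_congr _ _ _ _ (SymProd.permHom_base _ n σ))
      (by
        letI := (g.appLE V.1 W'.1 e').hom.toAlgebra
        letI := ((WidePullback.base fun _ : Fin n => f).appLE V.1 Ω hb).hom.toAlgebra
        letI := (b.appLE V.1 V' hV'b).hom.toAlgebra
        intro qL hqL σL hσL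
        let φL : (⨂[Γ(S, V.1)] _ : Fin n, Γ(X, U.1)) ≃ₗ[Γ(S, V.1)] Γ(SymProd.fibPow f n, Ω) :=
          LinearEquiv.ofBijective
            ({ φ with
               map_smul' := fun r t => by
                show φ (r • t) = (WidePullback.base fun _ : Fin n => f).appLE V.1 Ω hb r * φ t
                rw [Algebra.smul_def, map_mul, hφa] } :
              (⨂[Γ(S, V.1)] _ : Fin n, Γ(X, U.1)) →ₗ[Γ(S, V.1)] Γ(SymProd.fibPow f n, Ω)) hφ
        have hqapp : ∀ x, qL x = (q.app W'.1).hom x := fun x => by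
          rw [hqL, Scheme.Hom.app_eq_appLE]
        obtain ⟨k1, k2⟩ := key_of_model (N := Γ(S', V')) n φL qL
          (fun x y h => hq.isQuot.injective W'.1 (by rw [← hqapp, ← hqapp, h])) (fun t => by
            rw [show Set.range qL = Set.range (q.app W'.1).hom from congrArg Set.range (funext hqapp)]
            show φ t ∈ _ ↔ _
            rw [hq.isQuot.range_iff, SymTensorBC.mem_Sy]
            refine ⟨fun h σ => ?_, fun h σ => ?_⟩
            · rw [← SymTen.perm_apply]
              refine hφ.1 ?_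
              have := hφp σ.symm t
              rw [Equiv.symm_symm] at this
              exact this.symm.trans (h ⟨σ.symm⟩)
            · refine (hφp σ.down t).trans (congrArg φ ?_)
              rw [SymTen.perm_apply]
              exact h _)
        refine ⟨k1, fun z hz => k2 z fun σ => ?_⟩
        rw [show φL.toLinearMap ∘ₗ (PiTensorProduct.reindex Γ(S, V.1) (fun _ : Fin n => Γ(X, U.1)) σ).toLinearMap ∘ₗ
            φL.symm.toLinearMap = σL σ.symm from LinearMap.ext fun x => by
          obtain ⟨t, rfl⟩ := φL.surjective x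
          show φL (PiTensorProduct.reindex Γ(S, V.1) (fun _ : Fin n => Γ(X, U.1)) σ (φL.symm (φL t))) = _
          rw [φL.symm_apply_apply, hσL, ← SymTen.perm_apply]
          show φ _ = (SymProd.permHom f n σ.symm).appLE Ω Ω (hperm σ.symm) (φ t)
          rw [hφp, Equiv.symm_symm]]
        exact hz σ.symm)
    refine ⟨by rw [Scheme.Hom.app_eq_appLE]; exact hi, fun s hs => ?_⟩
    rw [Scheme.Hom.app_eq_appLE]
    refine hr s fun σ => ?_
    have := hs (⟨σ⟩ : ULift.{u} (Equiv.Perm (Fin n)))⁻¹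
    simp only [FEtQuot.act, inv_inv] at this
    exact this
  choose W hyW hW hWinj hWr using chart
  exact SGA1Quot.isQuot_of_cover (SymProd.permActU (pullback.snd f b) n) q' hinv W hW (fun y => ⟨y, hyW y⟩) hWinj hWr

end Groth.Agent.AGFQuot23.SymProdBC
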