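import Groth.Agent.S0271
import Groth.Agent.CommAlg4.InertiaGen
import Groth.Agent.CAlgH.RegularDescent
import Groth.Agent.AlgSpLib.EtaleAscend
import Mathlib.RingTheory.Localization.Finiteness
import Mathlib.RingTheory.Invariant.Basic
import Mathlib.RingTheory.UniqueFactorizationDomain.Ideal
import Mathlib.RingTheory.Ideal.Height

/-! Regularity of invariants of a finite group at a prime: no pseudo-reflections. -/

universe u

set_option autoImplicit false
set_option linter.all false
set_option maxHeartbeats 800000

open scoped Pointwise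

noncomputable section

namespace Groth.Agent.AGFQuot23.SymRegular

variable {A : Type u} [CommRing A] {G : Type u} [Group G] [Finite G] [MulSemiringAction G A]
  [IsNoetherianRing (FixedPoints.subring A G)] [Module.Finite (FixedPoints.subring A G) A]

/-- The inclusion of invariants. -/
abbrev incl (I : Subgroup G) : FixedPoints.subring A G →+* FixedPoints.subring A I where
  toFun x := ⟨x.1, fun g => x.2 g.1⟩
  map_one' := rfl
  map_mul' _ _ := rfl
  map_zero' := rfl
  map_add' _ _ := rfl

theorem regular_fixed_iff (m : Ideal A) [m.IsPrime] :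
    IsRegularLocalRing (Localization.AtPrime (m.comap (FixedPoints.subring A G).subtype)) ↔
      IsRegularLocalRing (Localization.AtPrime (m.comap (FixedPoints.subring A (m.inertia G)).subtype)) := by
  classical
  obtain ⟨g, hg, het⟩ := S0271.result G A m
  let C := FixedPoints.subring A (m.inertia G)
  let p' := m.comap C.subtype
  haveI : IsNoetherianRing (Localization.Away g) := Algebra.FiniteType.isNoetherianRing (FixedPoints.subring A G) _
  have hd : Disjoint (Submonoid.powers g : Set C) (p' : Set C) := by
    rw [Set.disjoint_left]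
    rintro _ ⟨n, rfl⟩ h
    exact hg (Ideal.IsPrime.mem_of_pow_mem inferInstance n h)
  let q' := p'.map (algebraMap C (Localization.Away g))
  haveI : q'.IsPrime := IsLocalization.isPrime_of_isPrime_disjoint (Submonoid.powers g) _ p' inferInstance hd
  have hq' : q'.comap (algebraMap C (Localization.Away g)) = p' :=
    IsLocalization.comap_map_of_isPrime_disjoint (Submonoid.powers g) _ inferInstance hd
  have hl := IsLocalization.isLocalization_isLocalization_atPrime_isLocalization
    (M := Submonoid.powers g) (S := Localization.Away g) (Localization.AtPrime q') q'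
  haveI : IsLocalization p'.primeCompl (Localization.AtPrime q') := by
    convert hl using 2 <;> exact hq'.symm
  let e := (IsLocalization.algEquiv p'.primeCompl (Localization.AtPrime q') (Localization.AtPrime p')).toRingEquiv
  have hp : m.comap (FixedPoints.subring A G).subtype = q'.comap (algebraMap (FixedPoints.subring A G) (Localization.Away g)) := by
    ext x
    rw [Ideal.mem_comap, Ideal.mem_comap, IsScalarTower.algebraMap_apply (FixedPoints.subring A G) C (Localization.Away g),
      ← Ideal.mem_comap (f := algebraMap C (Localization.Away g)), hq']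
    rfl
  constructor
  · intro h
    haveI := AlgSpLib.regular_atPrime_of_etale (FixedPoints.subring A G) (Localization.Away g) q' (by
      show IsRegularLocalRing (Localization.AtPrime (q'.comap (algebraMap (FixedPoints.subring A G) (Localization.Away g))))
      convert h using 3 <;> exact hp.symm)
    exact IsRegularLocalRing.of_ringEquiv e
  · intro h
    haveI : IsRegularLocalRing (Localization.AtPrime q') := IsRegularLocalRing.of_ringEquiv e.symm
    haveI : Module.Flat (FixedPoints.subring A G) (Localization.Away g) := inferInstance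
    exact CAlgH.isRegularLocalRing_atPrime_of_flat _ q' hp

theorem fixed_bot : (FixedPoints.subring A (⊥ : Subgroup G)) = ⊤ := by
  refine eq_top_iff.2 fun x _ g => ?_
  have : g = 1 := Subsingleton.elim _ _
  subst this
  exact one_smul _ x

theorem regular_of_inertia_bot (m : Ideal A) [m.IsPrime] (hI : m.inertia G = ⊥)
    (hreg : IsRegularLocalRing (Localization.AtPrime m)) :
    IsRegularLocalRing (Localization.AtPrime (m.comap (FixedPoints.subring A G).subtype)) := by
  rw [regular_fixed_iff, hI]
  let e : FixedPoints.subring A (⊥ : Subgroup G) ≃+* A :=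
    RingEquiv.ofBijective (FixedPoints.subring A (⊥ : Subgroup G)).subtype
      ⟨Subtype.val_injective, fun a => ⟨⟨a, (SetLike.ext_iff.1 fixed_bot a).2 trivial⟩, rfl⟩⟩
  exact IsRegularLocalRing.of_ringEquiv (R := Localization.AtPrime m)
    (IsLocalization.ringEquivOfRingEquiv (M := m.primeCompl)
      (T := (m.comap (FixedPoints.subring A (⊥ : Subgroup G)).subtype).primeCompl) (Localization.AtPrime m)
      (Localization.AtPrime (m.comap (FixedPoints.subring A (⊥ : Subgroup G)).subtype)) e.symm (by
      ext x
      constructor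
      · rintro ⟨a, ha, rfl⟩
        have : (e.symm a).1 = a := e.apply_symm_apply a
        show (e.symm a).1 ∉ m
        rwa [this]
      · exact fun h => ⟨x.1, h, e.symm_apply_apply x⟩))

theorem inertia_bot_of_regular (m : Ideal A) [m.IsMaximal] (hreg : IsRegularLocalRing (Localization.AtPrime m))
    (hres : ∀ a : A, ∃ c : FixedPoints.subring A G, a - c.1 ∈ m)
    (hσ : ∀ σ ∈ m.inertia G, σ ≠ 1 → ∀ t ∈ m, ∃ a : A, σ • a - a ∉ Ideal.span {t} ⊔ m * m)
    (h : IsRegularLocalRing (Localization.AtPrime (m.comap (FixedPoints.subring A G).subtype))) :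
    m.inertia G = ⊥ := by
  classical
  rw [regular_fixed_iff] at h
  set I := m.inertia G
  by_contra hI
  let C := FixedPoints.subring A I
  haveI : SMulCommClass I C A := ⟨fun g c a => by
    show g • (c.1 * a) = c.1 * g • a
    rw [smul_mul', c.2 g]⟩
  letI := (incl (A := A) I).toAlgebra
  haveI : IsScalarTower (FixedPoints.subring A G) C A := IsScalarTower.of_algebraMap_eq fun _ => rfl
  haveI : Module.Finite C A := Module.Finite.of_restrictScalars_finite (FixedPoints.subring A G) C A
  let p' := m.comap C.subtype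
  haveI := Fintype.ofFinite I
  have hmem : ∀ (τ : I) {s : A}, s ∉ m → τ • s ∉ m := fun τ s hs hts => hs (by
    have := τ.2 s
    change (τ : G) • s - s ∈ m at this
    exact (Submodule.sub_mem_iff_right m hts).1 this)
  let N : A → C := fun s => ⟨∏ τ : I, τ • s, fun g => by
    rw [Finset.smul_prod']
    exact Fintype.prod_equiv (Equiv.mulLeft g) _ _ fun τ => by simp [mul_smul]⟩
  have hN : ∀ {s : A}, s ∉ m → N s ∈ p'.primeCompl := fun hs hmem' => by
    obtain ⟨τ, -, hτ⟩ := (Ideal.IsPrime.prod_mem_iff).1 (hmem' : ∏ τ : I, τ • _ ∈ m)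
    exact hmem τ hs hτ
  have hNdvd : ∀ s : A, s ∣ (N s).1 := fun s => by
    conv_lhs => rw [← one_smul I s]
    exact Finset.dvd_prod_of_mem _ (Finset.mem_univ (1 : I))
  let L := Localization.AtPrime m
  haveI : IsLocalization (Algebra.algebraMapSubmonoid A p'.primeCompl) L := by
    refine (IsLocalization.iff_of_le_of_exists_dvd _ m.primeCompl ?_ ?_).2 inferInstance
    · rintro _ ⟨c, hc, rfl⟩; exact hc
    · exact fun s hs => ⟨(N s).1, ⟨N s, hN hs, rfl⟩, hNdvd s⟩
  -- the action on the local ring
  have hst : ∀ τ : I, m.primeCompl ≤ m.primeCompl.comap (MulSemiringAction.toRingHom I A τ) := fun τ s hs => hmem τ hs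
  let φ : I → (L →+* L) := fun τ => IsLocalization.map L (MulSemiringAction.toRingHom I A τ) (hst τ)
  have hφ : ∀ τ a, φ τ (algebraMap A L a) = algebraMap A L (τ • a) := fun τ a => IsLocalization.map_eq (hst τ) a
  letI : MulSemiringAction I L :=
    { smul := fun τ x => φ τ x
      one_smul := fun x => by
        show φ 1 x = RingHom.id L x
        congr 1
        exact IsLocalization.ringHom_ext m.primeCompl (RingHom.ext fun a => by simp [hφ])
      mul_smul := fun τ τ' x => by
        show φ (τ * τ') x = ((φ τ).comp (φ τ')) x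
        congr 1
        exact IsLocalization.ringHom_ext m.primeCompl (RingHom.ext fun a => by simp [hφ, mul_smul])
      smul_zero := fun τ => map_zero (φ τ)
      smul_add := fun τ => map_add (φ τ)
      smul_one := fun τ => map_one (φ τ)
      smul_mul := fun τ => map_mul (φ τ) }
  have hsmul : ∀ (τ : I) (a : A), τ • algebraMap A L a = algebraMap A L (τ • a) := hφ
  letI : Algebra (Localization.AtPrime p') L := localizationAlgebra p'.primeCompl A
  haveI : IsScalarTower C (Localization.AtPrime p') L := IsScalarTower.of_algebraMap_eq fun c => by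
    rw [IsScalarTower.algebraMap_apply C A L]
    exact (IsLocalization.map_eq (S := Localization.AtPrime p') (Q := L) _ c).symm
  haveI : Module.Finite (Localization.AtPrime p') L :=
    Module.Finite.of_isLocalizedModule p'.primeCompl (IsScalarTower.toAlgHom C A L).toLinearMap
  haveI : IsLocalization (p'.primeCompl.map (algebraMap C A)) L :=
    (inferInstance : IsLocalization (Algebra.algebraMapSubmonoid A p'.primeCompl) L)
  have hinj : Function.Injective (algebraMap (Localization.AtPrime p') L) :=
    IsLocalization.map_injective_of_injective _ _ _ Subtype.val_injective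
  have hinv : ∀ c : C, ∀ τ : I, τ • algebraMap C L c = algebraMap C L c := fun c τ => by
    rw [IsScalarTower.algebraMap_apply C A L, hsmul]
    exact congrArg _ (c.2 τ)
  haveI : SMulCommClass I (Localization.AtPrime p') L := ⟨fun τ r x => by
    rw [Algebra.smul_def, Algebra.smul_def]
    show φ τ _ = _ * φ τ x
    rw [map_mul]
    congr 1
    have : (φ τ).comp (algebraMap (Localization.AtPrime p') L) = algebraMap (Localization.AtPrime p') L :=
      IsLocalization.ringHom_ext p'.primeCompl (RingHom.ext fun c => by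
        rw [RingHom.comp_apply, RingHom.comp_apply, RingHom.comp_apply, ← IsScalarTower.algebraMap_apply]
        exact hinv c τ)
    exact congrArg (fun F : Localization.AtPrime p' →+* L => F r) this⟩
  haveI := CAlgH3.isDomain_of_isRegularLocalRing L
  haveI : UniqueFactorizationMonoid L := CAlgH3.ufm_of_regular L
  haveI : IsIntegrallyClosed L := CAlgH3.isIntegrallyClosed_of_regular L
  haveI : FaithfulSMul I L := ⟨fun {τ τ'} hτ => by
    by_contra hne
    obtain ⟨a, ha⟩ := hσ (τ'⁻¹ * τ).1 (τ'⁻¹ * τ).2
      (fun h1 => hne (inv_mul_eq_one.1 (Subtype.ext h1)).symm) 0 m.zero_mem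
    refine ha ?_
    have h1 : algebraMap A L ((τ'⁻¹ * τ) • a) = algebraMap A L a := by
      rw [← hsmul, mul_smul, hτ, inv_smul_smul]
    obtain ⟨⟨s, hs⟩, he⟩ := (IsLocalization.eq_iff_exists m.primeCompl L).1 h1
    obtain ⟨r, μ, hμ, h1s⟩ := Ideal.IsMaximal.exists_inv ‹m.IsMaximal› hs
    change s * ((τ'⁻¹ * τ).1 • a) = s * a at he
    have hx : (τ'⁻¹ * τ).1 • a - a = μ * ((τ'⁻¹ * τ).1 • a - a) := by
      linear_combination r * he - ((τ'⁻¹ * τ).1 • a - a) * h1s
    rw [hx]
    exact Ideal.mem_sup_right (Ideal.mul_mem_mul hμ ((τ'⁻¹ * τ).2 a))⟩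
  have htop := CommAlg4.InertiaGen.iSup_inertia_eq_top (Localization.AtPrime p') L hinj (fun x => by
    obtain ⟨y, rfl⟩ := IsLocalRing.residue_surjective x
    obtain ⟨⟨a, s⟩, hy⟩ := IsLocalization.surj m.primeCompl y
    obtain ⟨r, μ, hμ, h1s⟩ := Ideal.IsMaximal.exists_inv ‹m.IsMaximal› s.2
    obtain ⟨c, hc⟩ := hres (a * r)
    refine ⟨algebraMap C _ (incl I c), ?_⟩
    show IsLocalRing.residue L (algebraMap (Localization.AtPrime p') L (algebraMap C _ (incl I c))) = _
    rw [← IsScalarTower.algebraMap_apply, IsScalarTower.algebraMap_apply C A L, ← sub_eq_zero, ← map_sub,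
      IsLocalRing.residue_eq_zero_iff, ← Localization.AtPrime.map_eq_maximalIdeal]
    have : algebraMap A L (algebraMap C A (incl I c)) - y =
        algebraMap A L (algebraMap C A (incl I c) - a * r) - y * algebraMap A L μ := by
      rw [map_sub, map_mul, ← hy]
      have := congrArg (algebraMap A L) h1s
      rw [map_add, map_mul, map_one] at this
      linear_combination y * this
    rw [this]
    refine Ideal.sub_mem _ (Ideal.mem_map_of_mem _ ?_) (Ideal.mul_mem_left _ _ (Ideal.mem_map_of_mem _ hμ))
    show c.1 - a * r ∈ m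
    rw [← neg_sub]; exact m.neg_mem hc) I (fun x hx => by
    obtain ⟨⟨a, ⟨_, c, hc, rfl⟩⟩, he⟩ := IsLocalization.surj (Algebra.algebraMapSubmonoid A p'.primeCompl) x
    change x * algebraMap A L (algebraMap C A c) = algebraMap A L a at he
    have hfixa : ∀ τ : I, algebraMap A L (τ • a) = algebraMap A L a := fun τ => by
      rw [← hsmul, ← he, smul_mul', hx, ← IsScalarTower.algebraMap_apply, hinv]
    have hk : ∀ τ : I, ∃ s : A, s ∉ m ∧ s * (τ • a) = s * a := fun τ => by
      obtain ⟨⟨s, hs⟩, he⟩ := (IsLocalization.eq_iff_exists m.primeCompl L).1 (hfixa τ)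
      exact ⟨s, hs, he⟩
    choose s hs hsa using hk
    let S : C := ∏ τ : I, N (s τ)
    have hS : S ∈ p'.primeCompl := Submonoid.prod_mem _ fun τ _ => hN (hs τ)
    have hSa : ∀ τ : I, τ • (S.1 * a) = S.1 * a := fun τ => by
      rw [smul_mul', S.2 τ]
      obtain ⟨w, hw⟩ : s τ ∣ S.1 := (hNdvd (s τ)).trans (map_dvd C.subtype
        (Finset.dvd_prod_of_mem (fun τ => N (s τ)) (Finset.mem_univ τ)))
      rw [hw]
      linear_combination w * hsa τ
    refine ⟨IsLocalization.mk' _ (⟨S.1 * a, hSa⟩ : C) ⟨S * c, p'.primeCompl.mul_mem hS hc⟩, ?_⟩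
    have h1 := congrArg (algebraMap (Localization.AtPrime p') L) (IsLocalization.mk'_spec
      (Localization.AtPrime p') (⟨S.1 * a, hSa⟩ : C) ⟨S * c, p'.primeCompl.mul_mem hS hc⟩)
    rw [map_mul, ← IsScalarTower.algebraMap_apply, ← IsScalarTower.algebraMap_apply,
      IsScalarTower.algebraMap_apply C A L, IsScalarTower.algebraMap_apply C A L] at h1
    have hu : IsUnit (algebraMap A L (algebraMap C A (S * c))) :=
      IsLocalization.map_units L (⟨_, S * c, p'.primeCompl.mul_mem hS hc, rfl⟩ : Algebra.algebraMapSubmonoid A p'.primeCompl)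
    refine hu.mul_left_inj.1 (h1.trans ?_)
    show algebraMap A L (S.1 * a) = x * algebraMap A L (S.1 * algebraMap C A c)
    rw [map_mul, map_mul, ← he]
    ring)
  obtain ⟨σ, hσI, hσ1⟩ : ∃ σ, σ ∈ I ∧ σ ≠ 1 := by
    by_contra hcon
    push Not at hcon
    exact hI ((Subgroup.eq_bot_iff_forall _).2 hcon)
  have hle : (⨆ P : {P : Ideal L // P.IsPrime ∧ P.height = 1}, P.1.inertia I) ≤ ⊥ := iSup_le fun ⟨P, hP, hP1⟩ => by
    intro τ hτ
    rw [Subgroup.mem_bot]
    by_contra hne
    have hPne : P ≠ ⊥ := fun h0 => by
      subst h0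
      simp at hP1
    obtain ⟨π, hπP, hπ⟩ := hP.exists_mem_prime_of_ne_bot hPne
    haveI : (Ideal.span {π}).IsPrime := (Ideal.span_singleton_prime hπ.ne_zero).2 hπ
    have heq : Ideal.span {π} = P := by
      refine le_antisymm ((Ideal.span_singleton_le_iff_mem _).2 hπP) ?_
      by_contra hlt
      haveI := hP
      have hlt' : Ideal.span {π} < P := lt_of_le_of_ne ((Ideal.span_singleton_le_iff_mem _).2 hπP) fun e => hlt e.ge
      have := Ideal.height_strict_mono_of_isPrime hlt'
      rw [hP1, Order.lt_one_iff, Ideal.height_eq_zero_iff, IsDomain.minimalPrimes_eq_singleton_bot] at this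
      exact hπ.ne_zero (Ideal.span_singleton_eq_bot.1 this)
    obtain ⟨⟨t, s⟩, ht⟩ := IsLocalization.surj m.primeCompl π
    have htm : t ∈ m := by
      rw [← IsLocalization.AtPrime.to_map_mem_maximal_iff L m, ← ht]
      exact Ideal.mul_mem_right _ _ ((IsLocalRing.mem_maximalIdeal π).2 hπ.not_unit)
    obtain ⟨a, ha⟩ := hσ τ.1 τ.2 (fun h1 => hne (Subtype.ext h1)) t htm
    refine ha ?_
    have h1 : algebraMap A L (τ • a) - algebraMap A L a ∈ Ideal.span {π} := by
      rw [heq, ← hsmul]; exact hτ _
    rw [Ideal.mem_span_singleton] at h1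
    have h2 : algebraMap A L t ∣ algebraMap A L (τ • a) - algebraMap A L a := by
      rw [← ht]
      exact (IsLocalization.map_units L s).mul_right_dvd.2 h1
    obtain ⟨w, hw⟩ := h2
    obtain ⟨⟨w₀, s₀⟩, hw₀⟩ := IsLocalization.surj m.primeCompl w
    rw [← map_sub] at hw
    have h3 : algebraMap A L ((τ • a - a) * s₀) = algebraMap A L (t * w₀) := by
      rw [map_mul, map_mul, hw, ← hw₀]; ring
    obtain ⟨⟨s₁, hs₁⟩, he⟩ := (IsLocalization.eq_iff_exists m.primeCompl L).1 h3
    obtain ⟨r, μ, hμ, hr⟩ := Ideal.IsMaximal.exists_inv ‹m.IsMaximal› (m.primeCompl.mul_mem hs₁ s₀.2)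
    change s₁ * ((τ.1 • a - a) * s₀) = s₁ * (t * w₀) at he
    have hx : τ.1 • a - a = r * s₁ * w₀ * t + μ * (τ.1 • a - a) := by
      linear_combination r * he - (τ.1 • a - a) * hr
    rw [hx]
    exact add_mem (Ideal.mem_sup_left (Ideal.mem_span_singleton'.2 ⟨_, rfl⟩))
      (Ideal.mem_sup_right (Ideal.mul_mem_mul hμ (τ.2 a)))
  rw [htop] at hle
  exact hσ1 (congrArg Subtype.val (Subgroup.mem_bot.1 (hle (Subgroup.mem_top (⟨σ, hσI⟩ : I)))))

end Groth.Agent.AGFQuot23.SymRegular
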