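import Groth.Agent.CommAlg4.SymTensor

/-! Symmetric tensors of flat modules commute with tensor products. -/

universe u

set_option autoImplicit false
set_option linter.all false
set_option maxHeartbeats 1000000

open scoped TensorProduct
open PiTensorProduct
open Groth.Agent.CommAlg4

noncomputable section

namespace Groth.Agent.AGFQuot23.SymTensorBC

variable (R : Type u) [CommRing R] (n : ℕ)

/-- The symmetric tensors. -/
abbrev Sy (M : Type u) [AddCommGroup M] [Module R M] : Submodule R (⨂[R] _ : Fin n, M) :=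
  ⨅ σ : Equiv.Perm (Fin n), LinearMap.eqLocus (reindex R (fun _ : Fin n => M) σ).toLinearMap LinearMap.id

variable {R n}

theorem mem_Sy {M : Type u} [AddCommGroup M] [Module R M] {t : ⨂[R] _ : Fin n, M} :
    t ∈ Sy R n M ↔ ∀ σ : Equiv.Perm (Fin n), reindex R (fun _ : Fin n => M) σ t = t := by
  simp [Sy, Submodule.mem_iInf]

/-- In the free case the symmetric tensors are a direct summand in a way compatible with tensor products. -/
theorem free_case (m : ℕ) :
    ∃ P : (⨂[R] _ : Fin n, (Fin m → R)) →ₗ[R] Sy R n (Fin m → R),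
      (∀ t : Sy R n (Fin m → R), P t = t) ∧
      ∀ (N : Type u) [AddCommGroup N] [Module R N] (z : N ⊗[R] (⨂[R] _ : Fin n, (Fin m → R))),
        (∀ σ : Equiv.Perm (Fin n), (reindex R (fun _ : Fin n => (Fin m → R)) σ).toLinearMap.lTensor N z = z) →
        (Sy R n (Fin m → R)).subtype.lTensor N (P.lTensor N z) = z := by
  classical
  set b := Basis.piTensorProduct fun _ : Fin n => Pi.basisFun R (Fin m) with hb
  set rel : Setoid (Fin n → Fin m) :=
    { r := fun g g' => ∃ σ : Equiv.Perm (Fin n), g' = g ∘ σ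
      iseqv := ⟨fun g => ⟨1, rfl⟩, fun {g g'} ⟨σ, h⟩ => ⟨σ.symm, by subst h; ext; simp⟩,
        fun {g g' g''} ⟨σ, h⟩ ⟨τ, h'⟩ => ⟨τ.trans σ, by subst h; subst h'; ext; simp⟩⟩ }
  let rep : (Fin n → Fin m) → (Fin n → Fin m) := fun g => (Quotient.mk rel g).out
  have hrep : ∀ g, ∃ σ : Equiv.Perm (Fin n), rep g = g ∘ σ := fun g =>
    Setoid.symm' rel (Quotient.exact (Quotient.out_eq (Quotient.mk rel g)))
  choose sg hsg using hrep
  have hinv : ∀ (g : Fin n → Fin m) (σ : Equiv.Perm (Fin n)), rep (g ∘ σ) = rep g := fun g σ =>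
    congrArg Quotient.out (Quotient.sound (⟨σ, rfl⟩ : rel g (g ∘ σ))).symm
  let P0 : (⨂[R] _ : Fin n, (Fin m → R)) →ₗ[R] ⨂[R] _ : Fin n, (Fin m → R) :=
    b.equivFun.symm.toLinearMap ∘ₗ LinearMap.funLeft R R rep ∘ₗ b.equivFun.toLinearMap
  have hP0 : ∀ t g, b.repr (P0 t) g = b.repr t (rep g) := fun t g => by
    rw [← Module.Basis.equivFun_apply]
    show b.equivFun (b.equivFun.symm _) g = _
    rw [LinearEquiv.apply_symm_apply]
    rfl
  have hmem : ∀ t, P0 t ∈ Sy R n (Fin m → R) := fun t => mem_Sy.2 fun σ => by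
    apply b.repr.injective
    ext g
    rw [repr_reindex, hP0, hP0, hinv]
  refine ⟨P0.codRestrict _ hmem, fun t => Subtype.ext ?_, fun N _ _ z hz => ?_⟩
  · show P0 t.1 = t.1
    apply b.repr.injective
    ext g
    rw [hP0, hsg, ← repr_reindex, mem_Sy.1 t.2]
  let δ : (Fin n → Fin m) → ((⨂[R] _ : Fin n, (Fin m → R)) →ₗ[R] ⨂[R] _ : Fin n, (Fin m → R)) := fun g =>
    (LinearMap.toSpanSingleton R _ (b g)) ∘ₗ b.coord g ∘ₗ
      ((reindex R (fun _ : Fin n => (Fin m → R)) (sg g)).toLinearMap - LinearMap.id)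
  have hid : P0 = LinearMap.id + ∑ g, δ g := LinearMap.ext fun t => by
    apply b.repr.injective
    ext g
    rw [hP0, LinearMap.add_apply, LinearMap.id_apply, map_add, Finsupp.add_apply, LinearMap.sum_apply, map_sum,
      Finsupp.finsetSum_apply, Finset.sum_eq_single g]
    · show _ = _ + b.repr (b.coord g (reindex R (fun _ : Fin n => (Fin m → R)) (sg g) t - t) • b g) g
      rw [map_smul, Finsupp.smul_apply, Module.Basis.repr_self, Finsupp.single_eq_same, smul_eq_mul, mul_one,
        Module.Basis.coord_apply, map_sub, Finsupp.sub_apply, repr_reindex, hsg]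
      ring
    · intro g' _ hg'
      show b.repr (b.coord g' _ • b g') g = 0
      rw [map_smul, Finsupp.smul_apply, Module.Basis.repr_self, Finsupp.single_eq_of_ne (Ne.symm hg'), smul_zero]
    · simp
  rw [← LinearMap.comp_apply, ← LinearMap.lTensor_comp, LinearMap.subtype_comp_codRestrict, hid,
    LinearMap.lTensor_add, LinearMap.add_apply, LinearMap.lTensor_id, LinearMap.id_apply, add_eq_left]
  have : ∀ g, (δ g).lTensor N z = 0 := fun g => by
    simp only [δ, LinearMap.lTensor_comp, LinearMap.comp_apply, LinearMap.lTensor_sub, LinearMap.sub_apply,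
      LinearMap.lTensor_id, LinearMap.id_apply, hz, sub_self, map_zero]
  rw [show (∑ g, δ g).lTensor N = ∑ g, (δ g).lTensor N from map_sum (LinearMap.lTensorHom N) _ _,
    LinearMap.sum_apply]
  exact Finset.sum_eq_zero fun g _ => this g

variable {M : Type u} [AddCommGroup M] [Module R M] [Module.Flat R M] {N : Type u} [AddCommGroup N] [Module R N]

theorem lTensor_tmap_comp {A B C : Type u} [AddCommGroup A] [Module R A] [AddCommGroup B] [Module R B]
    [AddCommGroup C] [Module R C] (g : B →ₗ[R] C) (f : A →ₗ[R] B) (w : N ⊗[R] (⨂[R] _ : Fin n, A)) :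
    (tmap R n (g ∘ₗ f)).lTensor N w = (tmap R n g).lTensor N ((tmap R n f).lTensor N w) := by
  rw [← LinearMap.comp_apply, ← LinearMap.lTensor_comp]
  congr 2
  exact LinearMap.ext fun x => tmap_comp R n g f x

/-- An element killed in the tensor power of `M` dies at a finite free stage. -/
theorem exists_kill_tensor {ι : Type*} [Finite ι] {m : ℕ} (φ : (Fin m → R) →ₗ[R] M)
    (w : ι → N ⊗[R] (⨂[R] _ : Fin n, (Fin m → R))) (hw : ∀ i, (tmap R n φ).lTensor N (w i) = 0) :
    ∃ (k : ℕ) (u : (Fin m → R) →ₗ[R] (Fin k → R)) (ψ : (Fin k → R) →ₗ[R] M),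
      ψ ∘ₗ u = φ ∧ ∀ i, (tmap R n u).lTensor N (w i) = 0 := by
  classical
  haveI := flat_tensorPower R M n
  have one : ∀ (m : ℕ) (φ : (Fin m → R) →ₗ[R] M) (w : N ⊗[R] (⨂[R] _ : Fin n, (Fin m → R))),
      (tmap R n φ).lTensor N w = 0 → ∃ (k : ℕ) (u : (Fin m → R) →ₗ[R] (Fin k → R)) (ψ : (Fin k → R) →ₗ[R] M),
        ψ ∘ₗ u = φ ∧ (tmap R n u).lTensor N w = 0 := by
    intro m φ w hw
    set b := Basis.piTensorProduct fun _ : Fin n => Pi.basisFun R (Fin m) with hb
    obtain ⟨r, hr⟩ : ∃ r : (Fin n → Fin m) → N, w = ∑ g, r g ⊗ₜ[R] b g := by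
      refine ⟨fun g => TensorProduct.rid R N ((b.coord g).lTensor N w), ?_⟩
      clear hw
      induction w using TensorProduct.induction_on with
      | zero => simp
      | tmul x t =>
        simp only [LinearMap.lTensor_tmul, TensorProduct.rid_tmul, Module.Basis.coord_apply, TensorProduct.smul_tmul,
          ← TensorProduct.tmul_sum, b.sum_repr]
      | add x y hx hy =>
        simp only [map_add, TensorProduct.add_tmul, Finset.sum_add_distrib]
        rw [← hx, ← hy]
    have h0 : ∑ g, r g ⊗ₜ[R] tmap R n φ (b g) = 0 := by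
      rw [← hw, hr, map_sum]
      rfl
    let N₀ := Submodule.span R (Set.range r)
    let r₀ : (Fin n → Fin m) → N₀ := fun g => ⟨r g, Submodule.subset_span ⟨g, rfl⟩⟩
    have h1 : ∑ g, r₀ g ⊗ₜ[R] tmap R n φ (b g) = 0 := by
      apply Module.Flat.rTensor_preserves_injective_linearMap (M := ⨂[R] _ : Fin n, M) N₀.subtype Subtype.val_injective
      rw [map_sum, map_zero, ← h0]
      rfl
    have hgen : Submodule.span R (Set.range r₀) = ⊤ := by
      apply Submodule.map_injective_of_injective N₀.injective_subtype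
      rw [Submodule.map_span, Submodule.map_top, Submodule.range_subtype, ← Set.range_comp]
      rfl
    obtain ⟨κ, a, y, hy, ha⟩ := TensorProduct.vanishesTrivially_of_sum_tmul_eq_zero R hgen h1
    obtain ⟨m₂, φ₂, y', hy'⟩ := exists_lift R n y
    let e := Fin.appendEquiv (α := R) m m₂
    let E : ((Fin m → R) × (Fin m₂ → R)) ≃ₗ[R] (Fin (m + m₂) → R) :=
      { Fin.appendEquiv (α := R) m m₂ with
        map_add' := fun x y => by
          funext i
          induction i using Fin.addCases <;> simp [Fin.appendEquiv]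
        map_smul' := fun c x => by
          funext i
          induction i using Fin.addCases <;> simp [Fin.appendEquiv] }
    let φ₃ : (Fin (m + m₂) → R) →ₗ[R] M := (φ.coprod φ₂) ∘ₗ E.symm.toLinearMap
    let i₁ : (Fin m → R) →ₗ[R] (Fin (m + m₂) → R) := E.toLinearMap ∘ₗ LinearMap.inl R _ _
    let i₂ : (Fin m₂ → R) →ₗ[R] (Fin (m + m₂) → R) := E.toLinearMap ∘ₗ LinearMap.inr R _ _
    have hi₁ : φ₃ ∘ₗ i₁ = φ := LinearMap.ext fun x => by simp [φ₃, i₁]
    have hi₂ : φ₃ ∘ₗ i₂ = φ₂ := LinearMap.ext fun x => by simp [φ₃, i₂]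
    let z : (Fin n → Fin m) → ⨂[R] _ : Fin n, (Fin (m + m₂) → R) := fun g =>
      tmap R n i₁ (b g) - ∑ j, a g j • tmap R n i₂ (y' j)
    obtain ⟨k, u, ψ, hψ, hu⟩ := exists_kill_finset R (exists_kill R n) Finset.univ φ₃ z (fun g _ => by
      rw [map_sub, map_sum, ← tmap_comp, hi₁]
      simp only [map_smul, ← tmap_comp, hi₂, hy']
      exact sub_eq_zero.2 (hy g))
    refine ⟨k, u ∘ₗ i₁, ψ, by rw [← LinearMap.comp_assoc, hψ, hi₁], ?_⟩
    have hz : ∀ g, tmap R n (u ∘ₗ i₁) (b g) = ∑ j, a g j • tmap R n u (tmap R n i₂ (y' j)) := fun g => by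
      have := hu g (Finset.mem_univ _)
      simp only [z, map_sub, map_sum, map_smul, sub_eq_zero] at this
      rw [tmap_comp, this]
    rw [hr, map_sum]
    simp only [LinearMap.lTensor_tmul, hz, TensorProduct.tmul_sum, TensorProduct.tmul_smul, ← TensorProduct.smul_tmul]
    rw [Finset.sum_comm]
    refine Finset.sum_eq_zero fun j _ => ?_
    simp only [TensorProduct.smul_tmul', ← TensorProduct.sum_tmul]
    have := congrArg Subtype.val (ha j)
    simp only [r₀, Submodule.coe_sum, Submodule.coe_smul, ZeroMemClass.coe_zero] at this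
    rw [this, TensorProduct.zero_tmul]
  cases nonempty_fintype ι
  have : ∀ s : Finset ι, ∃ (k : ℕ) (u : (Fin m → R) →ₗ[R] (Fin k → R)) (ψ : (Fin k → R) →ₗ[R] M),
      ψ ∘ₗ u = φ ∧ ∀ i ∈ s, (tmap R n u).lTensor N (w i) = 0 := by
    intro s
    induction s using Finset.induction_on with
    | empty => exact ⟨m, LinearMap.id, φ, rfl, by simp⟩
    | @insert i s _ ih =>
      obtain ⟨k, u, ψ, hψ, hu⟩ := ih
      obtain ⟨k', u', ψ', hψ', hu'⟩ := one k ψ ((tmap R n u).lTensor N (w i))
        (by rw [← lTensor_tmap_comp, hψ]; exact hw i)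
      refine ⟨k', u' ∘ₗ u, ψ', by rw [← LinearMap.comp_assoc, hψ', hψ], fun i' hi' => ?_⟩
      rw [lTensor_tmap_comp]
      rcases Finset.mem_insert.1 hi' with rfl | hi'
      · exact hu'
      · rw [hu i' hi', map_zero]
  obtain ⟨k, u, ψ, hψ, hu⟩ := this Finset.univ
  exact ⟨k, u, ψ, hψ, fun i => hu i (Finset.mem_univ i)⟩

/-- The map of symmetric tensors. -/
def symMap {A B : Type u} [AddCommGroup A] [Module R A] [AddCommGroup B] [Module R B] (f : A →ₗ[R] B) :
    Sy R n A →ₗ[R] Sy R n B :=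
  ((tmap R n f) ∘ₗ (Sy R n A).subtype).codRestrict _ fun t => mem_Sy.2 fun σ => by
    show reindex R (fun _ : Fin n => B) σ (tmap R n f t.1) = tmap R n f t.1
    rw [← tmap_reindex, mem_Sy.1 t.2]

theorem symMap_natural {A B : Type u} [AddCommGroup A] [Module R A] [AddCommGroup B] [Module R B] (f : A →ₗ[R] B)
    (z : N ⊗[R] Sy R n A) :
    (Sy R n B).subtype.lTensor N ((symMap f).lTensor N z) = (tmap R n f).lTensor N ((Sy R n A).subtype.lTensor N z) := by
  rw [← LinearMap.comp_apply, ← LinearMap.lTensor_comp, ← LinearMap.comp_apply, ← LinearMap.lTensor_comp]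
  rfl

/-- Symmetric tensors of a flat module stay exactly the invariants after tensoring. -/
theorem injective_and_invariants :
    Function.Injective ((Sy R n M).subtype.lTensor N) ∧
      ∀ z : N ⊗[R] (⨂[R] _ : Fin n, M),
        (∀ σ : Equiv.Perm (Fin n), (reindex R (fun _ : Fin n => M) σ).toLinearMap.lTensor N z = z) →
        ∃ w, (Sy R n M).subtype.lTensor N w = z := by
  classical
  refine ⟨(injective_iff_map_eq_zero _).2 fun z hz => ?_, fun z hz => ?_⟩
  · obtain ⟨S, rfl⟩ := TensorProduct.exists_finset z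
    obtain ⟨k, ψ, s, hs, hst, -⟩ := exists_symm_lift R n (ι := ↥S) (fun _ => (0 : R)) (fun i => (i.1.2 : ⨂[R] _ : Fin n, M))
      (fun σ i => mem_Sy.1 i.1.2.2 σ) (by simp)
    let s' : ↥S → Sy R n (Fin k → R) := fun i => ⟨s i, mem_Sy.2 fun σ => hs σ i⟩
    let w := ∑ i : ↥S, i.1.1 ⊗ₜ[R] s' i
    have hw : (symMap ψ).lTensor N w = ∑ i ∈ S, i.1 ⊗ₜ[R] i.2 := by
      rw [← Finset.sum_attach S, map_sum]
      exact Finset.sum_congr rfl fun i _ => by
        rw [LinearMap.lTensor_tmul]
        congr 1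
        exact Subtype.ext (hst i)
    obtain ⟨k', u, ψ', hψ', hu⟩ := exists_kill_tensor (ι := Unit) ψ
      (fun _ => (Sy R n (Fin k → R)).subtype.lTensor N w) (fun _ => by rw [← symMap_natural, hw, hz])
    obtain ⟨P, hP, -⟩ := free_case (R := R) (n := n) k'
    have h0 : (symMap u).lTensor N w = 0 := by
      have h1 := congrArg (P.lTensor N) (symMap_natural (N := N) u w)
      rw [hu (), map_zero, ← LinearMap.comp_apply, ← LinearMap.lTensor_comp,
        show P ∘ₗ (Sy R n (Fin k' → R)).subtype = LinearMap.id from LinearMap.ext hP, LinearMap.lTensor_id] at h1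
      exact h1
    rw [← hw, show symMap ψ = symMap ψ' ∘ₗ symMap (n := n) u from LinearMap.ext fun t => Subtype.ext (by
      show tmap R n ψ t.1 = tmap R n ψ' (tmap R n u t.1)
      rw [← tmap_comp, hψ']), LinearMap.lTensor_comp, LinearMap.comp_apply, h0, map_zero]
  · obtain ⟨S, rfl⟩ := TensorProduct.exists_finset z
    obtain ⟨m, φ, s, hs⟩ := exists_lift R n (ι := ↥S) (fun i => i.1.2)
    let w := ∑ i : ↥S, i.1.1 ⊗ₜ[R] s i
    have hw : (tmap R n φ).lTensor N w = ∑ i ∈ S, i.1 ⊗ₜ[R] i.2 := by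
      rw [← Finset.sum_attach S, map_sum]
      exact Finset.sum_congr rfl fun i _ => by rw [LinearMap.lTensor_tmul, hs]
    have hcomm : ∀ {A B : Type u} [AddCommGroup A] [Module R A] [AddCommGroup B] [Module R B] (f : A →ₗ[R] B)
        (σ : Equiv.Perm (Fin n)) (x : N ⊗[R] (⨂[R] _ : Fin n, A)),
        (tmap R n f).lTensor N ((reindex R (fun _ : Fin n => A) σ).toLinearMap.lTensor N x) =
          (reindex R (fun _ : Fin n => B) σ).toLinearMap.lTensor N ((tmap R n f).lTensor N x) := by
      intro A B _ _ _ _ f σ x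
      rw [← LinearMap.comp_apply, ← LinearMap.lTensor_comp, ← LinearMap.comp_apply, ← LinearMap.lTensor_comp]
      congr 2
      exact LinearMap.ext fun t => tmap_reindex R n f σ t
    obtain ⟨k, u, ψ, hψ, hu⟩ := exists_kill_tensor φ
      (fun σ : Equiv.Perm (Fin n) => (reindex R (fun _ : Fin n => (Fin m → R)) σ).toLinearMap.lTensor N w - w)
      (fun σ => by rw [map_sub, hcomm, hw, hz σ, sub_self])
    obtain ⟨P, -, hP⟩ := free_case (R := R) (n := n) k
    have hfix := hP N ((tmap R n u).lTensor N w) fun σ => by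
      rw [← hcomm, ← sub_eq_zero, ← map_sub]
      exact hu σ
    refine ⟨(symMap ψ).lTensor N (P.lTensor N ((tmap R n u).lTensor N w)), ?_⟩
    rw [symMap_natural, hfix, ← lTensor_tmap_comp, hψ, hw]

end Groth.Agent.AGFQuot23.SymTensorBC
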