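import Groth.Agent.AGFQuot23.SymChart
import Mathlib.AlgebraicGeometry.ResidueField

/-! Values and lifts of invariant sections on fibre powers along a map of fibre powers. -/

universe u

set_option autoImplicit false
set_option linter.style.haveILetI false
set_option backward.isDefEq.respectTransparency false
set_option backward.isDefEq.respectTransparency.types false
set_option maxHeartbeats 1600000

open CategoryTheory CategoryTheory.Limits AlgebraicGeometry TopologicalSpace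
open scoped TensorProduct Pointwise

noncomputable section

namespace Groth.Agent.AGFQuot23.SymValue

theorem evaluation_res {Z : Scheme.{u}} {O O' : Z.Opens} (h : O' ≤ O) (x : Z) (hx : x ∈ O') (s : Γ(Z, O)) :
    Z.evaluation O' x hx (Z.presheaf.map (homOfLE h).op s) = Z.evaluation O x (h hx) s := by
  show Z.residue x (Z.presheaf.germ O' x hx (Z.presheaf.map (homOfLE h).op s)) = Z.residue x (Z.presheaf.germ O x (h hx) s)
  rw [TopCat.Presheaf.germ_res_apply]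

theorem evaluation_appLE {A B : Scheme.{u}} (c : A ⟶ B) {O : B.Opens} {O' : A.Opens} (e : O' ≤ c ⁻¹ᵁ O) (x : A)
    (hx : x ∈ O') (s : Γ(B, O)) :
    A.evaluation O' x hx (c.appLE O O' e s) = c.residueFieldMap x (B.evaluation O (c x) (e hx) s) := by
  rw [Scheme.evaluation_naturality_apply]
  exact evaluation_res e x hx (c.app O s)

variable {X S Y X' S' : Scheme.{u}} {f : X ⟶ S} {n : ℕ} {f' : X' ⟶ S'} {i0 : X' ⟶ X} {b : S' ⟶ S}
  (c : SymProd.fibPow f' n ⟶ SymProd.fibPow f n)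
  (hcπ : ∀ i : Fin n, c ≫ WidePullback.π (fun _ => f) i = WidePullback.π (fun _ => f') i ≫ i0)
  (hcb : c ≫ WidePullback.base (fun _ => f) = WidePullback.base (fun _ => f') ≫ b)

include hcπ hcb in
theorem permHom_comp (σ : Equiv.Perm (Fin n)) :
    SymProd.permHom f' n σ ≫ c = c ≫ SymProd.permHom f n σ := by
  apply WidePullback.hom_ext
  · intro i
    rw [Category.assoc, hcπ, SymProd.permHom_π_assoc, Category.assoc, SymProd.permHom_π, hcπ]
  · rw [Category.assoc, hcb, SymProd.permHom_base_assoc, Category.assoc, SymProd.permHom_base, hcb]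

include hcπ hcb in
theorem le_preimage_perm (σ : Equiv.Perm (Fin n)) {T : (SymProd.fibPow f n).Opens} {V' : S'.Opens}
    (hT : T ≤ SymProd.permHom f n σ ⁻¹ᵁ T) :
    c ⁻¹ᵁ T ⊓ (WidePullback.base fun _ : Fin n => f') ⁻¹ᵁ V' ≤
      SymProd.permHom f' n σ ⁻¹ᵁ (c ⁻¹ᵁ T ⊓ (WidePullback.base fun _ : Fin n => f') ⁻¹ᵁ V') := by
  intro w ⟨h1, h2⟩
  refine ⟨?_, ?_⟩
  · show c (SymProd.permHom f' n σ w) ∈ T
    rw [← Scheme.Hom.comp_apply, permHom_comp c hcπ hcb, Scheme.Hom.comp_apply]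
    exact hT h1
  · show (WidePullback.base fun _ : Fin n => f') (SymProd.permHom f' n σ w) ∈ V'
    rw [← Scheme.Hom.comp_apply, SymProd.permHom_base]
    exact h2

include hcπ hcb in
theorem appLE_perm (σ : Equiv.Perm (Fin n)) {O : (SymProd.fibPow f n).Opens} {O' : (SymProd.fibPow f' n).Opens}
    (e : O' ≤ c ⁻¹ᵁ O) (e₁ : O ≤ SymProd.permHom f n σ ⁻¹ᵁ O) (e₂ : O' ≤ SymProd.permHom f' n σ ⁻¹ᵁ O')
    (s : Γ(SymProd.fibPow f n, O)) :
    (SymProd.permHom f' n σ).appLE O' O' e₂ (c.appLE O O' e s) =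
      c.appLE O O' e ((SymProd.permHom f n σ).appLE O O e₁ s) := by
  show (c.appLE O O' e ≫ (SymProd.permHom f' n σ).appLE O' O' e₂) s =
    ((SymProd.permHom f n σ).appLE O O e₁ ≫ c.appLE O O' e) s
  rw [Scheme.Hom.appLE_comp_appLE, Scheme.Hom.appLE_comp_appLE, SGA1Quot.appLE_congr _ _ _ _ (permHom_comp c hcπ hcb σ)]

theorem res_inv {Z : Scheme.{u}} (g : Z ⟶ Z) {O O' : Z.Opens} (h : O' ≤ O) (e₁ : O ≤ g ⁻¹ᵁ O) (e₂ : O' ≤ g ⁻¹ᵁ O')
    (s : Γ(Z, O)) (hs : g.appLE O O e₁ s = s) :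
    g.appLE O' O' e₂ (Z.presheaf.map (homOfLE h).op s) = Z.presheaf.map (homOfLE h).op s := by
  show (Z.presheaf.map (homOfLE h).op ≫ g.appLE O' O' e₂) s = _
  rw [Scheme.Hom.map_appLE, ← Scheme.Hom.appLE_map _ e₁ (homOfLE h).op]
  exact congrArg (Z.presheaf.map (homOfLE h).op).hom hs

include hcπ hcb in
/-- The chart upstairs. -/
theorem chart_upstairs {κ : Type u} [Fintype κ] [DecidableEq κ] (α : Fin n → κ) {V : S.Opens} {V' : S'.Opens}
    (hV' : IsAffineOpen V') (eV : V' ≤ b ⁻¹ᵁ V) {U : κ → X.Opens}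
    (hU' : ∀ a, IsAffineOpen (i0 ⁻¹ᵁ U a ⊓ f' ⁻¹ᵁ V'))
    (T : (SymProd.fibPow f n).Opens)
    (hT : ∀ z, z ∈ T ↔ (WidePullback.base fun _ : Fin n => f) z ∈ V ∧
      ∀ i, (WidePullback.π (fun _ : Fin n => f) i) z ∈ U (α i)) :
    (∀ z, z ∈ c ⁻¹ᵁ T ⊓ (WidePullback.base fun _ : Fin n => f') ⁻¹ᵁ V' ↔
      (WidePullback.base fun _ : Fin n => f') z ∈ V' ∧
        ∀ i, (WidePullback.π (fun _ : Fin n => f') i) z ∈ i0 ⁻¹ᵁ U (α i) ⊓ f' ⁻¹ᵁ V') ∧
      IsAffineOpen (c ⁻¹ᵁ T ⊓ (WidePullback.base fun _ : Fin n => f') ⁻¹ᵁ V') := by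
  have h1 : ∀ z, z ∈ c ⁻¹ᵁ T ⊓ (WidePullback.base fun _ : Fin n => f') ⁻¹ᵁ V' ↔
      (WidePullback.base fun _ : Fin n => f') z ∈ V' ∧
        ∀ i, (WidePullback.π (fun _ : Fin n => f') i) z ∈ i0 ⁻¹ᵁ U (α i) ⊓ f' ⁻¹ᵁ V' := fun z => by
    show c z ∈ T ∧ (WidePullback.base fun _ : Fin n => f') z ∈ V' ↔ _
    rw [hT]
    refine ⟨fun ⟨⟨_, h2⟩, h3⟩ => ⟨h3, fun i => ⟨?_, ?_⟩⟩, fun ⟨h3, h2⟩ => ⟨⟨?_, fun i => ?_⟩, h3⟩⟩
    · show i0 ((WidePullback.π (fun _ : Fin n => f') i) z) ∈ U (α i)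
      rw [← Scheme.Hom.comp_apply, ← hcπ, Scheme.Hom.comp_apply]
      exact h2 i
    · show f' ((WidePullback.π (fun _ : Fin n => f') i) z) ∈ V'
      rw [← Scheme.Hom.comp_apply, WidePullback.π_arrow]
      exact h3
    · rw [← Scheme.Hom.comp_apply, hcb, Scheme.Hom.comp_apply]
      exact eV h3
    · rw [← Scheme.Hom.comp_apply, hcπ, Scheme.Hom.comp_apply]
      exact (h2 i).1
  exact ⟨h1, (SymComponent.exists_component_model f' α hV' hU' (fun _ => inf_le_right) _ h1 inf_le_right).1⟩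

variable [IsSeparated f] {q : SymProd.fibPow f n ⟶ Y} (hq : SGA1.IsQuot (SymProd.permActU f n) q)
  {V : S.Opens} (hV : IsAffineOpen V) {V' : S'.Opens} (hV' : IsAffineOpen V') (eV : V' ≤ b ⁻¹ᵁ V)
  {W : Y.Opens} (hW : IsAffineOpen W) (hb : q ⁻¹ᵁ W ≤ (WidePullback.base fun _ : Fin n => f) ⁻¹ᵁ V)
  (hi0 : i0 ≫ f = f' ≫ b)
  (hU' : ∀ U : X.Opens, IsAffineOpen U → U ≤ f ⁻¹ᵁ V → IsAffineOpen (i0 ⁻¹ᵁ U ⊓ f' ⁻¹ᵁ V') ∧
    (letI := (f'.appLE V' (i0 ⁻¹ᵁ U ⊓ f' ⁻¹ᵁ V') inf_le_right).hom.toAlgebra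
     Submodule.span Γ(S', V') (Set.range (i0.appLE U (i0 ⁻¹ᵁ U ⊓ f' ⁻¹ᵁ V') inf_le_left).hom) = ⊤))

include hcπ hcb hV hV' eV hW hb hi0 hU' in
/-- The value of an invariant section at a point lies in the field generated by the values of invariants downstairs
and the residue field of the base point. -/
theorem value_mem (x : SymProd.fibPow f' n)
    (hx : x ∈ c ⁻¹ᵁ (q ⁻¹ᵁ W) ⊓ (WidePullback.base fun _ : Fin n => f') ⁻¹ᵁ V')
    (F : Subfield ((SymProd.fibPow f' n).residueField x))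
    (hFb : ∀ s : Γ(SymProd.fibPow f n, q ⁻¹ᵁ W),
      (letI := SGA1Quot.action hq W; ∀ σ : ULift.{u} (Equiv.Perm (Fin n)), σ • s = s) →
      c.residueFieldMap x ((SymProd.fibPow f n).evaluation (q ⁻¹ᵁ W) (c x) hx.1 s) ∈ F)
    (hFk : ∀ r, (WidePullback.base fun _ : Fin n => f').residueFieldMap x r ∈ F)
    (z : Γ(SymProd.fibPow f' n, c ⁻¹ᵁ (q ⁻¹ᵁ W) ⊓ (WidePullback.base fun _ : Fin n => f') ⁻¹ᵁ V'))
    (hz : ∀ (σ : Equiv.Perm (Fin n)) e, (SymProd.permHom f' n σ).appLE _ _ e z = z) :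
    (SymProd.fibPow f' n).evaluation _ x hx z ∈ F := by
  classical
  haveI := hq.affine
  let Ω := q ⁻¹ᵁ W
  let base' := WidePullback.base fun _ : Fin n => f'
  have hΩ : IsAffineOpen Ω := hW.preimage q
  letI := SGA1Quot.action hq W
  letI := ((WidePullback.base fun _ : Fin n => f).appLE V Ω hb).hom.toAlgebra
  haveI := SymLocal.sections_comm f hq V W hb
  let pt := hΩ.primeIdealOf ⟨c x, hx.1⟩
  have hpt : hΩ.fromSpec pt = c x := hΩ.fromSpec_primeIdealOf ⟨c x, hx.1⟩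
  let D := MulAction.stabilizer (ULift.{u} (Equiv.Perm (Fin n))) pt.asIdeal
  obtain ⟨κ, iF, iD, α, U, T, h, hU, eU, hT, hα, hDT, hh, hxh, hTaff, h', hO, hh'⟩ :=
    SymChart.exists_chart f hq hV hb hΩ pt
  rw [hpt] at hxh
  obtain ⟨hT', hT'aff⟩ := chart_upstairs c hcπ hcb α hV' eV (fun a => (hU' (U a) (hU a) (eU a)).1) T hT
  set T' := c ⁻¹ᵁ T ⊓ base' ⁻¹ᵁ V' with hT'def
  have hTb : T ≤ (WidePullback.base fun _ : Fin n => f) ⁻¹ᵁ V := fun w hw => ((hT w).1 hw).1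
  have hperm : ∀ σ : ULift.{u} (Equiv.Perm (Fin n)), Ω ≤ SymProd.permHom f n σ.down⁻¹ ⁻¹ᵁ Ω := fun σ =>
    SGA1.preimage_le_of_inv (SymProd.permActU f n) q hq.inv (σ⁻¹) W
  have hsmul : ∀ (σ : ULift.{u} (Equiv.Perm (Fin n))) s, σ • s = (SymProd.permHom f n σ.down⁻¹).appLE Ω Ω (hperm σ) s :=
    fun σ s => by
      rw [SGA1Quot.action_smul hq W σ s]
      simp only [FEtQuot.act]
      rfl
  have hhΩ : ∀ σ ∈ D, ∀ e, (SymProd.permHom f n σ.down⁻¹).appLE Ω Ω e h = h := fun σ hσ e =>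
    (hsmul σ h).symm.trans (hh σ hσ)
  set O := (SymProd.fibPow f n).basicOpen h with hOdef
  have hOΩ : O ≤ Ω := (SymProd.fibPow f n).basicOpen_le h
  have hOT : O ≤ T := hO.le.trans ((SymProd.fibPow f n).basicOpen_le h')
  -- values on `T'`
  have hxT : x ∈ T' := ⟨hOT hxh, hx.2⟩
  let v : Γ(SymProd.fibPow f' n, T') →+* (SymProd.fibPow f' n).residueField x :=
    ((SymProd.fibPow f' n).evaluation T' x hxT).hom
  let val : ∀ (P : (SymProd.fibPow f n).Opens) (hP : c x ∈ P), Γ(SymProd.fibPow f n, P) →+* (SymProd.fibPow f' n).residueField x :=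
    fun P hP => (c.residueFieldMap x).hom.comp ((SymProd.fibPow f n).evaluation P (c x) hP).hom
  have hres : ∀ {P P' : (SymProd.fibPow f n).Opens} (e : P' ≤ P) (hP : c x ∈ P') s,
      val P' hP ((SymProd.fibPow f n).presheaf.map (homOfLE e).op s) = val P (e hP) s := fun e hP s =>
    congrArg (c.residueFieldMap x).hom (evaluation_res e (c x) hP s)
  have hne : val Ω hx.1 h ≠ 0 := by
    exact fun h0 => (Scheme.evaluation_eq_zero_iff_notMem_basicOpen _ (c x) hx.1 h).1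
      ((c.residueFieldMap x).hom.injective (h0.trans (map_zero _).symm)) hxh
  have hker : ∀ s, s ∈ pt.asIdeal ↔ val Ω hx.1 s = 0 := fun s => by
    rw [show val Ω hx.1 s = 0 ↔ (SymProd.fibPow f n).evaluation Ω (c x) hx.1 s = 0 from
      ⟨fun h0 => (c.residueFieldMap x).hom.injective (h0.trans (map_zero _).symm), fun h0 => by
        show c.residueFieldMap x ((SymProd.fibPow f n).evaluation Ω (c x) hx.1 s) = 0
        rw [h0, map_zero]⟩,
      Scheme.evaluation_eq_zero_iff_notMem_basicOpen _ (c x) hx.1 s]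
    have := SymChart.mem_basicOpen_iff hΩ pt s
    rw [hpt] at this
    tauto
  haveI : pt.asIdeal.IsPrime := pt.isPrime
  obtain ⟨ee, hee, heem, heeg⟩ := SymTransfer.exists_sep Γ(S, V) (ULift.{u} (Equiv.Perm (Fin n))) pt.asIdeal
  have hΩD : ∀ s : Γ(SymProd.fibPow f n, Ω), (∀ σ ∈ D, σ • s = s) → val Ω hx.1 s ∈ F := fun s hs => by
    have key : ∀ t ∈ InvBC.Fx Γ(S, V) D Γ(SymProd.fibPow f n, Ω), val Ω hx.1 (ee * t) ∈ F := fun t ht => by
      have h1 := (hker _).1 (SymTransfer.T_sub_mem pt.asIdeal hee heeg ht)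
      rw [map_sub, sub_eq_zero] at h1
      rw [← h1]
      exact hFb _ fun σ => SymTransfer.T_mem D (mul_mem hee ht) σ
    have h1 := key s fun σ => hs σ.1 σ.2
    have h2 := key 1 (one_mem _)
    rw [mul_one] at h2
    rw [map_mul] at h1
    have he0 : val Ω hx.1 ee ≠ 0 := fun h0 => heem ((hker ee).2 h0)
    have := F.mul_mem (F.inv_mem h2) h1
    rwa [← mul_assoc, inv_mul_cancel₀ he0, one_mul] at this
  -- invariants of the chart downstairs
  have hTD : ∀ w : Γ(SymProd.fibPow f n, T),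
      (∀ σ ∈ D, ∀ e, (SymProd.permHom f n σ.down⁻¹).appLE T T e w = w) → val T (hOT hxh) w ∈ F := fun w hw => by
    obtain ⟨j, cΩ, hcΩ, hcw⟩ := SymChart.exists_inv_num f D hΩ hb (fun σ _ => hperm σ) h hhΩ hOΩ rfl
      ((SymProd.fibPow f n).presheaf.map (homOfLE hOT).op w) (fun σ hσ e =>
        res_inv _ hOT (hDT σ hσ) e w (hw σ hσ _))
    have h1 := congrArg (val O hxh) hcw
    rw [map_mul, map_pow, hres, hres, hres] at h1
    have h2 := hΩD cΩ fun σ hσ => (hsmul σ cΩ).trans (hcΩ σ hσ _)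
    have h3 := hΩD h hh
    rw [h1] at h2
    have := F.mul_mem (F.inv_mem (F.toSubmonoid.pow_mem h3 j)) h2
    rwa [← mul_assoc, inv_mul_cancel₀ (pow_ne_zero j hne), one_mul] at this
  have hv : ∀ w, v (c.appLE T T' inf_le_left w) = val T (hOT hxh) w := fun w => evaluation_appLE c _ x hxT w
  -- the numerator upstairs
  let h'' := c.appLE T T' inf_le_left h'
  set O' := (SymProd.fibPow f' n).basicOpen h'' with hO'def
  have hO'T : O' ≤ T' := (SymProd.fibPow f' n).basicOpen_le h''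
  have hO'Ω : O' ≤ c ⁻¹ᵁ Ω ⊓ base' ⁻¹ᵁ V' := fun w hw => by
    rw [hO'def, Scheme.basicOpen_appLE] at hw
    refine ⟨hOΩ ?_, hw.1.2⟩
    show c w ∈ O
    rw [hO]
    exact hw.2
  have hxO' : x ∈ O' := by
    rw [hO'def, Scheme.basicOpen_appLE]
    refine ⟨hxT, ?_⟩
    show c x ∈ (SymProd.fibPow f n).basicOpen h'
    rw [← hO]
    exact hxh
  have hDT' : ∀ σ ∈ D, T' ≤ SymProd.permHom f' n σ.down⁻¹ ⁻¹ᵁ T' := fun σ hσ =>
    le_preimage_perm c hcπ hcb _ (hDT σ hσ)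
  have hh'' : ∀ σ ∈ D, ∀ e, (SymProd.permHom f' n σ.down⁻¹).appLE T' T' e h'' = h'' := fun σ hσ e => by
    show _ = c.appLE T T' inf_le_left h'
    rw [appLE_perm c hcπ hcb _ inf_le_left (hDT σ hσ) e, hh' σ hσ]
  obtain ⟨j, t, ht, htz⟩ := SymChart.exists_inv_num f' D hT'aff inf_le_right hDT' h'' hh'' hO'T rfl
    ((SymProd.fibPow f' n).presheaf.map (homOfLE hO'Ω).op z) (fun σ hσ e =>
      res_inv _ hO'Ω (le_preimage_perm c hcπ hcb _ (hperm σ)) e z (hz _ _))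
  have h1 := congrArg ((SymProd.fibPow f' n).evaluation O' x hxO').hom htz
  rw [map_mul, map_pow, evaluation_res, evaluation_res, evaluation_res] at h1
  -- the value of the numerator
  let R₂ := S'.residueField (base' x)
  letI : Algebra Γ(S', V') R₂ := (S'.evaluation V' (base' x) hx.2).hom.toAlgebra
  letI : Algebra R₂ ((SymProd.fibPow f' n).residueField x) := (base'.residueFieldMap x).hom.toAlgebra
  letI : Algebra Γ(S', V') ((SymProd.fibPow f' n).residueField x) :=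
    (S'.evaluation V' (base' x) hx.2 ≫ base'.residueFieldMap x).hom.toAlgebra
  haveI : IsScalarTower Γ(S', V') R₂ ((SymProd.fibPow f' n).residueField x) := IsScalarTower.of_algebraMap_eq fun _ => rfl
  have hmem := SymChart.chart_span f c hcπ hcb hi0 α hV hV' eV hU eU (fun a => (hU' (U a) (hU a) (eU a)).1)
    (fun a => inf_le_right) (fun a => inf_le_left) T hT T' hT' inf_le_left D hα
    (fun a => (hU' (U a) (hU a) (eU a)).2) (R₂ := R₂) (Module.Flat.of_free)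
    inf_le_right v (fun r => evaluation_appLE base' _ x hxT r) t ht
  have hvt : v t ∈ F := by
    refine Submodule.span_induction (p := fun y _ => y ∈ F) ?_ (zero_mem F) (fun y y' _ _ hy hy' => add_mem hy hy')
      (fun r y _ hy => ?_) hmem
    · rintro y ⟨w, hw, rfl⟩
      rw [hv]
      exact hTD w hw
    · rw [Algebra.smul_def]
      exact F.mul_mem (hFk r) hy
  have hh''F : v h'' ∈ F := by rw [hv]; exact hTD h' hh'
  have hne'' : v h'' ≠ 0 := fun h0 =>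
    (Scheme.evaluation_eq_zero_iff_notMem_basicOpen _ _ hxT h'').1 h0 hxO'
  rw [show v t = v h'' ^ j * (SymProd.fibPow f' n).evaluation _ x (hO'Ω hxO') z from h1] at hvt
  have := F.mul_mem (F.inv_mem (F.toSubmonoid.pow_mem hh''F j)) hvt
  rwa [← mul_assoc, inv_mul_cancel₀ (pow_ne_zero j hne''), one_mul] at this

include hcπ hcb hV hV' eV hW hb hi0 hU' in
/-- If the upstairs morphism is flat, invariant sections upstairs are combinations of images of invariant sections. -/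
theorem inv_mem_span [Flat f']
    (hΩ' : IsAffineOpen (c ⁻¹ᵁ (q ⁻¹ᵁ W) ⊓ (WidePullback.base fun _ : Fin n => f') ⁻¹ᵁ V'))
    (z : Γ(SymProd.fibPow f' n, c ⁻¹ᵁ (q ⁻¹ᵁ W) ⊓ (WidePullback.base fun _ : Fin n => f') ⁻¹ᵁ V'))
    (hz : ∀ (σ : Equiv.Perm (Fin n)) e, (SymProd.permHom f' n σ).appLE _ _ e z = z) :
    letI := SGA1Quot.action hq W
    letI := ((WidePullback.base fun _ : Fin n => f').appLE V'
      (c ⁻¹ᵁ (q ⁻¹ᵁ W) ⊓ (WidePullback.base fun _ : Fin n => f') ⁻¹ᵁ V') inf_le_right).hom.toAlgebra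
    z ∈ Submodule.span Γ(S', V') {y | ∃ s : Γ(SymProd.fibPow f n, q ⁻¹ᵁ W),
      (∀ σ : ULift.{u} (Equiv.Perm (Fin n)), σ • s = s) ∧ y = c.appLE (q ⁻¹ᵁ W) _ inf_le_left s} := by
  classical
  haveI := hq.affine
  let Ω := q ⁻¹ᵁ W
  let base' := WidePullback.base fun _ : Fin n => f'
  let Ω' := c ⁻¹ᵁ Ω ⊓ base' ⁻¹ᵁ V'
  have hΩ : IsAffineOpen Ω := hW.preimage q
  letI := SGA1Quot.action hq W
  letI := ((WidePullback.base fun _ : Fin n => f).appLE V Ω hb).hom.toAlgebra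
  haveI := SymLocal.sections_comm f hq V W hb
  letI := (base'.appLE V' Ω' inf_le_right).hom.toAlgebra
  have hperm : ∀ σ : ULift.{u} (Equiv.Perm (Fin n)), Ω ≤ SymProd.permHom f n σ.down⁻¹ ⁻¹ᵁ Ω := fun σ =>
    SGA1.preimage_le_of_inv (SymProd.permActU f n) q hq.inv (σ⁻¹) W
  have hsmul : ∀ (σ : ULift.{u} (Equiv.Perm (Fin n))) s, σ • s = (SymProd.permHom f n σ.down⁻¹).appLE Ω Ω (hperm σ) s :=
    fun σ s => by
      rw [SGA1Quot.action_smul hq W σ s]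
      simp only [FEtQuot.act]
      rfl
  have hΩ'p : ∀ σ ∈ (⊤ : Subgroup (ULift.{u} (Equiv.Perm (Fin n)))), Ω' ≤ SymProd.permHom f' n σ.down⁻¹ ⁻¹ᵁ Ω' :=
    fun σ _ => le_preimage_perm c hcπ hcb _ (hperm σ)
  letI := SymLocal.openAction f' ⊤ Ω' hΩ'p
  haveI := SymLocal.openAction_comm f' ⊤ Ω' hΩ'p V' inf_le_right
  letI : MulSemiringAction (ULift.{u} (Equiv.Perm (Fin n))) Γ(SymProd.fibPow f' n, Ω') :=
    MulSemiringAction.compHom _ (Subgroup.topEquiv.symm.toMonoidHom :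
      ULift.{u} (Equiv.Perm (Fin n)) →* (⊤ : Subgroup (ULift.{u} (Equiv.Perm (Fin n)))))
  haveI : SMulCommClass (ULift.{u} (Equiv.Perm (Fin n))) Γ(S', V') Γ(SymProd.fibPow f' n, Ω') :=
    ⟨fun σ r t => smul_comm (⟨σ, trivial⟩ : (⊤ : Subgroup (ULift.{u} (Equiv.Perm (Fin n))))) r t⟩
  let φ : Γ(SymProd.fibPow f n, Ω) →+* Γ(SymProd.fibPow f' n, Ω') := (c.appLE Ω Ω' inf_le_left).hom
  have hφ : ∀ (σ : ULift.{u} (Equiv.Perm (Fin n))) s, φ (σ • s) = σ • φ s := fun σ s => by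
    rw [hsmul]
    exact (appLE_perm c hcπ hcb _ inf_le_left (hperm σ) (hΩ'p σ trivial) s).symm
  have main := SymTransfer.span_of_local (R := Γ(S, V)) (R₁ := Γ(S', V')) φ hφ (fun m hm => ?_) z
    (fun σ => hz _ (hΩ'p σ trivial))
  · refine Submodule.span_mono ?_ main
    rintro _ ⟨s, hs, rfl⟩
    exact ⟨s, hs, rfl⟩
  -- near a maximal ideal
  let pt : Spec Γ(SymProd.fibPow f n, Ω) := (⟨m, hm.isPrime⟩ : PrimeSpectrum _)
  let D := MulAction.stabilizer (ULift.{u} (Equiv.Perm (Fin n))) m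
  obtain ⟨κ, iF, iD, α, U, T, h, hU, eU, hT, hα, hDT, hh, hxh, hTaff, h', hO, hh'⟩ :=
    SymChart.exists_chart f hq hV hb hΩ pt
  obtain ⟨hT', hT'aff⟩ := chart_upstairs c hcπ hcb α hV' eV (fun a => (hU' (U a) (hU a) (eU a)).1) T hT
  refine ⟨h, fun σ => hh σ.1 σ.2, (SymChart.mem_basicOpen_iff hΩ pt h).1 hxh, fun z hz => ?_⟩
  let T' := c ⁻¹ᵁ T ⊓ base' ⁻¹ᵁ V'
  let O := (SymProd.fibPow f n).basicOpen h
  have hOΩ : O ≤ Ω := (SymProd.fibPow f n).basicOpen_le h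
  have hOT : O ≤ T := hO.le.trans ((SymProd.fibPow f n).basicOpen_le h')
  have hhΩ : ∀ σ ∈ D, ∀ e, (SymProd.permHom f n σ.down⁻¹).appLE Ω Ω e h = h := fun σ hσ e =>
    (hsmul σ h).symm.trans (hh σ hσ)
  have hDO : ∀ σ ∈ D, O ≤ SymProd.permHom f n σ.down⁻¹ ⁻¹ᵁ O := fun σ hσ => by
    have h1 : (SymProd.fibPow f n).basicOpen ((SymProd.permHom f n σ.down⁻¹).appLE Ω Ω (hperm σ) h) = O := by
      rw [hhΩ σ hσ]
    rw [Scheme.basicOpen_appLE] at h1
    exact h1.ge.trans inf_le_right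
  let O' := (SymProd.fibPow f' n).basicOpen (c.appLE T T' inf_le_left h')
  have hO'eq : O' = (SymProd.fibPow f' n).basicOpen (φ h) := by
    show _ = (SymProd.fibPow f' n).basicOpen (c.appLE Ω Ω' inf_le_left h)
    rw [show O' = T' ⊓ c ⁻¹ᵁ O by rw [show O = _ from hO]; exact Scheme.basicOpen_appLE _ _ _ _ _,
      Scheme.basicOpen_appLE]
    ext w
    exact ⟨fun ⟨⟨_, h2⟩, h3⟩ => ⟨⟨hOΩ h3, h2⟩, h3⟩, fun ⟨⟨_, h2⟩, h3⟩ => ⟨⟨hOT h3, h2⟩, h3⟩⟩
  have hO'T : O' ≤ T' := (SymProd.fibPow f' n).basicOpen_le _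
  have hO'Ω : O' ≤ Ω' := hO'eq.le.trans ((SymProd.fibPow f' n).basicOpen_le _)
  have hO'O : O' ≤ c ⁻¹ᵁ O := fun w hw => by
    show c w ∈ O
    have h1 : w ∈ T' ⊓ c ⁻¹ᵁ (SymProd.fibPow f n).basicOpen h' := (Scheme.basicOpen_appLE c T' T inf_le_left h').le hw
    exact hO.ge h1.2
  let rΩ : Γ(SymProd.fibPow f' n, Ω') →+* Γ(SymProd.fibPow f' n, O') :=
    ((SymProd.fibPow f' n).presheaf.map (homOfLE hO'Ω).op).hom
  let rT : Γ(SymProd.fibPow f' n, T') →+* Γ(SymProd.fibPow f' n, O') :=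
    ((SymProd.fibPow f' n).presheaf.map (homOfLE hO'T).op).hom
  let cO : Γ(SymProd.fibPow f n, O) →+* Γ(SymProd.fibPow f' n, O') := (c.appLE O O' hO'O).hom
  have hnΩ : ∀ s, rΩ (φ s) = cO ((SymProd.fibPow f n).presheaf.map (homOfLE hOΩ).op s) := fun s => by
    show (c.appLE Ω Ω' inf_le_left ≫ (SymProd.fibPow f' n).presheaf.map (homOfLE hO'Ω).op) s =
      ((SymProd.fibPow f n).presheaf.map (homOfLE hOΩ).op ≫ c.appLE O O' hO'O) s
    rw [Scheme.Hom.appLE_map, Scheme.Hom.map_appLE]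
  have hnT : ∀ s, rT (c.appLE T T' inf_le_left s) = cO ((SymProd.fibPow f n).presheaf.map (homOfLE hOT).op s) := fun s => by
    show (c.appLE T T' inf_le_left ≫ (SymProd.fibPow f' n).presheaf.map (homOfLE hO'T).op) s =
      ((SymProd.fibPow f n).presheaf.map (homOfLE hOT).op ≫ c.appLE O O' hO'O) s
    rw [Scheme.Hom.appLE_map, Scheme.Hom.map_appLE]
  let M := Submodule.span Γ(S', V') (φ '' (InvBC.Fx Γ(S, V) D Γ(SymProd.fibPow f n, Ω) : Set _))
  have hmul : ∀ s ∈ InvBC.Fx Γ(S, V) D Γ(SymProd.fibPow f n, Ω), ∀ {u}, u ∈ M → φ s * u ∈ M := fun s hs u hu => by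
    refine Submodule.span_induction (p := fun u _ => φ s * u ∈ M) ?_ (by rw [mul_zero]; exact zero_mem M)
      (fun a a' _ _ ha ha' => by rw [mul_add]; exact add_mem ha ha')
      (fun r a _ ha => by rw [mul_smul_comm]; exact M.smul_mem r ha) hu
    rintro _ ⟨s', hs', rfl⟩
    exact Submodule.subset_span ⟨s * s', mul_mem hs hs', map_mul φ _ _⟩
  have hhF : h ∈ InvBC.Fx Γ(S, V) D Γ(SymProd.fibPow f n, Ω) := fun σ => hh σ.1 σ.2
  -- a section on `O` invariant under `D`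
  have hfrac : ∀ w : Γ(SymProd.fibPow f n, O),
      (∀ σ ∈ D, ∀ e, (SymProd.permHom f n σ.down⁻¹).appLE O O e w = w) →
      ∃ (k : ℕ) (s : Γ(SymProd.fibPow f n, Ω)), s ∈ InvBC.Fx Γ(S, V) D Γ(SymProd.fibPow f n, Ω) ∧
        rΩ (φ s) = rΩ (φ h) ^ k * cO w := fun w hw => by
    obtain ⟨k, s, hs, hsw⟩ := SymChart.exists_inv_num f D hΩ hb (fun σ _ => hperm σ) h hhΩ hOΩ rfl w hw
    refine ⟨k, s, fun σ => (hsmul σ.1 s).trans (hs σ.1 σ.2 _), ?_⟩
    rw [hnΩ, hnΩ, hsw, map_mul, map_pow]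
  -- the inverse of `h'` on `O`
  have hu : IsUnit ((SymProd.fibPow f n).presheaf.map (homOfLE hOT).op h') := by
    letI := ((SymProd.fibPow f n).presheaf.map (homOfLE hOT).op).hom.toAlgebra
    haveI := hTaff.isLocalization_of_eq_basicOpen h' (homOfLE hOT) hO
    exact IsLocalization.Away.algebraMap_isUnit (S := Γ(SymProd.fibPow f n, O)) h'
  obtain ⟨v0, hv0⟩ := hu.exists_right_inv
  have hv0D : ∀ σ ∈ D, ∀ e, (SymProd.permHom f n σ.down⁻¹).appLE O O e v0 = v0 := fun σ hσ e => by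
    have h1 := congrArg ((SymProd.permHom f n σ.down⁻¹).appLE O O e).hom hv0
    rw [map_mul, map_one, res_inv _ hOT (hDT σ hσ) e h' (hh' σ hσ _)] at h1
    exact hu.mul_left_cancel (h1.trans hv0.symm)
  obtain ⟨k₁, cv, hcv, hcv'⟩ := hfrac v0 hv0D
  -- the numerator upstairs
  obtain ⟨j, t, ht, htz⟩ := SymChart.exists_inv_num f' D hT'aff inf_le_right
    (fun σ hσ => le_preimage_perm c hcπ hcb _ (hDT σ hσ)) (c.appLE T T' inf_le_left h')
    (fun σ hσ e => by rw [appLE_perm c hcπ hcb _ inf_le_left (hDT σ hσ) e, hh' σ hσ]) hO'T rfl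
    (rΩ z) (fun σ hσ e => res_inv _ hO'Ω (hΩ'p σ trivial) e z (hz σ hσ))
  letI := (base'.appLE V' T' inf_le_right).hom.toAlgebra
  haveI : ∀ a, letI := (f'.appLE V' (i0 ⁻¹ᵁ U a ⊓ f' ⁻¹ᵁ V') inf_le_right).hom.toAlgebra
      Module.Flat Γ(S', V') Γ(X', i0 ⁻¹ᵁ U a ⊓ f' ⁻¹ᵁ V') :=
    fun a => f'.flat_appLE hV' (hU' (U a) (hU a) (eU a)).1 _
  have hmem := SymChart.chart_span f c hcπ hcb hi0 α hV hV' eV hU eU (fun a => (hU' (U a) (hU a) (eU a)).1)
    (fun a => inf_le_right) (fun a => inf_le_left) T hT T' hT' inf_le_left D hα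
    (fun a => (hU' (U a) (hU a) (eU a)).2) (R₂ := Γ(S', V'))
    (by
      letI := fun a => (f'.appLE V' (i0 ⁻¹ᵁ U a ⊓ f' ⁻¹ᵁ V') inf_le_right).hom.toAlgebra
      haveI := SymLocal.flat_pi (R := Γ(S', V')) (fun a => (Γ(X', i0 ⁻¹ᵁ U a ⊓ f' ⁻¹ᵁ V') : Type u))
      infer_instance)
    inf_le_right (RingHom.id _) (fun r => rfl) t ht
  have hP : ∃ (k : ℕ) (u : Γ(SymProd.fibPow f' n, Ω')), u ∈ M ∧ rΩ u = rΩ (φ h) ^ k * rT t := by
    refine Submodule.span_induction (p := fun y _ => ∃ (k : ℕ) (u : Γ(SymProd.fibPow f' n, Ω')),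
      u ∈ M ∧ rΩ u = rΩ (φ h) ^ k * rT y) ?_ ⟨0, 0, zero_mem M, by simp⟩ ?_ ?_ hmem
    · rintro y ⟨w, hw, rfl⟩
      obtain ⟨k, s, hs, hsw⟩ := hfrac ((SymProd.fibPow f n).presheaf.map (homOfLE hOT).op w)
        (fun σ hσ e => res_inv _ hOT (hDT σ hσ) e w (hw σ hσ _))
      exact ⟨k, φ s, Submodule.subset_span ⟨s, hs, rfl⟩, by rw [hsw, RingHom.id_apply, hnT]⟩
    · rintro y y' _ _ ⟨k, u, hu, hk⟩ ⟨k', u', hu', hk'⟩
      refine ⟨k + k', φ (h ^ k') * u + φ (h ^ k) * u', add_mem (hmul _ (pow_mem hhF _) hu) (hmul _ (pow_mem hhF _) hu'), ?_⟩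
      simp only [map_add, map_mul, map_pow, hk, hk', pow_add]
      ring
    · rintro r y _ ⟨k, u, hu, hk⟩
      refine ⟨k, r • u, M.smul_mem r hu, ?_⟩
      rw [Algebra.smul_def, Algebra.smul_def, map_mul, map_mul, hk]
      show ((base'.appLE V' Ω' inf_le_right) ≫ (SymProd.fibPow f' n).presheaf.map (homOfLE hO'Ω).op) r * _ =
        rΩ (φ h) ^ k * (((base'.appLE V' T' inf_le_right) ≫ (SymProd.fibPow f' n).presheaf.map (homOfLE hO'T).op) r * _)
      rw [Scheme.Hom.appLE_map, Scheme.Hom.appLE_map]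
      exact mul_left_comm _ _ _
  obtain ⟨k, u, hu', hku⟩ := hP
  have h2 : rΩ (φ cv) * rT (c.appLE T T' inf_le_left h') = rΩ (φ h) ^ k₁ := by
    rw [hcv', hnT, mul_assoc, ← map_mul, mul_comm v0, hv0, map_one, mul_one]
  have key : rΩ (φ (cv ^ j) * u) = rΩ (φ h ^ (k + k₁ * j) * z) := by
    have h3 : rT t = rT (c.appLE T T' inf_le_left h') ^ j * rΩ z := htz
    rw [map_mul, map_pow, map_pow, hku, h3, map_mul, map_pow, pow_add, pow_mul, ← h2]
    ring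
  letI := rΩ.toAlgebra
  haveI : IsLocalization.Away (φ h) Γ(SymProd.fibPow f' n, O') :=
    hΩ'.isLocalization_of_eq_basicOpen (φ h) (homOfLE hO'Ω) hO'eq
  obtain ⟨⟨_, L, rfl⟩, hL⟩ := (IsLocalization.eq_iff_exists (Submonoid.powers (φ h)) Γ(SymProd.fibPow f' n, O')).1 key
  refine ⟨L + (k + k₁ * j), ?_⟩
  rw [pow_add, mul_assoc, ← show φ h ^ L * (φ (cv ^ j) * u) = φ h ^ L * (φ h ^ (k + k₁ * j) * z) from hL, ← map_pow]
  exact hmul _ (pow_mem hhF _) (hmul _ (pow_mem hcv _) hu')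

end Groth.Agent.AGFQuot23.SymValue
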