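import Groth.Agent.AGFQuot23.NormBorel
import Groth.Agent.AGFQuot23.CentreInBorel
import Groth.Agent.AGFQuot23.CommBorel
import Groth.Agent.HMTor29.MaxTorus
import Groth.Agent.CentConn12.Affine
import Groth.Agent.MaxTorImg10.Main
import Groth.Agent.AlgGrpLib.UnitsOnProducts

/-!
# Borel subgroups of the centralizer of a torus
-/

set_option autoImplicit false
set_option backward.isDefEq.respectTransparency false
set_option linter.style.haveILetI false
set_option maxHeartbeats 1000000

universe u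

open CategoryTheory CategoryTheory.Limits MonoidalCategory CartesianMonoidalCategory MonObj GrpObj AlgebraicGeometry

open Groth.Agent.AlgGrpLib (ptOf)

namespace Groth.Agent.AGFQuot23

theorem isMonHom_of_comp_mono' {S : Scheme.{u}} {A B C : Over S} [GrpObj A] [GrpObj B] [GrpObj C]
    (f : A ⟶ B) (g : B ⟶ C) [IsMonHom g] [Mono g] [IsMonHom (f ≫ g)] : IsMonHom f where
  one_hom := by rw [← cancel_mono g, Category.assoc, IsMonHom.one_hom (f ≫ g), IsMonHom.one_hom g]
  mul_hom := by
    rw [← cancel_mono g, Category.assoc, IsMonHom.mul_hom (f ≫ g), Category.assoc, IsMonHom.mul_hom g,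
      tensorHom_comp_tensorHom_assoc]

theorem isSolvableGrp_of_mono {S : Scheme.{u}} {A B : Over S} [GrpObj A] [GrpObj B] (f : A ⟶ B) [IsMonHom f]
    [Mono f] (h : Red.IsSolvableGrp B) : Red.IsSolvableGrp A := by
  obtain ⟨n, hn⟩ := h
  refine ⟨n, fun X => eq_bot_iff.2 fun x hx => ?_⟩
  let φ : (X ⟶ A) →* (X ⟶ B) := MonoidHom.mk' (fun y => y ≫ f) fun y z => MonObj.mul_comp y z f
  have h' : φ x ∈ derivedSeries (X ⟶ B) n := map_derivedSeries_le_derivedSeries φ n ⟨x, hx, rfl⟩
  rw [hn X, Subgroup.mem_bot] at h'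
  rw [Subgroup.mem_bot, ← cancel_mono f, MonObj.one_comp]
  exact h'

/-- The intersection of a centralizer with a subgroup containing the torus is the centralizer there. -/
theorem isCentralizerOf_pullback {S : Scheme.{u}} {G T B C D : Over S} [GrpObj G] [GrpObj T] [GrpObj B] [GrpObj C]
    [GrpObj D] {iT : T ⟶ G} {iB : B ⟶ G} [IsMonHom iB] [Mono iB] {t : T ⟶ B} (ht : t ≫ iB = iT) {c : C ⟶ G}
    (hc : Red.IsCentralizerOf iT c) {dC : D ⟶ C} [IsMonHom dC] {dB : D ⟶ B} (hD : IsPullback dC dB c iB) :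
    Red.IsCentralizerOf t dB := by
  haveI := hc.1
  haveI := hc.2.1
  haveI : IsMonHom (dB ≫ iB) := by rw [← hD.w]; infer_instance
  haveI := isMonHom_of_comp_mono' dB iB
  haveI : Mono dB := hD.mono_snd_of_mono
  refine ⟨inferInstance, inferInstance, fun X g => ⟨fun ⟨z, hz⟩ X' x h => ?_, fun hg => ?_⟩⟩
  · rw [← cancel_mono iB, MonObj.mul_comp, MonObj.mul_comp, ← hz]
    simp only [Category.assoc]
    rw [← hD.w, ht]
    exact (hc.2.2 X _).1 ⟨z ≫ dC, by rw [Category.assoc]⟩ X' x h
  · obtain ⟨z, hz⟩ := (hc.2.2 X (g ≫ iB)).2 fun X' x h => by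
      have h' := congrArg (fun m => m ≫ iB) (hg X' x h)
      simpa only [MonObj.mul_comp, Category.assoc, ht] using h'
    exact ⟨hD.lift z g hz, hD.lift_snd _ _ _⟩

/-- A monomorphic endomorphism of a reduced affine scheme of finite type by a closed immersion is an isomorphism. -/
theorem isIso_of_closedImmersion_endo {X : Scheme.{u}} [IsReduced X] [TopologicalSpace.NoetherianSpace X]
    (e : X ⟶ X) [IsClosedImmersion e] : IsIso e := by
  have hsurj : Function.Surjective e := by
    let C : ℕ → TopologicalSpace.Closeds X := fun n =>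
      ⟨Set.range ((⇑e)^[n]), by
        induction n with
        | zero => simp
        | succ n ih =>
          rw [Function.iterate_succ', Set.range_comp]
          exact e.isClosedEmbedding.isClosedMap _ ih⟩
    have hanti : Antitone C := antitone_nat_of_succ_le fun n => by
      rintro _ ⟨x, rfl⟩
      exact ⟨e x, (Function.iterate_succ_apply _ _ _).symm⟩
    obtain ⟨n, hn⟩ := WellFoundedLT.antitone_chain_condition hanti
    intro x
    have h : (⇑e)^[n] x ∈ (C (n + 1) : Set X) := by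
      rw [← show C n = C (n + 1) from hn (n + 1) (Nat.le_succ n)]
      exact ⟨x, rfl⟩
    obtain ⟨y, hy⟩ := h
    rw [Function.iterate_succ_apply] at hy
    exact ⟨y, (e.isClosedEmbedding.injective.iterate n) hy⟩
  haveI : Surjective e := ⟨hsurj⟩
  exact isIso_of_isClosedImmersion_of_surjective e

variable {k : Type u} [Field k] [IsAlgClosed k] {G : Over (Spec (CommRingCat.of k))} [GrpObj G]
  [IsAffine G.left] [Smooth G.hom] [ConnectedSpace G.left]

theorem exists_lift_of_points' {W X Z : Over (Spec (CommRingCat.of k))} [LocallyOfFiniteType W.hom]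
    [IsReduced W.left] (f : W ⟶ X) (j : Z ⟶ X) [IsClosedImmersion j.left]
    (h : ∀ b : 𝟙_ (Over (Spec (CommRingCat.of k))) ⟶ W, ptOf (b ≫ f) ∈ Set.range j.left) :
    ∃ l : W ⟶ Z, l ≫ j = f := by
  have hr : Set.range f.left ⊆ Set.range j.left := by
    rintro _ ⟨x, rfl⟩
    exact subset_of_forall_point (Z := W) isClosed_univ.isLocallyClosed
      (j.left.isClosedEmbedding.isClosed_range.preimage f.left.continuous) (fun b _ => h b) (Set.mem_univ x)
  obtain ⟨l, hl⟩ := RedSepLib.exists_lift_of_range_subset f.left j.left hr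
  exact ⟨Over.homMk l (by rw [← Over.w j, ← Category.assoc, hl, Over.w]), Over.OverMorphism.ext hl⟩

theorem point_self (f : 𝟙_ (Over (Spec (CommRingCat.of k))) ⟶ 𝟙_ (Over (Spec (CommRingCat.of k)))) : f = 𝟙 _ :=
  toUnit_unique _ _

theorem point_comp_cst {W W' : Over (Spec (CommRingCat.of k))} (f : W' ⟶ W)
    (g : 𝟙_ (Over (Spec (CommRingCat.of k))) ⟶ G) : f ≫ cst W g = cst W' g := by
  rw [cst, cst, ← Category.assoc, comp_toUnit]

/-- A connected solvable subgroup of the centralizer is conjugate into its intersection with a Borel subgroup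
containing the torus. -/
theorem exists_conj_into_centralizer_inter {T B C : Over (Spec (CommRingCat.of k))} [GrpObj T] [GrpObj B] [GrpObj C]
    (hT : Red.IsTorus T) {iT : T ⟶ G} [IsMonHom iT] {iB : B ⟶ G} (hB : Red.IsBorelOver k iB) {t : T ⟶ B}
    (ht : t ≫ iB = iT) {c : C ⟶ G} (hc : Red.IsCentralizerOf iT c)
    {P : Over (Spec (CommRingCat.of k))} [GrpObj P] (i : P ⟶ C) [IsMonHom i] [IsClosedImmersion i.left]
    [Smooth P.hom] [ConnectedSpace P.left] (hs : Red.IsSolvableGrp P) :
    ∃ (x : 𝟙_ (Over (Spec (CommRingCat.of k))) ⟶ C) (h : P ⟶ B), h ≫ iB = (i ≫ c) ≫ cj (x ≫ c) := by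
  obtain ⟨hiB, hclB, hsmB, hconnB, hsB, -⟩ := id hB
  haveI := hiB; haveI := hclB; haveI := hsmB; haveI := hconnB
  haveI := hc.1
  haveI := hc.2.1
  obtain ⟨hsmC, hclC⟩ := CentConn12.smooth_closed hT iT hc
  haveI := hsmC; haveI := hclC
  haveI : IsAffine B.left := isAffine_of_isAffineHom iB.left
  haveI : IsAffine C.left := isAffine_of_isAffineHom c.left
  haveI : IsAffine P.left := isAffine_of_isAffineHom i.left
  haveI : Mono iB := Over.mono_of_mono_left _
  haveI : Smooth T.hom := AlgGrpLib.AxesTorus.smooth_of_isTorus hT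
  haveI : IsReduced T.left := AbSchLib.isReduced_of_smooth T.hom
  haveI : IsMonHom (t ≫ iB) := by rw [ht]; infer_instance
  haveI := isMonHom_of_comp_mono' t iB
  haveI : QuasiCompact G.hom := (quasiCompact_iff_compactSpace G.hom).2 inferInstance
  haveI : QuasiCompact B.hom := (quasiCompact_iff_compactSpace B.hom).2 inferInstance
  obtain ⟨S, _, s, π, hS, hsm', hπ, hsπ, huniv⟩ := HMTor29.MaxTorus.exists_complement (k := k) (H := B) hsB
  haveI := hsm'; haveI := hπ
  haveI : Smooth S.hom := AlgGrpLib.AxesTorus.smooth_of_isTorus hS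
  haveI : IsAffine S.left := (MaxTorImg10.isAffine_and_connected_of_isTorus hS).1
  haveI : IsSeparated S.hom := inferInstance
  -- the closed set of points of `G` conjugating the torus into `B` without moving it modulo the unipotent part
  let φ : (𝟙_ (Over (Spec (CommRingCat.of k))) ⟶ T) → (G ⟶ G) := fun y => (𝟙 G)⁻¹ * cst G (y ≫ iT) * 𝟙 G
  have hφ : ∀ y g, g ≫ φ y = g⁻¹ * (y ≫ iT) * g := fun y g => by
    simp only [φ, MonObj.comp_mul, GrpObj.comp_inv, Category.comp_id, point_comp_cst]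
    rw [cst, point_self (toUnit _), Category.id_comp]
  let F : (𝟙_ (Over (Spec (CommRingCat.of k))) ⟶ T) → Set B.left := fun y => π.left ⁻¹' {ptOf (y ≫ t ≫ π)}
  let K₁ : Set G.left := ⋂ y, (φ y).left ⁻¹' (iB.left '' F y)
  have hK₁ : IsClosed K₁ := isClosed_iInter fun y =>
    (iB.left.isClosedEmbedding.isClosedMap _ ((isClosed_ptOf _).preimage π.left.continuous)).preimage
      (φ y).left.continuous
  have hmem : ∀ g : 𝟙_ (Over (Spec (CommRingCat.of k))) ⟶ G, ptOf g ∈ K₁ ↔
      ∀ y, ∃ b : 𝟙_ (Over (Spec (CommRingCat.of k))) ⟶ B, b ≫ π = y ≫ t ≫ π ∧ b ≫ iB = g⁻¹ * (y ≫ iT) * g := by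
    intro g
    simp only [K₁, Set.mem_iInter]
    refine forall_congr' fun y => ⟨fun h => ?_, ?_⟩
    · obtain ⟨x, hx, he⟩ := h
      obtain ⟨b, hb⟩ := exists_point_of_mem iB (g ≫ φ y) ⟨x, he⟩
      refine ⟨b, ratPoint_ext _ _ ?_, by rw [hb, hφ]⟩
      have hbx : ptOf b = x := iB.left.isClosedEmbedding.injective (Eq.trans (by
        show ptOf (b ≫ iB) = ptOf (g ≫ φ y)
        rw [hb]) he.symm)
      show π.left (ptOf b) = _
      rw [hbx]
      exact hx
    · rintro ⟨b, hb₁, hb₂⟩
      refine ⟨ptOf b, ?_, ?_⟩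
      · show ptOf (b ≫ π) = _
        rw [hb₁]
      · show ptOf (b ≫ iB) = ptOf (g ≫ φ y)
        rw [hb₂, hφ]
  have hcomm : ∀ (z : 𝟙_ (Over (Spec (CommRingCat.of k))) ⟶ C) y, (z ≫ c) * (y ≫ iT) = (y ≫ iT) * (z ≫ c) :=
    fun z y => by simpa using (hc.2.2 _ (z ≫ c)).1 ⟨z, rfl⟩ _ (𝟙 _) y
  have hK : ∀ g : 𝟙_ (Over (Spec (CommRingCat.of k))) ⟶ G, ptOf g ∈ K₁ ↔
      ∃ (z : 𝟙_ (Over (Spec (CommRingCat.of k))) ⟶ C) (b : 𝟙_ (Over (Spec (CommRingCat.of k))) ⟶ B),
        g = (z ≫ c) * (b ≫ iB) := by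
    intro g
    constructor
    · intro hg
      have hg' := (hmem g).1 hg
      obtain ⟨h, hh⟩ := exists_lift_of_points (iT ≫ cj g) iB fun y => by
        obtain ⟨b, -, hb⟩ := hg' y
        refine ⟨ptOf b, ?_⟩
        show ptOf (b ≫ iB) = _
        rw [hb, ← Category.assoc, comp_cj]
        simp only [cst, point_self (toUnit _), Category.id_comp]
      haveI : IsMonHom (h ≫ iB) := by rw [hh]; infer_instance
      haveI := isMonHom_of_comp_mono' h iB
      have hπ' : h ≫ π = t ≫ π := hom_ext_of_points _ _ fun y => by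
        obtain ⟨b, hb₁, hb⟩ := hg' y
        have e : y ≫ h = b := by
          rw [← cancel_mono iB, Category.assoc, hh, hb, ← Category.assoc, comp_cj]
          simp only [cst, point_self (toUnit _), Category.id_comp]
        rw [← Category.assoc, e, hb₁]
      obtain ⟨v, hv⟩ := huniv T hT h
      obtain ⟨w, hw⟩ := huniv T hT t
      rw [reassoc_of% hπ'] at hv
      let u := v * w⁻¹
      have hu : h = cst T u * t * (cst T u)⁻¹ := by
        conv_lhs => rw [hv]
        conv_rhs => rw [hw]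
        simp only [u, cst, MonObj.comp_mul, GrpObj.comp_inv]
        group
      have hcent : cst T (g * (u ≫ iB)) * iT = iT * cst T (g * (u ≫ iB)) := by
        have e := congrArg (fun m => m ≫ iB) hu
        simp only [hh, comp_cj, MonObj.mul_comp, GrpObj.inv_comp, cst, Category.assoc, ht] at e
        simp only [cst, MonObj.comp_mul]
        have e' : iT * (toUnit T ≫ g) = (toUnit T ≫ g) * ((toUnit T ≫ u ≫ iB) * iT * (toUnit T ≫ u ≫ iB)⁻¹) := by
          rw [← e]; group
        rw [← _root_.mul_assoc iT, e']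
        group
      obtain ⟨z, hz⟩ := (hc.2.2 _ (g * (u ≫ iB))).2 fun X x y => by
        have e' := congrArg (fun q => y ≫ q) hcent
        simp only [MonObj.comp_mul, point_comp_cst] at e'
        rw [show x = toUnit X from toUnit_unique _ _, MonObj.comp_mul]
        exact e'
      exact ⟨z, u⁻¹, by rw [hz, GrpObj.inv_comp, mul_inv_cancel_right]⟩
    · rintro ⟨z, b, rfl⟩
      refine (hmem _).2 fun y => ⟨b⁻¹ * (y ≫ t) * b, ?_, ?_⟩
      · simp only [MonObj.mul_comp, GrpObj.inv_comp, Category.assoc]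
        rw [SGA3cLib.torus_mul_comm hS, mul_inv_cancel_left]
      · simp only [MonObj.mul_comp, GrpObj.inv_comp, Category.assoc, ht]
        rw [show ((z ≫ c) * (b ≫ iB))⁻¹ * (y ≫ iT) * ((z ≫ c) * (b ≫ iB)) =
          (b ≫ iB)⁻¹ * ((z ≫ c)⁻¹ * ((y ≫ iT) * (z ≫ c))) * (b ≫ iB) by group,
          ← hcomm z y, inv_mul_cancel_left]
  -- the quotient and the orbit of the centralizer
  obtain ⟨X, a, o, -, hLX, -, hfl, hsur, hpb⟩ := AlgGrpLib.HomogQuotProj.exists_quotient_projMono G B iB
  haveI := isProper_of_isBorelOver hB ⟨hLX, hfl, hsur, hpb⟩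
  haveI := hfl
  haveI := hsur
  let p := a.orbitMap o
  haveI : LocallyOfFinitePresentation p.left := by
    haveI : LocallyOfFinitePresentation (p.left ≫ X.hom) := by rw [Over.w p]; infer_instance
    exact EGA43.Limit.locallyOfFinitePresentation_of_comp p.left X.hom
  have hopen : IsOpen (p.left '' K₁ᶜ) := p.left.isOpenMap _ hK₁.isOpen_compl
  let K : Set X.left := (p.left '' K₁ᶜ)ᶜ
  have hKcl : IsClosed K := hopen.isClosed_compl
  have hKmem : ∀ g : 𝟙_ (Over (Spec (CommRingCat.of k))) ⟶ G, ptOf (g ≫ p) ∈ K ↔ ptOf g ∈ K₁ := by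
    intro g
    refine ⟨fun h => ?_, fun h hm => ?_⟩
    · by_contra h'
      exact h ⟨ptOf g, h', rfl⟩
    · obtain ⟨x, hx, he⟩ := hm
      obtain ⟨g₁, hg₁⟩ := exists_point_eq (Z := G) (S := p.left ⁻¹' {ptOf (g ≫ p)} ∩ K₁ᶜ)
        (((isClosed_ptOf _).preimage p.left.continuous).isLocallyClosed.inter hK₁.isOpen_compl.isLocallyClosed)
        ⟨x, he, hx⟩
      have e : g₁ ≫ p = g ≫ p := ratPoint_ext _ _ hg₁.1
      obtain ⟨q, hq₁, hq₂⟩ := hpb.exists_lift _ _ e.symm
      rw [RedQuotLib.act_eq, hq₁] at hq₂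
      obtain ⟨z, b, hzb⟩ := (hK g).1 h
      refine hg₁.2 ((hK g₁).2 ⟨z, b * (q ≫ snd G B), ?_⟩)
      rw [MonObj.mul_comp, ← _root_.mul_assoc, ← hzb, hq₂]
  obtain ⟨Z, j, hj, hjred, hjrange⟩ :=
    AlgGrpLib.OrbitDimFormula.exists_reduced_immersion (X := X) (C := K) hKcl.isLocallyClosed
  haveI := hj
  haveI := hjred
  haveI : IsClosedImmersion j.left := IsClosedImmersion.of_isPreimmersion j.left (hjrange ▸ hKcl)
  haveI : Mono j := Over.mono_of_mono_left j
  haveI : IsProper Z.hom := by rw [← Over.w j]; infer_instance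
  have ho : ptOf o ∈ Set.range j.left := by
    have e : ((1 : 𝟙_ (Over (Spec (CommRingCat.of k))) ⟶ G)) ≫ p = o := by
      simp only [p]
      rw [one_comp_orbitMap, point_self (toUnit _), Category.id_comp]
    have h1 := (hKmem 1).2 ((hK 1).2 ⟨1, 1, by rw [MonObj.one_comp, MonObj.one_comp, _root_.one_mul]⟩)
    rw [e] at h1
    exact hjrange.symm ▸ h1
  haveI : Nonempty Z.left := ⟨ho.choose⟩
  haveI : IsReduced P.left := AbSchLib.isReduced_of_smooth P.hom
  haveI : LocallyOfFiniteType (P ⊗ Z).hom := by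
    change LocallyOfFiniteType (pullback.fst P.hom Z.hom ≫ P.hom)
    infer_instance
  haveI := AlgGrpLib.isReduced_tensor P Z
  obtain ⟨act, hact⟩ := exists_lift_of_points' (((i ≫ c) ⊗ₘ j) ≫ a.act) j fun b => by
    obtain ⟨g, hg⟩ := exists_ratPoint_lift p (b ≫ snd P Z ≫ j)
    have hgK : ptOf g ∈ K₁ := by
      refine (hKmem g).1 ?_
      rw [hg, ← hjrange]
      exact ⟨ptOf (b ≫ snd P Z), rfl⟩
    obtain ⟨z, b', rfl⟩ := (hK g).1 hgK
    rw [show b ≫ ((i ≫ c) ⊗ₘ j) ≫ a.act = (((b ≫ fst P Z ≫ i) ≫ c) * ((z ≫ c) * (b' ≫ iB))) ≫ p by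
      rw [mul_comp_orbitMap, hg, ← Category.assoc b]
      congr 1
      apply CartesianMonoidalCategory.hom_ext <;> simp, hjrange, hKmem, hK]
    exact ⟨(b ≫ fst P Z ≫ i) * z, b', by rw [MonObj.mul_comp _ z c, _root_.mul_assoc]⟩
  let aZ : AlgGrp.Action P Z :=
    { act := act
      one_act := by
        rw [← cancel_mono j, Category.assoc, hact, leftUnitor_hom]
        have h1 : (η[P] ▷ Z) ≫ ((i ≫ c) ⊗ₘ j) ≫ a.act = lift (1 : 𝟙_ _ ⊗ Z ⟶ G) (snd _ Z ≫ j) ≫ a.act := by
          rw [← Category.assoc]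
          congr 1
          apply CartesianMonoidalCategory.hom_ext
          · simp only [Category.assoc, tensorHom_fst, whiskerRight_fst_assoc, lift_fst]
            rw [IsMonHom.one_hom_assoc i, IsMonHom.one_hom c, Hom.one_def, toUnit_unique (toUnit _) (fst _ _)]
          · simp
        rw [h1, act_one]
      mul_act := by
        rw [← cancel_mono j]
        simp only [Category.assoc, hact]
        have h1 : (μ[P] ▷ Z) ≫ ((i ≫ c) ⊗ₘ j) ≫ a.act =
            lift ((fst (P ⊗ P) Z ≫ fst P P ≫ i ≫ c) * (fst (P ⊗ P) Z ≫ snd P P ≫ i ≫ c)) (snd _ Z ≫ j) ≫ a.act := by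
          rw [← Category.assoc]
          congr 1
          apply CartesianMonoidalCategory.hom_ext
          · simp only [Category.assoc, tensorHom_fst, whiskerRight_fst_assoc, lift_fst]
            rw [← MonObj.comp_mul, ← MonObj.mul_comp]
            rw [show μ[P] = fst P P * snd P P by rw [Hom.mul_def, lift_fst_snd, Category.id_comp]]
          · simp
        have h2 : (α_ P P Z).hom ≫ (P ◁ act) ≫ ((i ≫ c) ⊗ₘ j) ≫ a.act =
            lift (fst (P ⊗ P) Z ≫ fst P P ≫ i ≫ c)
              (lift (fst (P ⊗ P) Z ≫ snd P P ≫ i ≫ c) (snd _ Z ≫ j) ≫ a.act) ≫ a.act := by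
          rw [← Category.assoc, ← Category.assoc, ← Category.assoc]
          congr 1
          apply CartesianMonoidalCategory.hom_ext
          · simp
          · simp only [Category.assoc, tensorHom_snd, whiskerLeft_snd_assoc, lift_snd]
            rw [hact, ← Category.assoc, ← Category.assoc]
            congr 1
            apply CartesianMonoidalCategory.hom_ext <;> simp
        rw [h1, h2, act_mul] }
  haveI : Group.IsSolvable (𝟙_ (Over (Spec (CommRingCat.of k))) ⟶ P) := by
    obtain ⟨n, hn⟩ := hs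
    exact ⟨⟨n, hn _⟩⟩
  obtain ⟨x, hx⟩ := AlgGrpLib.BorelFixed.exists_isFixedPt P Z aZ
  obtain ⟨g, hg⟩ := exists_ratPoint_lift p (x ≫ j)
  obtain ⟨z, b, rfl⟩ := (hK g).1 ((hKmem g).1 (by rw [hg, ← hjrange]; exact ⟨ptOf x, rfl⟩))
  refine ⟨z, ?_⟩
  let gP : P ⟶ G := cst P (z ≫ c)
  have hfix : gP ≫ p = ((i ≫ c) * gP) ≫ p := by
    have hzp : (z ≫ c) ≫ p = x ≫ j := by
      have e : ((z ≫ c) * (b ≫ iB)) ≫ p = (z ≫ c) ≫ p := by
        obtain ⟨q, hq₁, hq₂⟩ : ∃ q : 𝟙_ (Over (Spec (CommRingCat.of k))) ⟶ G ⊗ B,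
            q ≫ fst G B = z ≫ c ∧ q ≫ ((G ◁ iB) ≫ μ[G]) = (z ≫ c) * (b ≫ iB) := ⟨lift (z ≫ c) b, lift_fst _ _, by
          rw [RedQuotLib.act_eq, lift_fst, lift_snd]⟩
        have hw := congrArg (fun m => q ≫ m) hpb.w
        rw [← hq₂, ← hq₁]
        simp only [p, Category.assoc] at hw ⊢
        first | exact hw | exact hw.symm
      rw [← e, hg]
    have h := congrArg (fun m => m ≫ j) (hx P (𝟙 P))
    simp only [aZ, Category.assoc, hact] at h
    rw [mul_comp_orbitMap, show gP ≫ p = toUnit P ≫ x ≫ j by simp only [gP, cst, Category.assoc, hzp]]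
    refine h.symm.trans ?_
    rw [← Category.assoc]
    congr 1
    apply CartesianMonoidalCategory.hom_ext <;> simp
  obtain ⟨q, hq₁, hq₂⟩ := hpb.exists_lift _ _ hfix
  refine ⟨q ≫ snd G B, ?_⟩
  rw [RedQuotLib.act_eq, hq₁] at hq₂
  rw [comp_cj, _root_.mul_assoc, ← hq₂, inv_mul_cancel_left, Category.assoc]

/-- A Borel subgroup containing a torus meets the centralizer of the torus in a Borel subgroup. -/
theorem isBorelOver_centralizer_inter {T B C D : Over (Spec (CommRingCat.of k))} [GrpObj T] [GrpObj B] [GrpObj C]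
    [GrpObj D] (hT : Red.IsTorus T) {iT : T ⟶ G} [IsMonHom iT] {iB : B ⟶ G} (hB : Red.IsBorelOver k iB) {t : T ⟶ B}
    (ht : t ≫ iB = iT) {c : C ⟶ G} (hc : Red.IsCentralizerOf iT c)
    {dC : D ⟶ C} [IsMonHom dC] {dB : D ⟶ B} (hD : IsPullback dC dB c iB) : Red.IsBorelOver k dC := by
  obtain ⟨hiB, hclB, hsmB, hconnB, hsB, -⟩ := id hB
  haveI := hiB; haveI := hclB; haveI := hsmB; haveI := hconnB
  haveI : IsAffine B.left := isAffine_of_isAffineHom iB.left
  haveI : Mono iB := Over.mono_of_mono_left _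
  haveI := hc.1
  haveI := hc.2.1
  haveI : IsMonHom (t ≫ iB) := by rw [ht]; infer_instance
  haveI := isMonHom_of_comp_mono' t iB
  have hDc := isCentralizerOf_pullback ht hc hD
  haveI := hDc.1
  haveI := hDc.2.1
  obtain ⟨hsmD, hclD⟩ := CentConn12.smooth_closed hT t hDc
  obtain ⟨hsmC, hclC⟩ := CentConn12.smooth_closed hT iT hc
  haveI := hsmD; haveI := hclD; haveI := hclC
  haveI : IsClosedImmersion dC.left := by
    haveI : IsClosedImmersion (dC.left ≫ c.left) := by
      rw [← Over.comp_left, hD.w, Over.comp_left]; infer_instance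
    exact IsClosedImmersion.of_comp dC.left c.left
  haveI : ConnectedSpace D.left := CentConn12.connected_affine hT t hDc
  refine ⟨inferInstance, inferInstance, hsmD, inferInstance, isSolvableGrp_of_mono dB hsB,
    fun D' _ i' _ f hcl' hsm' hconn' hs' hf => ?_⟩
  haveI := hcl'; haveI := hsm'; haveI := hconn'
  obtain ⟨x, h, hh⟩ := exists_conj_into_centralizer_inter hT hB ht hc i' hs'
  have hh' : (i' ≫ cj x) ≫ c = h ≫ iB := by
    rw [hh, comp_cj, comp_cj]
    simp only [cst, MonObj.mul_comp, GrpObj.inv_comp, Category.assoc]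
  let q : D' ⟶ D := hD.lift (i' ≫ cj x) h hh'
  let e : D' ⟶ D' := q ≫ f
  haveI : IsIso (cj x).left := inferInstanceAs (IsIso ((Over.forget _).map (cj x)))
  haveI : IsClosedImmersion e.left := by
    haveI : IsClosedImmersion (e.left ≫ i'.left) := by
      rw [← Over.comp_left, show e ≫ i' = i' ≫ cj x by
        simp only [e, q, Category.assoc, hf, IsPullback.lift_fst], Over.comp_left]
      infer_instance
    exact IsClosedImmersion.of_comp e.left i'.left
  haveI : IsReduced D'.left := AbSchLib.isReduced_of_smooth D'.hom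
  haveI : IsAffine C.left := isAffine_of_isAffineHom c.left
  haveI : IsAffine D'.left := isAffine_of_isAffineHom i'.left
  haveI : QuasiCompact D'.hom := (quasiCompact_iff_compactSpace D'.hom).2 inferInstance
  haveI : IsLocallyNoetherian D'.left := LocallyOfFiniteType.isLocallyNoetherian D'.hom
  haveI : IsNoetherian D'.left := {}
  haveI : IsIso e.left := isIso_of_closedImmersion_endo e.left
  haveI : IsClosedImmersion f.left := by
    haveI : IsClosedImmersion (f.left ≫ i'.left) := by rw [← Over.comp_left, hf]; infer_instance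
    exact IsClosedImmersion.of_comp f.left i'.left
  haveI : Surjective f.left := ⟨fun y => ⟨q.left (inv e.left y), by
    rw [← Scheme.Hom.comp_apply, ← Scheme.Hom.comp_apply, ← Over.comp_left, IsIso.inv_hom_id]; rfl⟩⟩
  haveI : IsIso f.left := isIso_of_isClosedImmersion_of_surjective f.left
  haveI : IsIso ((Over.forget _).map f) := ‹IsIso f.left›
  exact isIso_of_reflects_iso f (Over.forget _)

end Groth.Agent.AGFQuot23
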