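import Groth.Agent.AGFQuot23.TorusBorel
import Groth.Agent.MaxTorus26.Basic
import Groth.Agent.SGA3cLib.Transporter

/-!
# Borel subgroups of centralizers of tori extend to Borel subgroups
-/

set_option autoImplicit false
set_option backward.isDefEq.respectTransparency false
set_option linter.style.haveILetI false
set_option maxHeartbeats 1000000

universe u

open CategoryTheory CategoryTheory.Limits MonoidalCategory CartesianMonoidalCategory MonObj GrpObj AlgebraicGeometry

namespace Groth.Agent.AGFQuot23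

variable {k : Type u} [Field k] [IsAlgClosed k] {G : Over (Spec (CommRingCat.of k))} [GrpObj G]
  [IsAffine G.left] [Smooth G.hom] [ConnectedSpace G.left]

/-- A smooth connected solvable subgroup lies in a Borel subgroup. -/
theorem exists_borel_containing {P : Over (Spec (CommRingCat.of k))} [GrpObj P] (i : P ⟶ G) [IsMonHom i]
    [IsClosedImmersion i.left] [Smooth P.hom] [ConnectedSpace P.left] (hs : Red.IsSolvableGrp P) :
    ∃ (B : Over (Spec (CommRingCat.of k))) (_ : GrpObj B) (iB : B ⟶ G) (h : P ⟶ B),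
      Red.IsBorelOver k iB ∧ h ≫ iB = i := by
  haveI : QuasiCompact G.hom := (quasiCompact_iff_compactSpace G.hom).2 inferInstance
  obtain ⟨B, _, iB, hB, -⟩ := exists_borel_selfNormalizing (G := G)
  obtain ⟨hiB, hclB, hsmB, hconnB, -, -⟩ := id hB
  haveI := hiB; haveI := hclB; haveI := hsmB; haveI := hconnB
  haveI : QuasiCompact B.hom := by rw [← Over.w iB]; infer_instance
  haveI : Mono iB := Over.mono_of_mono_left _
  obtain ⟨X, a, o, -, hLX, -, hfl, hsur, hpb⟩ := AlgGrpLib.HomogQuotProj.exists_quotient_projMono G B iB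
  obtain ⟨g, h, hh⟩ := exists_factor_of_isProper i hs ⟨hLX, hfl, hsur, hpb⟩
    (isProper_of_isBorelOver hB ⟨hLX, hfl, hsur, hpb⟩)
  exact ⟨B, inferInstance, iB ≫ cj g⁻¹, h, isBorelOver_comp_cj hB g⁻¹,
    by rw [reassoc_of% hh, cj_comp, mul_inv_cancel, cj_one, Category.comp_id]⟩

/-- A Borel subgroup of the centralizer of a torus is cut out by a Borel subgroup containing the torus. -/
theorem borel_of_centralizer_eq_inter {T C D : Over (Spec (CommRingCat.of k))} [GrpObj T] [GrpObj C] [GrpObj D]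
    (hT : Red.IsTorus T) {iT : T ⟶ G} [IsMonHom iT] {c : C ⟶ G} (hc : Red.IsCentralizerOf iT c)
    {dC : D ⟶ C} (hD : Red.IsBorelOver k dC) :
    ∃ (B : Over (Spec (CommRingCat.of k))) (_ : GrpObj B) (iB : B ⟶ G) (t : T ⟶ B) (dB : D ⟶ B),
      Red.IsBorelOver k iB ∧ t ≫ iB = iT ∧ IsPullback dC dB c iB := by
  obtain ⟨hdC, hclD, hsmD, hconnD, hsD, hmax⟩ := id hD
  haveI := hdC; haveI := hclD; haveI := hsmD; haveI := hconnD
  haveI := hc.1
  haveI := hc.2.1
  obtain ⟨hsmC, hclC⟩ := CentConn12.smooth_closed hT iT hc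
  haveI := hsmC; haveI := hclC
  haveI : IsAffine C.left := isAffine_of_isAffineHom c.left
  haveI : ConnectedSpace C.left := CentConn12.connected_affine hT iT hc
  obtain ⟨tC, htC⟩ := (hc.2.2 T iT).2 fun X x y => by
    rw [← MonObj.mul_comp, ← MonObj.mul_comp, SGA3cLib.torus_mul_comm hT]
  obtain ⟨tD, htD⟩ := exists_factor_of_central hD tC fun W w x => by
    rw [← cancel_mono c, MonObj.mul_comp, MonObj.mul_comp, Category.assoc, htC]
    have h := (hc.2.2 W (x ≫ c)).1 ⟨x, rfl⟩ W (𝟙 W) w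
    rw [Category.id_comp] at h
    exact h.symm
  haveI : IsClosedImmersion (dC ≫ c).left := by rw [Over.comp_left]; infer_instance
  obtain ⟨B, _, iB, h, hB, hh⟩ := exists_borel_containing (dC ≫ c) hsD
  obtain ⟨hiB, hclB, hsmB, -⟩ := id hB
  haveI := hiB; haveI := hclB
  haveI : Mono iB := Over.mono_of_mono_left _
  have ht : (tD ≫ h) ≫ iB = iT := by rw [Category.assoc, hh, reassoc_of% htD, htC]
  haveI : IsMonHom ((tD ≫ h) ≫ iB) := by rw [ht]; infer_instance
  haveI := isMonHom_of_comp_mono' (tD ≫ h) iB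
  haveI : Mono (pullback.fst c iB) := inferInstance
  obtain ⟨_, hm⟩ := SGA3cLib.exists_grpObj_of_subgroup (pullback.fst c iB)
    (fun W => ⟨pullback.lift 1 1 (by rw [MonObj.one_comp, MonObj.one_comp]), pullback.lift_fst _ _ _⟩)
    (fun W a b => ⟨pullback.lift ((a ≫ pullback.fst c iB) * (b ≫ pullback.fst c iB))
      ((a ≫ pullback.snd c iB) * (b ≫ pullback.snd c iB)) (by
        simp only [MonObj.mul_comp, Category.assoc, pullback.condition]), pullback.lift_fst _ _ _⟩)
    (fun W a => ⟨pullback.lift (a ≫ pullback.fst c iB)⁻¹ (a ≫ pullback.snd c iB)⁻¹ (by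
        simp only [GrpObj.inv_comp, Category.assoc, pullback.condition]), pullback.lift_fst _ _ _⟩)
  haveI := hm
  have hP := IsPullback.of_hasPullback c iB
  have hBor := isBorelOver_centralizer_inter hT hB ht hc hP
  obtain ⟨hm', hcl', hsm', hconn', hs', -⟩ := hBor
  let e : D ⟶ pullback c iB := pullback.lift dC h hh.symm
  haveI : IsIso e := hmax _ (pullback.fst c iB) e hcl' hsm' hconn' hs' (pullback.lift_fst _ _ _)
  refine ⟨B, inferInstance, iB, tD ≫ h, h, hB, ht, IsPullback.of_iso hP (asIso e).symm (Iso.refl _) (Iso.refl _)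
    (Iso.refl _) ?_ ?_ (by simp) (by simp)⟩
  · simp only [Iso.refl_hom, Category.comp_id, Iso.symm_hom, asIso_inv, IsIso.eq_inv_comp]
    exact pullback.lift_fst _ _ _
  · simp only [Iso.refl_hom, Category.comp_id, Iso.symm_hom, asIso_inv, IsIso.eq_inv_comp]
    exact pullback.lift_snd _ _ _

/-- A point normalizing a Borel subgroup and a maximal torus in it centralizes the torus. -/
theorem conjBy_eq_of_normalizes {T B : Over (Spec (CommRingCat.of k))} [GrpObj T] [GrpObj B] {iT : T ⟶ G}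
    (hTt : Red.IsTorus T) [IsMonHom iT] [Mono iT] {iB : B ⟶ G} (hB : Red.IsBorelOver k iB) {t : T ⟶ B}
    (ht : t ≫ iB = iT) (n : 𝟙_ (Over (Spec (CommRingCat.of k))) ⟶ G) {τ : T ⟶ T}
    (hτ : τ ≫ iT = cst T n * iT * (cst T n)⁻¹) {σ : B ⟶ B} [IsIso σ] (hσ : σ ≫ iB = cst B n * iB * (cst B n)⁻¹) :
    cst T n * iT * (cst T n)⁻¹ = iT := by
  obtain ⟨hiB, hclB, hsmB, hconnB, hsB, -⟩ := id hB
  haveI := hiB; haveI := hclB; haveI := hsmB; haveI := hconnB
  haveI : IsAffine B.left := isAffine_of_isAffineHom iB.left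
  haveI : Mono iB := Over.mono_of_mono_left _
  haveI : IsMonHom (t ≫ iB) := by rw [ht]; infer_instance
  haveI := isMonHom_of_comp_mono' t iB
  haveI : Mono t := by
    haveI : Mono (t ≫ iB) := by rw [ht]; infer_instance
    exact mono_of_mono t iB
  obtain ⟨b, hb⟩ := exists_factor_of_norms hB n fun W w x => ⟨x ≫ inv σ, by
    have e := congrArg (fun m => (x ≫ inv σ) ≫ m) hσ
    simp only [MonObj.comp_mul, GrpObj.comp_inv, point_comp_cst, Category.assoc, IsIso.inv_hom_id_assoc] at e
    rw [show w = toUnit W from toUnit_unique _ _, Category.assoc, e]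
    simp only [cst]
    group⟩
  obtain ⟨S, _, s, π, hS, hs', hπ, hsπ, huniv⟩ := HMTor29.MaxTorus.exists_complement (k := k) (H := B) hsB
  haveI := hs'; haveI := hπ
  have hτt : τ ≫ t = cst T b * t * (cst T b)⁻¹ := by
    rw [← cancel_mono iB, Category.assoc, ht, hτ]
    simp only [cst, MonObj.mul_comp, GrpObj.inv_comp, Category.assoc, ht, hb]
  have hπt : (τ ≫ t) ≫ π = t ≫ π := by
    rw [hτt, MonObj.mul_comp, MonObj.mul_comp, GrpObj.inv_comp, SGA3cLib.torus_mul_comm hS, inv_mul_cancel_left]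
  obtain ⟨v, hv⟩ := huniv T hTt t
  haveI : Mono (t ≫ π) := ⟨fun {W} p q hpq => by
    rw [← cancel_mono t, hv]
    simp only [MonObj.comp_mul, GrpObj.comp_inv, ← Category.assoc, comp_toUnit]
    simp only [← Category.assoc] at hpq
    rw [hpq]⟩
  have hid : τ = 𝟙 T := by
    rw [← cancel_mono (t ≫ π), Category.id_comp, ← Category.assoc, hπt]
  rw [← hτ, hid, Category.id_comp]

end Groth.Agent.AGFQuot23
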